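import Cfsg.Agent.Lib.S1645.NineCore
import Cfsg.Agent.Lib.BSW.Main
import Mathlib.GroupTheory.Nilpotent

/-!
# S1645: `n = 9` is impossible

`R = C(y)` modulo `⟨y⟩` satisfies the hypothesis of the theorem of Brauer, Suzuki and Wall with a
centraliser of order `36`; so it has order `25308` or `21420`, and both are absurd.

Owner: helper25.
-/

set_option autoImplicit false
set_option linter.style.haveILetI false
set_option linter.unusedSectionVars false

universe u

namespace Cfsg.Agent.Lib.S1645.Nine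

open Subgroup Equiv Equiv.Perm
open Cfsg.Agent.Lib.S1645.P9
open Cfsg.Agent.Lib.BC77.Hall4 (fx mem_fx card_four)

/-- A group of automorphisms of exponent `e` of a cyclic group of order `n`, faithful, is small. -/
theorem card_le_roots {G : Type u} [Group G] [Finite G] {D : Subgroup G} {q0 : G} {n e : ℕ}
    (hn : orderOf q0 = n) (hn0 : 1 < n) (hD : ∀ d ∈ D, d * q0 * d⁻¹ ∈ zpowers q0)
    (he : ∀ d ∈ D, d ^ e = 1) (hf : ∀ d ∈ D, d * q0 = q0 * d → d = 1) :
    Nat.card D ≤ (Finset.univ.filter fun i : Fin n => i.val ^ e % n = 1).card := by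
  classical
  have hex : ∀ d : D, ∃ i : Fin n, (d : G) * q0 * (d : G)⁻¹ = q0 ^ i.val := by
    intro d
    have h := hD d d.2
    rw [mem_zpowers_iff_mem_range_orderOf, Finset.mem_image] at h
    obtain ⟨i, hi, e1⟩ := h
    exact ⟨⟨i, hn ▸ Finset.mem_range.1 hi⟩, e1.symm⟩
  choose f hf' using hex
  have hpow : ∀ (d : D) (k : ℕ), (d : G) ^ k * q0 * ((d : G) ^ k)⁻¹ = q0 ^ ((f d).val ^ k) := by
    intro d k
    induction k with
    | zero => simp
    | succ k ih =>
      calc (d : G) ^ (k + 1) * q0 * ((d : G) ^ (k + 1))⁻¹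
          = (d : G) * ((d : G) ^ k * q0 * ((d : G) ^ k)⁻¹) * (d : G)⁻¹ := by rw [pow_succ']; group
        _ = ((d : G) * q0 * (d : G)⁻¹) ^ ((f d).val ^ k) := by rw [ih, conj_pow]
        _ = _ := by rw [hf', ← pow_mul, pow_succ']
  have hmem : ∀ d : D, f d ∈ Finset.univ.filter fun i : Fin n => i.val ^ e % n = 1 := by
    intro d
    refine Finset.mem_filter.2 ⟨Finset.mem_univ _, ?_⟩
    have h := hpow d e
    rw [he d d.2, inv_one, one_mul, mul_one] at h
    have h2 : q0 ^ (1 : ℕ) = q0 ^ ((f d).val ^ e) := by rw [pow_one]; exact h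
    rw [pow_eq_pow_iff_modEq, hn] at h2
    have h3 : 1 % n = (f d).val ^ e % n := h2
    rw [Nat.mod_eq_of_lt hn0] at h3
    exact h3.symm
  have hinj : Function.Injective fun d : D =>
      (⟨f d, hmem d⟩ : {i // i ∈ Finset.univ.filter fun i : Fin n => i.val ^ e % n = 1}) := by
    intro d d' h
    have h' : f d = f d' := congrArg Subtype.val h
    have h1 : (d : G) * q0 * (d : G)⁻¹ = (d' : G) * q0 * (d' : G)⁻¹ := by rw [hf', hf', h']
    have h2 := hf _ (mul_mem (inv_mem d'.2) d.2) (by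
      calc (d' : G)⁻¹ * d * q0 = (d' : G)⁻¹ * ((d : G) * q0 * (d : G)⁻¹) * d := by group
        _ = q0 * ((d' : G)⁻¹ * d) := by rw [h1]; group)
    exact Subtype.ext (inv_mul_eq_one.1 h2).symm
  have := Nat.card_le_card_of_injective _ hinj
  rwa [Nat.card_eq_finsetCard] at this

namespace Ctx

variable {G : Type u} [Group G] [Finite G] {z : G} (Γ : Ctx G z)
include Γ

theorem U_involution {e : G} (he : e ∈ Γ.U) (h2 : orderOf e = 2) : e = z := by
  rcases Γ.U_cases he with ⟨a, ha, rfl | h⟩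
  · exact absurd (h2 ▸ Γ.A_odd ha) (by decide)
  · subst h
    have h1 : a ^ 2 = 1 := by
      have := pow_orderOf_eq_one (a * z)
      rwa [h2, (show Commute a z from Γ.A_z ha).mul_pow, pow_two z, Γ.zz, mul_one] at this
    have : a = 1 := by
      have h3 := Γ.A_cube ha
      rwa [pow_succ, h1, one_mul] at h3
    rw [this, one_mul]

theorem z_y : z * Γ.y = Γ.y * z := Γ.y_z.symm

/-- `t a t⁻¹ a ∈ ⟨y⟩`. -/
theorem t_inverts {a : G} (ha : a ∈ Γ.A) : Γ.t * a * Γ.t⁻¹ * a ∈ zpowers Γ.y := by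
  obtain ⟨i, j, k, rfl⟩ := ha
  have e : Γ.t * Γ.el i j k * Γ.t⁻¹ = Γ.el (2 * i) k j := by
    have e1 : Γ.t * Γ.el i j k * Γ.t⁻¹ = (Γ.t * Γ.x * Γ.t⁻¹) ^ i * (Γ.t * Γ.x1 * Γ.t⁻¹) ^ j *
        (Γ.t * Γ.x2 * Γ.t⁻¹) ^ k := by
      rw [conj_pow, conj_pow, conj_pow, el]; group
    rw [e1, Γ.t_x, Γ.t_x1, Γ.t_x2, ← pow_mul, el, mul_assoc (Γ.x ^ (2 * i)) (Γ.x1 ^ k),
      ← (Γ.x2_x1.pow_pow j k).eq, ← mul_assoc]
  rw [e, Γ.el_mul]
  have e2 : Γ.el (2 * i + i) (k + j) (j + k) = Γ.y ^ (j + k) := by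
    rw [y, Γ.x2_x1.symm.mul_pow, el, show 2 * i + i = 3 * i by ring, pow_mul, Γ.x3, one_pow, one_mul,
      add_comm k j]
  rw [e2]
  exact pow_mem (mem_zpowers _) _

theorem zpowers_y_le : zpowers Γ.y ≤ Γ.A := zpowers_le.2 Γ.y_mem

/-- An element normalising `A` centralises `z`. -/
theorem normalizer_A {o : G} (ho : ∀ a ∈ Γ.A, o * a * o⁻¹ ∈ Γ.A) : o * z = z * o := by
  have h := comm_inv_conj (g := o) (Γ.A_z (ho _ Γ.x_mem))
  rw [show o⁻¹ * (o * Γ.x * o⁻¹) * o = Γ.x by group] at h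
  have hcz := Γ.cx_le h.symm
  have h2 : orderOf (o⁻¹ * z * o) = 2 := by
    rw [show o⁻¹ * z * o = MulAut.conj o⁻¹ z by simp, (MulAut.conj o⁻¹).orderOf_eq]
    exact Γ.D.orderOf_z
  have := Γ.soloY.only _ (Γ.mem_Y.2 h.symm) h2 hcz
  calc o * z = o * (o⁻¹ * z * o) := by rw [this]
    _ = z * o := by group

/-- For `a ∈ A ∖ ⟨y⟩`: the centraliser of `y` and `a` lies in `C(z)`. -/
theorem cent_le {g : G} (hg1 : g * z * g⁻¹ = Γ.t) (hg2 : g * Γ.t * g⁻¹ = Γ.t * z)
    (hgy : g * Γ.y * g⁻¹ = Γ.y ∨ g * Γ.y * g⁻¹ = Γ.y⁻¹) {a : G} (ha : a ∈ Γ.A)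
    (hay : a ∉ zpowers Γ.y) {m : G} (hmy : m * Γ.y = Γ.y * m) (hma : m * a = a * m) :
    m * z = z * m := by
  set M := centralizer ({Γ.y} : Set G) ⊓ centralizer ({a} : Set G) with hM
  have memM : ∀ {u : G}, u ∈ M ↔ u * Γ.y = Γ.y * u ∧ u * a = a * u := fun {u} => by
    rw [hM, Subgroup.mem_inf, mem_centralizer_singleton_iff, mem_centralizer_singleton_iff]
  have hU : ∀ {u : G}, u ∈ M → u * z = z * u → u ∈ Γ.U := by
    intro u hu huz
    obtain ⟨h1, h2⟩ := memM.1 hu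
    refine (Γ.cases_cz huz h1).resolve_right fun h => hay ?_
    have h3 : Γ.t * a = a * Γ.t := by
      have c1 : Commute (Γ.t * u) a := Γ.U_comm h (Γ.A_le_U ha)
      have c2 : Commute u⁻¹ a := (show Commute u a from h2).inv_left
      have := (c1.mul_left c2).eq
      simpa [mul_assoc] using this
    obtain ⟨i, j, k, rfl⟩ := Γ.exists_fin ha
    have hR := Γ.r_el i j k
    have hp := Γ.D.lift_comm Γ.rt hR h3
    obtain ⟨hi, hjk⟩ := pA_fixed_by_tau i j k (mul_inv_eq_iff_eq_mul.2 hp)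
    subst hi hjk
    have : Γ.el ((0 : Fin 3) : ℕ) j j = Γ.y ^ (j : ℕ) := by
      rw [y, Γ.x2_x1.symm.mul_pow, el]; simp
    rw [this]
    exact pow_mem (mem_zpowers _) _
  have hzM : z ∈ M := memM.2 ⟨Γ.z_y, (Γ.A_z ha).symm⟩
  have hS : Solo M z := ⟨hzM, Γ.D.orderOf_z, fun e he he2 hez => Γ.U_involution (hU he hez) he2⟩
  have hnz : ∀ u ∈ M, z * u * z⁻¹ ∈ M := fun u hu => mul_mem (mul_mem hzM hu) (inv_mem hzM)
  have hnt : ∀ u ∈ M, Γ.t * u * Γ.t⁻¹ ∈ M := by
    intro u hu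
    obtain ⟨h1, h2⟩ := memM.1 hu
    obtain ⟨i, hi⟩ := mem_zpowers_iff.1 (Γ.t_inverts ha)
    have ea : a = (Γ.t * a * Γ.t⁻¹)⁻¹ * Γ.y ^ i := by rw [hi]; group
    have c1 : Commute (Γ.t * u * Γ.t⁻¹) Γ.y := by
      have h := comm_conj (g := Γ.t) h1
      rwa [show Γ.t * Γ.y * Γ.t⁻¹ = Γ.y by rw [Γ.t_y, mul_inv_cancel_right]] at h
    have c2 : Commute (Γ.t * u * Γ.t⁻¹) (Γ.t * a * Γ.t⁻¹) := comm_conj h2
    refine memM.2 ⟨c1.eq, ?_⟩
    rw [ea]
    exact (c2.inv_right.mul_right (c1.zpow_right i)).eq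
  set O := ocore M with hO
  have hOn : ∀ {h : G}, (∀ u ∈ M, h * u * h⁻¹ ∈ M) → (∀ u ∈ M, h⁻¹ * u * h ∈ M) →
      ∀ o ∈ O, h * o * h⁻¹ ∈ O := fun h1 h2 o ho => ocore_conj h1 h2 ho
  have nz : ∀ o ∈ O, z * o * z⁻¹ ∈ O := fun o ho => ocore_normal hzM ho
  have nt : ∀ o ∈ O, Γ.t * o * Γ.t⁻¹ ∈ O := hOn hnt (fun u hu => by
    have := hnt u hu
    rwa [Γ.tinv] at this ⊢)
  have hOodd : Odd (Nat.card O) := ocore_odd M
  have conjy' : ∀ {e : G}, e * Γ.y = Γ.y * e → (g⁻¹ * e * g) * Γ.y = Γ.y * (g⁻¹ * e * g) :=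
    fun {e} h => (comm_of_conj (y := Γ.y) (e := g⁻¹ * e * g) hgy).2 (by
      rw [show g * (g⁻¹ * e * g) * g⁻¹ = e by group]; exact h)
  have inv2 : g⁻¹ * Γ.t * g = z := by rw [← hg1]; group
  have inv3 : g⁻¹ * (Γ.t * z) * g = Γ.t := by rw [← hg2]; group
  have d27 : ∀ (L : Subgroup G) (h : G), (∀ l ∈ L, h⁻¹ * l * h ∈ Γ.A) → Nat.card L ∣ 27 := by
    intro L h hL
    have h1 : L.map (MulAut.conj h⁻¹).toMonoidHom ≤ Γ.A := by
      rintro _ ⟨l, hl, rfl⟩
      simpa using hL l hl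
    have h2 := Subgroup.card_dvd_of_le h1
    rwa [Γ.card_A, Subgroup.card_map_of_injective (MulAut.conj h⁻¹).injective] at h2
  have oddO : ∀ {l : G}, l ∈ O → Odd (orderOf l) := fun hl => odd_order_of_mem hOodd hl
  have yO : ∀ {l : G}, l ∈ O → l * Γ.y = Γ.y * l := fun hl => (memM.1 (ocore_le M hl)).1
  have h1 : Nat.card (fx z O) ∣ 27 := d27 _ 1 fun l hl => by
    obtain ⟨hlO, hlz⟩ := mem_fx.1 hl
    simpa using Γ.mem_A hlz.symm (yO hlO) (oddO hlO)
  have h2 : Nat.card (fx Γ.t O) ∣ 27 := d27 _ g fun l hl => by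
    obtain ⟨hlO, hlt⟩ := mem_fx.1 hl
    refine Γ.mem_A ?_ (conjy' (yO hlO)) (Γ.oddc' g (oddO hlO))
    have h := comm_inv_conj (g := g) hlt.symm
    rwa [inv2] at h
  have h3 : Nat.card (fx (z * Γ.t) O) ∣ 27 := d27 _ (g * g) fun l hl => by
    obtain ⟨hlO, hlt⟩ := mem_fx.1 hl
    rw [show (g * g)⁻¹ * l * (g * g) = g⁻¹ * (g⁻¹ * l * g) * g by group]
    refine Γ.mem_A ?_ (conjy' (conjy' (yO hlO))) (Γ.oddc' g (Γ.oddc' g (oddO hlO)))
    rw [← Γ.t_z] at hlt
    have h := comm_inv_conj (g := g) (comm_inv_conj (g := g) hlt.symm)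
    rwa [inv3, inv2] at h
  have h4 := card_four hOodd Γ.zz Γ.tt Γ.t_z.symm nz nt
  have h5 : Nat.card O ∣ 3 ^ 9 :=
    (Dvd.intro _ h4).trans (by
      rw [show (3 : ℕ) ^ 9 = 27 * 27 * 27 by norm_num]
      exact Nat.mul_dvd_mul (Nat.mul_dvd_mul h1 h2) h3)
  haveI : Fact (Nat.Prime 3) := ⟨Nat.prime_three⟩
  have hOp : IsPGroup 3 O := by
    obtain ⟨i, -, hi⟩ := (Nat.dvd_prime_pow Nat.prime_three).1 h5
    exact IsPGroup.of_card hi
  have hAM : Γ.A ≤ M := fun u hu => memM.2 ⟨Γ.A_y hu, Γ.A_comm hu ha⟩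
  have hAp : IsPGroup 3 Γ.A := fun u => ⟨1, Subtype.ext (by
    rw [SubmonoidClass.coe_pow, pow_one]; exact Γ.A_cube u.2)⟩
  have hAnorm : Γ.A ≤ normalizer (O : Set G) := by
    intro u hu
    rw [Subgroup.mem_normalizer_iff]
    refine fun o => ⟨fun ho => ocore_normal (hAM hu) ho, fun ho => ?_⟩
    have h := ocore_normal (inv_mem (hAM hu)) ho
    rwa [show u⁻¹ * (u * o * u⁻¹) * u⁻¹⁻¹ = o by group] at h
  set L := Γ.A ⊔ O with hL
  have hLp : IsPGroup 3 L := hAp.to_sup_of_normal_right' hOp hAnorm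
  have hLM : L ≤ M := sup_le hAM (ocore_le M)
  have hLA : L = Γ.A := by
    by_contra hne
    haveI := hLp.isNilpotent
    have hlt : Γ.A.subgroupOf L < ⊤ := lt_top_iff_ne_top.2 fun e =>
      hne (le_antisymm (Subgroup.subgroupOf_eq_top.1 e) le_sup_left)
    obtain ⟨o, hoN, hoA⟩ := SetLike.exists_of_lt (Group.normalizerCondition_of_isNilpotent (G := L) _ hlt)
    have hon : ∀ u ∈ Γ.A, (o : G) * u * (o : G)⁻¹ ∈ Γ.A := by
      intro u hu
      exact ((Subgroup.mem_normalizer_iff.1 hoN ⟨u, (le_sup_left : Γ.A ≤ L) hu⟩).1 hu)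
    have hoz := Γ.normalizer_A hon
    have hodd : Odd (orderOf (o : G)) := by
      obtain ⟨i, hi⟩ := hLp o
      have hi' : (o : G) ^ 3 ^ i = 1 := by rw [← SubmonoidClass.coe_pow, hi]; rfl
      exact ((by decide : Odd 3).pow).of_dvd_nat (orderOf_dvd_of_pow_eq_one hi')
    exact hoA (Γ.mem_A_of_odd (hU (hLM o.2) hoz) hodd)
  obtain ⟨o, ho, c, -, hc, rfl⟩ := hS.factor (memM.2 ⟨hmy, hma⟩)
  have hoA : o ∈ Γ.A := hLA ▸ (le_sup_right : O ≤ L) ho
  exact ((show Commute o z from Γ.A_z hoA).mul_left hc).eq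

end Ctx

end Cfsg.Agent.Lib.S1645.Nine

namespace Cfsg.Agent.Lib.S1645

open Subgroup Equiv Equiv.Perm

/-- No case `n = 9`. -/
theorem propNine : PropNine.{u} := by
  intro G _ _ z π S F
  obtain ⟨Γ⟩ := Nine.exists_ctx S F
  obtain ⟨g, hg1, hg2, hg3, hgy⟩ := Γ.exists_g
  set R := centralizer ({Γ.y} : Set G) with hR
  have memR : ∀ {u : G}, u ∈ R ↔ u * Γ.y = Γ.y * u := mem_centralizer_singleton_iff
  have hUR : Γ.U ≤ R := fun u hu => memR.2 (Γ.U_comm hu (Γ.A_le_U Γ.y_mem))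
  have hzR : z ∈ R := memR.2 Γ.z_y
  have htR : Γ.t ∈ R := memR.2 Γ.t_y
  let yR : R := ⟨Γ.y, memR.2 rfl⟩
  let N : Subgroup R := zpowers yR
  haveI hN : N.Normal := ⟨fun n hn r => by
    obtain ⟨i, rfl⟩ := mem_zpowers_iff.1 hn
    have hc : Commute r yR := Subtype.ext (memR.1 r.2)
    rw [(hc.zpow_right i).eq, mul_inv_cancel_right]
    exact zpow_mem (mem_zpowers _) _⟩
  let mk : R →* R ⧸ N := QuotientGroup.mk' N
  have memN : ∀ {r : R}, mk r = 1 ↔ (r : G) ∈ zpowers Γ.y := by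
    intro r
    rw [QuotientGroup.mk'_apply, QuotientGroup.eq_one_iff]
    simp only [N, mem_zpowers_iff]
    exact ⟨fun ⟨i, hi⟩ => ⟨i, by rw [← hi]; rfl⟩, fun ⟨i, hi⟩ => ⟨i, Subtype.ext hi⟩⟩
  have small : ∀ {c : G}, c ∈ zpowers Γ.y → c * c = 1 → c = 1 := by
    intro c hc h2
    have h3 := Γ.A_cube (Γ.zpowers_y_le hc)
    rwa [pow_succ, pow_two, h2, one_mul] at h3
  have ynotz : z ∉ zpowers Γ.y := fun h => Γ.z_notMem (Γ.zpowers_y_le h)
  have ynott : Γ.t ∉ zpowers Γ.y := fun h => Γ.t_notMem_U (Γ.A_le_U (Γ.zpowers_y_le h))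
  set zR : R := ⟨z, hzR⟩ with hzRdef
  set tR : R := ⟨Γ.t, htR⟩ with htRdef
  set K : Subgroup (R ⧸ N) := (Γ.U.subgroupOf R).map mk with hK
  have memK : ∀ {r : R}, mk r ∈ K ↔ (r : G) ∈ Γ.U := by
    intro r
    refine ⟨fun ⟨v, hv, e⟩ => ?_, fun h => ⟨r, h, rfl⟩⟩
    have h : mk (v⁻¹ * r) = 1 := by rw [map_mul, map_inv, e, inv_mul_cancel]
    have h' := mul_mem (Subgroup.mem_subgroupOf.1 hv) (Γ.A_le_U (Γ.zpowers_y_le (memN.1 h)))
    simpa using h'
  -- commuting with `z` modulo `⟨y⟩`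
  have comm_lift : ∀ {r : R}, mk r * mk zR = mk zR * mk r → (r : G) * z = z * r := by
    intro r h
    have h1 : mk (r * zR * r⁻¹ * zR⁻¹) = 1 := by
      rw [map_mul, map_mul, map_mul, h, map_inv, map_inv]; group
    have h2 : (r : G) * z * (r : G)⁻¹ * z⁻¹ ∈ zpowers Γ.y := memN.1 h1
    set c := (r : G) * z * (r : G)⁻¹ * z⁻¹ with hc
    have hcz : Commute c z := Γ.A_z (Γ.zpowers_y_le h2)
    have hcc : c * c = 1 := by
      have e : (r : G) * z * (r : G)⁻¹ = c * z := by rw [hc]; group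
      have e2 : (c * z) * (c * z) = 1 := by
        rw [← e, show (r : G) * z * (r : G)⁻¹ * ((r : G) * z * (r : G)⁻¹) =
          (r : G) * (z * z) * (r : G)⁻¹ by group, Γ.zz]
        group
      rwa [show c * z * (c * z) = c * (z * c) * z by group, ← hcz.eq,
        show c * (c * z) * z = c * c * (z * z) by group, Γ.zz, mul_one] at e2
    have := small h2 hcc
    rw [hc, mul_inv_eq_one, mul_inv_eq_iff_eq_mul] at this
    exact this
  -- involutions of `C(y)` are conjugate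
  have g2R : g * g ∈ R := memR.2 (by
    refine mul_inv_eq_iff_eq_mul.1 ?_
    rw [show g * g * Γ.y * (g * g)⁻¹ = g * (g * Γ.y * g⁻¹) * g⁻¹ by group]
    rcases hgy with e | e <;> rw [e]
    · exact e
    · rw [show g * Γ.y⁻¹ * g⁻¹ = (g * Γ.y * g⁻¹)⁻¹ by group, e, inv_inv])
  let Cj : G → Prop := fun e => ∃ h ∈ R, h * z * h⁻¹ = e
  have cjt : Cj Γ.t := ⟨(g * g)⁻¹, inv_mem g2R, by
    have inv1 : g⁻¹ * z * g = Γ.t * z := by
      nth_rewrite 1 [← hg3]
      group
    have inv3 : g⁻¹ * (Γ.t * z) * g = Γ.t := by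
      rw [← hg2]
      group
    rw [show (g * g)⁻¹ * z * (g * g)⁻¹⁻¹ = g⁻¹ * (g⁻¹ * z * g) * g by
      simp only [mul_inv_rev, inv_inv, mul_assoc], inv1, inv3]⟩
  have cjtz : Cj (Γ.t * z) := ⟨g * g, g2R, by
    rw [show g * g * z * (g * g)⁻¹ = g * (g * z * g⁻¹) * g⁻¹ by group, hg1, hg2]⟩
  have cjconj : ∀ {e h : G}, h ∈ R → Cj e → Cj (h * e * h⁻¹) := by
    rintro e h hh ⟨k, hk, rfl⟩
    exact ⟨h * k, mul_mem hh hk, by group⟩
  have cj_cz : ∀ {e : G}, e ∈ R → orderOf e = 2 → e * z = z * e → Cj e := by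
    intro e heR he hez
    rcases Γ.cases_cz hez (memR.1 heR) with h | h
    · exact ⟨1, one_mem _, by rw [Γ.U_involution h he]; group⟩
    · obtain ⟨b, hb, hte⟩ := Γ.U_cases h
      have he2 : e * e = 1 := sq_one_of_order he
      have hb3 := Γ.A_cube hb
      have key : ∀ v : G, v = Γ.t * b → v * v = 1 → v = b * Γ.t * b⁻¹ := by
        intro v hv hv2
        subst hv
        have e1 : Γ.t * b = b⁻¹ * Γ.t := by
          rw [eq_inv_of_mul_eq_one_left hv2, mul_inv_rev, Γ.tinv]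
        have e2 : Γ.t * b⁻¹ = b * Γ.t := by
          calc Γ.t * b⁻¹ = Γ.t * b⁻¹ * (Γ.t * Γ.t) := by rw [Γ.tt, mul_one]
            _ = Γ.t * (b⁻¹ * Γ.t) * Γ.t := by group
            _ = Γ.t * (Γ.t * b) * Γ.t := by rw [e1]
            _ = (Γ.t * Γ.t) * b * Γ.t := by group
            _ = b * Γ.t := by rw [Γ.tt, one_mul]
        rw [mul_assoc b, e2, ← mul_assoc, e1, ← pow_two, Nine.sq_eq_inv' hb3]
      rcases hte with h' | h'
      · have ev : e = Γ.t * b := by rw [← h', ← mul_assoc, Γ.tt, one_mul]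
        rw [ev, key _ rfl (ev ▸ he2)]
        exact cjconj (hUR (Γ.A_le_U hb)) cjt
      · have ev : e = Γ.t * b * z := by
          rw [mul_assoc, ← h', ← mul_assoc, Γ.tt, one_mul]
        have hbz : Commute b z := Γ.A_z hb
        have htb : (Γ.t * b) * (Γ.t * b) = 1 := by
          have hc : Commute (Γ.t * b) z := (show Commute Γ.t z from Γ.t_z).mul_left hbz
          have := he2
          rwa [ev, hc.symm.mul_mul_mul_comm, Γ.zz, mul_one] at this
        rw [ev, key _ rfl htb, show b * Γ.t * b⁻¹ * z = b * (Γ.t * z) * b⁻¹ by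
          rw [mul_assoc _ b⁻¹, hbz.inv_left.eq]; group]
        exact cjconj (hUR (Γ.A_le_U hb)) cjtz
  have cj_all : ∀ {e : G}, e ∈ R → orderOf e = 2 → Cj e := by
    intro e heR he
    have he2 : e * e = 1 := sq_one_of_order he
    rcases Nat.even_or_odd (orderOf (e * z)) with heven | hodd
    · obtain ⟨m, hm⟩ := heven
      set v := (e * z) ^ m with hv
      have hvR : v ∈ R := pow_mem (mul_mem heR hzR) m
      have hm0 : 0 < orderOf (e * z) := orderOf_pos _
      have hv1 : v ≠ 1 := pow_ne_one_of_lt_orderOf (by omega) (by omega)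
      have hvv : v * v = 1 := by rw [hv, ← pow_add, ← hm, pow_orderOf_eq_one]
      have hvi : v = v⁻¹ := eq_inv_of_mul_eq_one_left hvv
      have hzv : z * v * z⁻¹ = v := by
        rw [hv, ← conj_pow, show z * (e * z) * z⁻¹ = (e * z)⁻¹ by
          rw [mul_inv_rev, inv_eq_of_mul_eq_one_right he2, Γ.zinv]
          simp only [mul_assoc, Γ.zz, mul_one], inv_pow, ← hv, ← hvi]
      have hev : e * v * e⁻¹ = v := by
        rw [hv, ← conj_pow, show e * (e * z) * e⁻¹ = (e * z)⁻¹ by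
          rw [mul_inv_rev, inv_eq_of_mul_eq_one_right he2, Γ.zinv, ← mul_assoc, he2, one_mul],
          inv_pow, ← hv, ← hvi]
      obtain ⟨h, hh, hhe⟩ := cj_cz hvR (order_two hvv hv1) (mul_inv_eq_iff_eq_mul.1 hzv).symm
      have hec : (h⁻¹ * e * h) * z = z * (h⁻¹ * e * h) := by
        have := Nine.comm_inv_conj (g := h) (mul_inv_eq_iff_eq_mul.1 hev)
        rwa [show h⁻¹ * v * h = z by rw [← hhe]; group] at this
      have := cjconj hh (cj_cz (mul_mem (mul_mem (inv_mem hh) heR) hh)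
        (by rw [show h⁻¹ * e * h = MulAut.conj h⁻¹ e by simp, (MulAut.conj h⁻¹).orderOf_eq, he]) hec)
      rwa [show h * (h⁻¹ * e * h) * h⁻¹ = e by group] at this
    · exact ⟨_, zpowers_le.2 (mul_mem heR hzR) (IsolatedInvolution.Basic.half_mem_zpowers e z),
        IsolatedInvolution.Basic.half_conj he2 Γ.zz hodd⟩
  -- the hypothesis of the theorem of Brauer, Suzuki and Wall
  have hyp : BSW.Hyp (mk zR) (mk tR) K := by
    refine ⟨?_, ?_, memK.2 Γ.z_mem_U, fun h => Γ.t_notMem_U (memK.1 h), ?_, ?_, ?_, ?_, ?_, ?_, ?_⟩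
    · exact order_two (by rw [← map_mul, ← map_one mk]; exact congrArg mk (Subtype.ext Γ.zz))
        (fun h => ynotz (memN.1 h))
    · exact order_two (by rw [← map_mul, ← map_one mk]; exact congrArg mk (Subtype.ext Γ.tt))
        (fun h => ynott (memN.1 h))
    · rw [← map_mul, ← map_mul]
      exact congrArg mk (Subtype.ext Γ.t_z)
    · rintro _ ⟨a, ha, rfl⟩ _ ⟨b, hb, rfl⟩
      rw [← map_mul, ← map_mul]
      exact congrArg mk (Subtype.ext (Γ.U_comm ha hb))
    · rintro _ ⟨a, ha, rfl⟩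
      rw [← map_inv, ← map_mul, ← map_mul, eq_inv_iff_mul_eq_one, ← map_mul, memN]
      obtain ⟨b, hb, e | e⟩ := Γ.U_cases (show (a : G) ∈ Γ.U from ha)
      · simpa [e] using Γ.t_inverts hb
      · simp only [Subgroup.coe_mul, Subgroup.coe_inv, e]
        have hbz : Commute b z := Γ.A_z hb
        have ht : Commute (Γ.t * b * Γ.t⁻¹) z := Γ.A_z (Γ.t_A hb)
        have : Γ.t * (b * z) * Γ.t⁻¹ * (b * z) = Γ.t * b * Γ.t⁻¹ * b := by
          rw [show Γ.t * (b * z) * Γ.t⁻¹ = Γ.t * b * Γ.t⁻¹ * z by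
            rw [Γ.tinv]; simp only [mul_assoc]; rw [Γ.t_z]]
          rw [hbz.eq, show Γ.t * b * Γ.t⁻¹ * z * (z * b) = Γ.t * b * Γ.t⁻¹ * (z * z) * b by group,
            Γ.zz, mul_one]
        rw [this]
        exact Γ.t_inverts hb
    · intro q
      obtain ⟨r, rfl⟩ := QuotientGroup.mk'_surjective N q
      intro h
      rcases Γ.cases_cz (comm_lift h) (memR.1 r.2) with h' | h'
      · exact Or.inl (memK.2 h')
      · exact Or.inr (by rw [← map_mul]; exact memK.2 h')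
    · rintro _ ⟨r, hr, rfl⟩ h2
      rw [← map_mul, memN] at h2
      obtain ⟨b, hb, e | e⟩ := Γ.U_cases (show (r : G) ∈ Γ.U from hr)
      · refine Or.inl (memN.2 ?_)
        have h4 : (r : G) * r * ((r : G) * r) = r := by
          rw [e, show b * b * (b * b) = b ^ 3 * b by rw [pow_succ, pow_two]; group, Γ.A_cube hb,
            one_mul]
        rw [← h4]
        exact mul_mem h2 h2
      · refine Or.inr ?_
        rw [← mul_inv_eq_one, ← map_inv, ← map_mul, memN]
        have hbz : Commute b z := Γ.A_z hb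
        have h2' : b * b ∈ zpowers Γ.y := by
          rw [Subgroup.coe_mul, e, hbz.symm.mul_mul_mul_comm, Γ.zz, mul_one] at h2
          exact h2
        have h4 : (r : G) * z⁻¹ = b * b * (b * b) := by
          rw [e, mul_inv_cancel_right, show b * b * (b * b) = b ^ 3 * b by
            rw [pow_succ, pow_two]; group, Γ.A_cube hb, one_mul]
        show (r : G) * z⁻¹ ∈ zpowers Γ.y
        rw [h4]
        exact mul_mem h2' h2'
    · rintro _ ⟨r, hr, rfl⟩ hr1 q hq
      obtain ⟨h, rfl⟩ := QuotientGroup.mk'_surjective N q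
      have hq' : (h : G) * r * (h : G)⁻¹ ∈ Γ.U := by
        change mk h * mk r * (mk h)⁻¹ ∈ K at hq
        rw [← map_inv, ← map_mul, ← map_mul] at hq
        exact memK.1 hq
      suffices hz : (h : G) * z * (h : G)⁻¹ = z by
        change mk h * mk zR = mk zR * mk h
        rw [← map_mul, ← map_mul]
        exact congrArg mk (Subtype.ext (mul_inv_eq_iff_eq_mul.1 hz))
      obtain ⟨b, hb, e | e⟩ := Γ.U_cases (show (r : G) ∈ Γ.U from hr)
      · rw [e] at hq'
        have hbo : Odd (orderOf ((h : G) * b * (h : G)⁻¹)) := Γ.oddc _ (Γ.A_odd hb)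
        have hb' := Γ.mem_A_of_odd hq' hbo
        set v := (h : G)⁻¹ * z * h with hv
        have hvy : v * Γ.y = Γ.y * v :=
          memR.1 (mul_mem (mul_mem (inv_mem h.2) hzR) h.2)
        have hva : v * b = b * v := by
          have := Nine.comm_inv_conj (g := (h : G)) (Γ.A_z hb').symm
          rwa [show (h : G)⁻¹ * ((h : G) * b * (h : G)⁻¹) * h = b by group] at this
        have hby : b ∉ zpowers Γ.y := fun hb0 => hr1 (memN.2 (by rw [e]; exact hb0))
        have hvz := Γ.cent_le hg1 hg2 hgy hb hby hvy hva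
        have hv2 : orderOf v = 2 := by
          rw [hv, show (h : G)⁻¹ * z * h = MulAut.conj (h : G)⁻¹ z by simp,
            (MulAut.conj (h : G)⁻¹).orderOf_eq]
          exact Γ.D.orderOf_z
        have : v = z := by
          refine Γ.U_involution ?_ hv2
          rcases Γ.cases_cz hvz hvy with h' | h'
          · exact h'
          · exfalso
            have htb : Γ.t * b = b * Γ.t := by
              have c1 : Commute (Γ.t * v) b := Γ.U_comm h' (Γ.A_le_U hb)
              have := (c1.mul_left (show Commute v b from hva).inv_left).eq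
              simpa [mul_assoc] using this
            have h3 := Γ.t_inverts hb
            rw [htb, mul_inv_cancel_right] at h3
            refine hby ?_
            rw [show b = (b * b) * (b * b) by
              rw [show b * b * (b * b) = b ^ 3 * b by rw [pow_succ, pow_two]; group, Γ.A_cube hb,
                one_mul]]
            exact mul_mem h3 h3
        calc (h : G) * z * (h : G)⁻¹ = (h : G) * v * (h : G)⁻¹ := by rw [this]
          _ = z := by rw [hv]; group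
      · rw [e] at hq'
        have h3 : (b * z) ^ 3 = z := by
          rw [(show Commute b z from Γ.A_z hb).mul_pow, Γ.A_cube hb, one_mul,
            Γ.D.pow_z_odd (by decide)]
        have h4 := pow_mem hq' 3
        rw [conj_pow, h3] at h4
        refine Γ.U_involution h4 ?_
        rw [show (h : G) * z * (h : G)⁻¹ = MulAut.conj (h : G) z from rfl,
          (MulAut.conj (h : G)).orderOf_eq]
        exact Γ.D.orderOf_z
    · intro a b ha hb
      have key : ∀ q : R ⧸ N, orderOf q = 2 → IsConj (mk zR) q := by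
        intro q hq
        obtain ⟨r, rfl⟩ := QuotientGroup.mk'_surjective N q
        have hsq : mk r * mk r = 1 := by rw [← pow_two, ← hq, pow_orderOf_eq_one]
        have hr2 : (r : G) * r ∈ zpowers Γ.y := by
          rw [← map_mul] at hsq
          exact memN.1 hsq
        have h6 : ((r : G) ^ 3) * (r : G) ^ 3 = 1 := by
          rw [← pow_add, show 3 + 3 = 2 * 3 by rfl, pow_mul, pow_two]
          exact Γ.A_cube (Γ.zpowers_y_le hr2)
        have hr3 : mk (r ^ 3) = mk r := by rw [map_pow, pow_succ, pow_two, hsq, one_mul]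
        have hne : (r : G) ^ 3 ≠ 1 := fun e => by
          have h1 : mk r = 1 := by
            rw [← hr3, show r ^ 3 = 1 from Subtype.ext (by simpa using e), map_one]
          rw [show QuotientGroup.mk' N r = 1 from h1, orderOf_one] at hq
          omega
        obtain ⟨h, hh, e⟩ := cj_all (pow_mem r.2 3) (order_two h6 hne)
        refine isConj_iff.2 ⟨mk ⟨h, hh⟩, ?_⟩
        change _ = mk r
        rw [← hr3, ← map_inv, ← map_mul, ← map_mul]
        exact congrArg mk (Subtype.ext (by simpa using e))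
      exact (key a ha).symm.trans (key b hb)
  -- the orders
  have hcK : Nat.card K = 18 := by
    have h1 := Subgroup.card_mul_index (Γ.U.subgroupOf R)
    rw [Nat.card_congr (Subgroup.subgroupOfEquivOfLe hUR).toEquiv, Γ.card_U] at h1
    have hker : mk.ker ≤ Γ.U.subgroupOf R := fun r hr =>
      Γ.A_le_U (Γ.zpowers_y_le (memN.1 hr))
    have h2 : K.index = (Γ.U.subgroupOf R).index :=
      Subgroup.index_map_eq _ (QuotientGroup.mk'_surjective N) hker
    have h3 := Subgroup.card_mul_index K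
    have h4 := Subgroup.card_eq_card_quotient_mul_card_subgroup N
    have h5 : Nat.card N = 3 := by
      haveI : Fact (Nat.Prime 3) := ⟨Nat.prime_three⟩
      show Nat.card (zpowers yR) = 3
      rw [Nat.card_zpowers, Subgroup.orderOf_mk]
      exact orderOf_eq_prime Γ.y3 Γ.y_ne
    rw [h5, ← h3, h2, ← h1] at h4
    have hpos : 0 < (Γ.U.subgroupOf R).index := Nat.pos_of_ne_zero Subgroup.index_ne_zero_of_finite
    nlinarith
  classical
  haveI : Fintype (R ⧸ N) := Fintype.ofFinite _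
  haveI : Fintype ↥K := Fintype.ofFinite _
  haveI : Fintype (Cfsg.IrrCharacter (R ⧸ N)) := Fintype.ofFinite _
  haveI : Fintype (Cfsg.IrrCharacter ↥K) := Fintype.ofFinite _
  obtain ⟨η, l₀, ca, cp, cq, conf⟩ := BSW.exists_conf hyp
  have hord : Nat.card (R ⧸ N) = 25308 ∨ Nat.card (R ⧸ N) = 21420 := by
    have h := conf.order
    rw [hcK] at h
    rcases conf.eta with e | e <;> rw [e] at h <;> [left; right] <;> (norm_num at h; rw [Nat.card_eq_fintype_card]; exact_mod_cast h)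
  obtain ⟨Q, D, hQ, hcent, hDc, hD, hQD, hNQ, -⟩ := BSW.brauer_suzuki_wall hyp
  have hQnorm : ∀ d ∈ D, ∀ q ∈ Q, d * q * d⁻¹ ∈ Q := by
    intro d hd q hq
    have : d ∈ normalizer (Q : Set (R ⧸ N)) := hNQ ▸ (le_sup_right : D ≤ Q ⊔ D) hd
    exact (Subgroup.mem_normalizer_iff.1 this q).1 hq
  have hfaith : ∀ q0 ∈ Q, q0 ≠ 1 → ∀ d ∈ D, d * q0 = q0 * d → d = 1 := by
    intro q0 hq0 h1 d hd h
    have : d ∈ Q := hcent q0 hq0 h1 ▸ mem_centralizer_singleton_iff.2 h
    exact Subgroup.mem_bot.1 (hQD ▸ (⟨this, hd⟩ : d ∈ Q ⊓ D))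
  rcases hord with ho | ho <;> rw [ho] at hQ
  · have hQ37 : Nat.card Q = 37 := by
      rcases Nat.lt_trichotomy (Nat.card Q) 37 with h | h | h
      · exfalso
        have h1 := Nat.mul_le_mul (Nat.mul_le_mul (show Nat.card Q ≤ 36 by omega)
          (show Nat.card Q + 1 ≤ 37 by omega)) (show Nat.card Q - 1 ≤ 35 by omega)
        omega
      · exact h
      · exfalso
        have h1 := Nat.mul_le_mul (Nat.mul_le_mul (show 38 ≤ Nat.card Q by omega)
          (show 39 ≤ Nat.card Q + 1 by omega)) (show 37 ≤ Nat.card Q - 1 by omega)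
        omega
    have hD18 : Nat.card D = 18 := by omega
    haveI : Fact (Nat.Prime 2) := ⟨Nat.prime_two⟩
    obtain ⟨⟨u0, hu0⟩, hu0o⟩ := exists_prime_orderOf_dvd_card' (G := D) 2 (by rw [hD18]; norm_num)
    rw [Subgroup.orderOf_mk] at hu0o
    obtain ⟨c, hc⟩ := isConj_iff.1 (hyp.conj _ _ hyp.ht hu0o)
    have hexp : ∀ d ∈ D, d ^ 6 = 1 := by
      intro d hd
      have hdc : d * u0 = u0 * d :=
        congrArg Subtype.val (hDc.is_comm.comm (⟨d, hd⟩ : D) ⟨u0, hu0⟩)
      have hz : (c⁻¹ * d * c) * mk zR = mk zR * (c⁻¹ * d * c) := by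
        have := Nine.comm_inv_conj (g := c) hdc
        rwa [show c⁻¹ * u0 * c = mk zR by rw [← hc]; group] at this
      have h6 : (c⁻¹ * d * c) ^ 6 = 1 := by
        by_cases hk : c⁻¹ * d * c ∈ K
        · obtain ⟨r, hr, e⟩ := hk
          rw [← e, ← map_pow, show r ^ 6 = 1 from Subtype.ext ?_, map_one]
          obtain ⟨b, hb, e' | e'⟩ := Γ.U_cases (show (r : G) ∈ Γ.U from hr) <;> rw [SubmonoidClass.coe_pow, e']
          · rw [show 6 = 3 * 2 by rfl, pow_mul, Γ.A_cube hb, one_pow]; rfl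
          · rw [(show Commute b z from Γ.A_z hb).mul_pow, show 6 = 3 * 2 by rfl, pow_mul,
              Γ.A_cube hb, one_pow, one_mul, mul_comm, pow_mul, pow_two, Γ.zz, one_pow]
            rfl
        · have := hyp.sq_of_notMem hk hz
          rw [show 6 = orderOf (c⁻¹ * d * c) * 3 by rw [this], pow_mul, pow_orderOf_eq_one, one_pow]
      rw [show c⁻¹ * d * c = c⁻¹ * d * c⁻¹⁻¹ by group, conj_pow, conj_eq_one_iff] at h6
      exact h6
    haveI : Fact (Nat.Prime 37) := ⟨by norm_num⟩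
    obtain ⟨⟨q0, hq0⟩, hq0o⟩ := exists_prime_orderOf_dvd_card' (G := Q) 37 (by rw [hQ37])
    rw [Subgroup.orderOf_mk] at hq0o
    have hq1 : q0 ≠ 1 := fun e => by rw [e, orderOf_one] at hq0o; omega
    have hgen : zpowers q0 = Q := Subgroup.eq_of_le_of_card_ge (zpowers_le.2 hq0)
      (by rw [hQ37, Nat.card_zpowers, hq0o])
    have := Nine.card_le_roots hq0o (by norm_num) (fun d hd => hgen ▸ hQnorm d hd q0 hq0) hexp
      (hfaith q0 hq0 hq1)
    rw [hD18, show (Finset.univ.filter fun i : Fin 37 => i.val ^ 6 % 37 = 1).card = 6 by decide] at this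
    omega
  · have hQ35 : Nat.card Q = 35 := by
      rcases Nat.lt_trichotomy (Nat.card Q) 35 with h | h | h
      · exfalso
        have h1 := Nat.mul_le_mul (Nat.mul_le_mul (show Nat.card Q ≤ 34 by omega)
          (show Nat.card Q + 1 ≤ 35 by omega)) (show Nat.card Q - 1 ≤ 33 by omega)
        omega
      · exact h
      · exfalso
        have h1 := Nat.mul_le_mul (Nat.mul_le_mul (show 36 ≤ Nat.card Q by omega)
          (show 37 ≤ Nat.card Q + 1 by omega)) (show 35 ≤ Nat.card Q - 1 by omega)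
        omega
    have hD17 : Nat.card D = 17 := by omega
    haveI : Fact (Nat.Prime 5) := ⟨by norm_num⟩
    haveI : Fact (Nat.Prime 7) := ⟨by norm_num⟩
    obtain ⟨⟨q5, hq5⟩, hq5o⟩ := exists_prime_orderOf_dvd_card' (G := Q) 5 (by rw [hQ35]; norm_num)
    obtain ⟨⟨q7, hq7⟩, hq7o⟩ := exists_prime_orderOf_dvd_card' (G := Q) 7 (by rw [hQ35]; norm_num)
    rw [Subgroup.orderOf_mk] at hq5o hq7o
    have hq1 : q5 ≠ 1 := fun e => by rw [e, orderOf_one] at hq5o; omega
    have hcomm : Commute q7 q5 := mem_centralizer_singleton_iff.1 ((hcent q5 hq5 hq1).symm ▸ hq7)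
    have hq0o : orderOf (q7 * q5) = 35 := by
      rw [hcomm.orderOf_mul_eq_mul_orderOf_of_coprime (by rw [hq5o, hq7o]; norm_num), hq5o, hq7o]
    have hq0 : q7 * q5 ∈ Q := mul_mem hq7 hq5
    have hne : q7 * q5 ≠ 1 := fun e => by rw [e, orderOf_one] at hq0o; omega
    have hgen : zpowers (q7 * q5) = Q := Subgroup.eq_of_le_of_card_ge (zpowers_le.2 hq0)
      (by rw [hQ35, Nat.card_zpowers, hq0o])
    have hexp : ∀ d ∈ D, d ^ 17 = 1 := fun d hd =>
      hD17 ▸ congrArg Subtype.val (pow_card_eq_one' (x := (⟨d, hd⟩ : D)))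
    have := Nine.card_le_roots hq0o (by norm_num) (fun d hd => hgen ▸ hQnorm d hd _ hq0) hexp
      (hfaith _ hq0 hne)
    rw [hD17, show (Finset.univ.filter fun i : Fin 35 => i.val ^ 17 % 35 = 1).card = 1 by decide]
      at this
    omega

end Cfsg.Agent.Lib.S1645
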