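import Cfsg.Agent.Lib.S1645.Reduce
import Cfsg.Agent.Lib.S1645.Nine

/-!
# S1645: the degree is 8 or 11, from the case `n = 10`

Owner: helper25.
-/

set_option autoImplicit false

universe u

namespace Cfsg.Agent.Lib.S1645

/-- The statement, given the case `n = 10`. -/
theorem degree_of_propTen (hTen : PropTen.{u}) {G : Type u} [Group G] [Finite G] [IsSimpleGroup G]
    (n : ℕ) (hn : 5 ≤ n) (z : G) (hz : orderOf z = 2)
    (hcov : Cfsg.IsNonsplitDoubleCover (Subgroup.centralizer ({z} : Set G))
      (alternatingGroup (Fin n))) : n = 8 ∨ n = 11 := by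
  have hzc : zC z ∈ Subgroup.center ↥(Subgroup.centralizer ({z} : Set G)) :=
    Subgroup.mem_center_iff.2 fun g =>
      Subtype.ext (Subgroup.mem_centralizer_singleton_iff.1 g.2)
  have hz2 : orderOf (zC z) = 2 := by rw [zC, Subgroup.orderOf_mk, hz]
  obtain ⟨π, C⟩ := Cover.exists_cover hn hcov hzc hz2
  have S : Setting n z π := ⟨inferInstance, hz, C⟩
  rcases propReduce G n z π S hn with h | h | ⟨h | h, F⟩
  · exact Or.inl h
  · exact Or.inr h
  · subst h
    exact (propNine G z π S F).elim
  · subst h
    exact (hTen G z π S F).elim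

end Cfsg.Agent.Lib.S1645
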