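import Cfsg.Agent.Lib.S1645.Setting
import Cfsg.Agent.Lib.S1645Lift56.Flip

/-!
# S1645: facts on lifts in a non-split double cover of an alternating group

Owner: helper56.
-/

set_option autoImplicit false

universe v

namespace Cfsg.Agent.Lib.S1645

open Equiv Equiv.Perm
open Cfsg.Agent.Lib.CommCover12
open scoped commutatorElement

variable {H : Type v} [Group H] {n : ℕ} {z : H} {π : H →* Perm (Fin n)}

namespace Cover

theorem z_sq (C : Cover n z π) : z * z = 1 := by
  rw [← pow_two, ← C.ord, pow_orderOf_eq_one]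

theorem z_ne_one (C : Cover n z π) : z ≠ 1 := by
  intro e
  have h := C.ord
  rw [e, orderOf_one] at h
  omega

theorem range_eq (C : Cover n z π) : π.range = alternatingGroup (Fin n) :=
  le_antisymm (by rintro _ ⟨x, rfl⟩; exact C.mem x) fun σ hσ => C.surj σ hσ

theorem sign_eq (C : Cover n z π) (g : H) : sign (π g) = 1 := mem_alternatingGroup.1 (C.mem g)

theorem isCoverMap (C : Cover n z π) (hn : 5 ≤ n) : IsCoverMap π z where
  range_eq := C.range_eq
  perfect := by
    have hmap : ∀ σ ∈ alternatingGroup (Fin n), ∃ h ∈ commutator H, π h = σ := by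
      intro σ hσ
      have : σ ∈ (commutator H).map π := by
        rw [commutator_def, Subgroup.map_commutator, ← MonoidHom.range_eq_map, C.range_eq,
          commutator_alternatingGroup_eq_self (by simpa using hn)]
        exact hσ
      exact Subgroup.mem_map.1 this
    have hz := C.nonsplit (commutator H) hmap
    refine eq_top_iff.2 fun g _ => ?_
    obtain ⟨d, hd, hdg⟩ := hmap (π g) (C.mem g)
    rcases C.ker (d⁻¹ * g) (by rw [map_mul, map_inv, hdg, inv_mul_cancel]) with e | e
    · rw [← inv_mul_eq_one.1 e]; exact hd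
    · rw [show g = d * z by rw [← e, mul_inv_cancel_left]]
      exact mul_mem hd hz
  mem_ker := C.ker
  comm := C.central
  sq := C.z_sq
  ne_one := C.z_ne_one
  map_z := C.map_z

/-- (1) A non-split double cover comes with a cover map. -/
theorem exists_cover (hn : 5 ≤ n) (h : Cfsg.IsNonsplitDoubleCover H (alternatingGroup (Fin n)))
    (hz : z ∈ Subgroup.center H) (hz2 : orderOf z = 2) :
    ∃ π : H →* Perm (Fin n), Cover n z π := by
  have hz1 : z ≠ 1 := by
    intro e
    rw [e, orderOf_one] at hz2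
    omega
  obtain ⟨π, hπ⟩ := Lib.S1645Lift56.exists_isCoverMap hn h hz hz1
  refine ⟨π,
    { ord := hz2, central := hπ.comm, map_z := hπ.map_z, ker := hπ.mem_ker
      mem := fun x => mem_alternatingGroup.2 (hπ.sign_map x)
      surj := fun σ hσ => hπ.lift (mem_alternatingGroup.1 hσ)
      nonsplit := fun M hM => ?_ }⟩
  by_contra hzM
  have hle : commutator H ≤ M := by
    have hsplit : ∀ g : H, ∃ m ∈ M, g = m ∨ g = m * z := fun g => by
      obtain ⟨m, hm, hmg⟩ := hM (π g) (mem_alternatingGroup.2 (hπ.sign_map g))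
      exact ⟨m, hm, hπ.eq_or hmg⟩
    have hzc : ∀ u v : H, ⁅u * z, v⁆ = ⁅u, v⁆ ∧ ⁅u, v * z⁆ = ⁅u, v⁆ := by
      intro u v
      have c1 : ∀ t, z * t = t * z := fun t => (hπ.comm t).symm
      simp only [commutatorElement_def, mul_inv_rev]
      refine ⟨?_, ?_⟩
      · rw [show u * z * v * (z⁻¹ * u⁻¹) * v⁻¹ = u * (z * v) * z⁻¹ * u⁻¹ * v⁻¹ by group, c1 v]
        group
      · rw [show u * (v * z) * u⁻¹ * (z⁻¹ * v⁻¹) = u * v * (z * u⁻¹) * z⁻¹ * v⁻¹ by group, c1 u⁻¹]
        group
    have hin : ∀ u ∈ M, ∀ v ∈ M, ⁅u, v⁆ ∈ M := fun u hu v hv => by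
      rw [commutatorElement_def]
      exact M.mul_mem (M.mul_mem (M.mul_mem hu hv) (M.inv_mem hu)) (M.inv_mem hv)
    rw [commutator_def, Subgroup.commutator_le]
    intro g _ g' _
    obtain ⟨m, hm, hg⟩ := hsplit g
    obtain ⟨m', hm', hg'⟩ := hsplit g'
    rcases hg with rfl | rfl <;> rcases hg' with rfl | rfl
    · exact hin _ hm _ hm'
    · rw [(hzc g m').2]; exact hin _ hm _ hm'
    · rw [(hzc m g').1]; exact hin _ hm _ hm'
    · rw [(hzc m (m' * z)).1, (hzc m m').2]; exact hin _ hm _ hm'
  rw [hπ.perfect] at hle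
  exact hzM (hle (Subgroup.mem_top z))

/-- (2) The fibres have two elements. -/
theorem fibre (C : Cover n z π) {g h : H} (e : π g = π h) : h = g ∨ h = g * z := by
  rcases C.ker (g⁻¹ * h) (by rw [map_mul, map_inv, e, inv_mul_cancel]) with e' | e'
  · exact Or.inl (inv_mul_eq_one.1 e').symm
  · exact Or.inr (by rw [← e', mul_inv_cancel_left])

theorem card_ker (C : Cover n z π) : Nat.card π.ker = 2 := by
  have hset : (π.ker : Set H) = {1, z} := by
    ext x
    constructor
    · intro hx; exact C.ker x hx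
    · rintro (rfl | rfl)
      · exact map_one π
      · exact C.map_z
  rw [← SetLike.coe_sort_coe, hset, Nat.card_coe_set_eq, Set.ncard_pair (Ne.symm C.z_ne_one)]

/-- The preimage of a subgroup of the alternating group has twice its order. -/
theorem card_comap (C : Cover n z π) (S : Subgroup (Perm (Fin n))) (hS : S ≤ alternatingGroup (Fin n)) :
    Nat.card (S.comap π) = 2 * Nat.card S := by
  let f : ↥(S.comap π) →* ↥S := π.subgroupComap S
  have hf : Function.Surjective f := by
    rintro ⟨σ, hσ⟩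
    obtain ⟨x, hx⟩ := C.surj σ (hS hσ)
    exact ⟨⟨x, by rw [Subgroup.mem_comap, hx]; exact hσ⟩, Subtype.ext hx⟩
  have hk : f.ker = π.ker.subgroupOf (S.comap π) := by
    ext x
    rw [MonoidHom.mem_ker, Subgroup.mem_subgroupOf, MonoidHom.mem_ker]
    exact ⟨fun e => congrArg Subtype.val e, fun e => Subtype.ext e⟩
  have hle : π.ker ≤ S.comap π := fun x hx => by
    rw [Subgroup.mem_comap, MonoidHom.mem_ker.1 hx]; exact one_mem _
  rw [Subgroup.card_eq_card_quotient_mul_card_subgroup f.ker,
    Nat.card_congr (QuotientGroup.quotientKerEquivOfSurjective f hf).toEquiv, hk,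
    Nat.card_congr (Subgroup.subgroupOfEquivOfLe hle).toEquiv, C.card_ker, mul_comm]

theorem finite (C : Cover n z π) : Finite H := by
  have hc := C.card_comap (alternatingGroup (Fin n)) le_rfl
  have htop : (alternatingGroup (Fin n)).comap π = ⊤ := eq_top_iff.2 fun x _ => C.mem x
  rw [htop, Subgroup.card_top] at hc
  exact Nat.finite_of_card_ne_zero (by rw [hc]; exact mul_ne_zero two_ne_zero Nat.card_pos.ne')

/-- (2) The order of the cover. -/
theorem card_eq (C : Cover n z π) (hn : 2 ≤ n) : Nat.card H = n.factorial := by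
  have hc := C.card_comap (alternatingGroup (Fin n)) le_rfl
  have htop : (alternatingGroup (Fin n)).comap π = ⊤ := eq_top_iff.2 fun x _ => C.mem x
  have : Nontrivial (Fin n) := Fin.nontrivial_iff_two_le.2 hn
  rw [htop, Subgroup.card_top, two_mul_nat_card_alternatingGroup, Nat.card_perm, Nat.card_fin] at hc
  exact hc

/-- (3) An even permutation of odd order has a lift of odd order with the same bound. -/
theorem exists_odd_lift (C : Cover n z π) (hn : 5 ≤ n) {p : Perm (Fin n)} (hp : sign p = 1) {m : ℕ}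
    (hm : Odd m) (hpm : p ^ m = 1) : ∃ x : H, π x = p ∧ x ^ m = 1 :=
  Lib.S1645Lift56.exists_odd_lift (C.isCoverMap hn) hp hm hpm

/-- (3) Lifts of odd order are unique. -/
theorem odd_lift_unique (C : Cover n z π) (hn : 5 ≤ n) {x y : H} (hx : Odd (orderOf x))
    (hy : Odd (orderOf y)) (e : π x = π y) : x = y := by
  refine Lib.S1645Lift56.eq_of_map_eq (C.isCoverMap hn) (hx.mul hy) ?_ ?_ e
  · rw [pow_mul, pow_orderOf_eq_one, one_pow]
  · rw [mul_comm, pow_mul, pow_orderOf_eq_one, one_pow]

/-- (3) An element of odd order commutes with the full preimage of its centraliser. -/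
theorem comm_iff_of_odd (C : Cover n z π) (hn : 5 ≤ n) {x h : H} (hx : Odd (orderOf x)) :
    h * x = x * h ↔ π h * π x = π x * π h :=
  ⟨fun e => by rw [← map_mul, e, map_mul],
    Lib.S1645Lift56.comm_of_odd (C.isCoverMap hn) hx (pow_orderOf_eq_one x)⟩

/-- (3) The centraliser of an element of odd order. -/
theorem card_centralizer_of_odd (C : Cover n z π) (hn : 5 ≤ n) {x : H} (hx : Odd (orderOf x)) :
    Nat.card (Subgroup.centralizer ({x} : Set H)) =
      2 * Nat.card ↥(alternatingGroup (Fin n) ⊓ Subgroup.centralizer ({π x} : Set (Perm (Fin n)))) := by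
  have he : Subgroup.centralizer ({x} : Set H) =
      (alternatingGroup (Fin n) ⊓ Subgroup.centralizer ({π x} : Set (Perm (Fin n)))).comap π := by
    ext h
    rw [Subgroup.mem_centralizer_singleton_iff, Subgroup.mem_comap, Subgroup.mem_inf,
      Subgroup.mem_centralizer_singleton_iff, C.comm_iff_of_odd hn hx]
    exact ⟨fun e => ⟨C.mem h, e⟩, fun e => e.2⟩
  rw [he, C.card_comap _ inf_le_left]

/-- (4) A lift of a double transposition squares to `z`. -/
theorem mul_self_dt (C : Cover n z π) (hn : 5 ≤ n) {g : H} (hg : (π g).cycleType = {2, 2}) :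
    g * g = z :=
  have := C.finite
  Lib.S1645Lift56.mul_self_dt (C.isCoverMap hn) (by omega) hg

/-- (4) Lifts of disjoint permutations commute. -/
theorem comm_of_disjoint (C : Cover n z π) (hn : 5 ≤ n) {g h : H}
    (hd : Perm.Disjoint (π g) (π h)) : g * h = h * g :=
  Lib.S1645Lift56.comm_of_disjoint (C.isCoverMap hn) hd

/-- (4) Two commuting double transpositions with product a double transposition anticommute. -/
theorem anticomm (C : Cover n z π) (hn : 5 ≤ n) {g h : H} (hg : (π g).cycleType = {2, 2})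
    (hh : (π h).cycleType = {2, 2}) (hgh : (π g * π h).cycleType = {2, 2})
    (hc : π h * π g = π g * π h) : h * g * h⁻¹ = g * z :=
  have := C.finite
  (C.isCoverMap hn).four_anticomm (by omega) hg hh hgh hc

/-- (5) An involution other than `z` lies over `4k` transpositions, `k ≥ 1`. -/
theorem involution_type (C : Cover n z π) (hn : 5 ≤ n) {g : H} (hg : orderOf g = 2) (hgz : g ≠ z) :
    ∃ k, 1 ≤ k ∧ (π g).cycleType = Multiset.replicate (4 * k) 2 := by
  have := C.finite
  obtain ⟨k, hk1, hk, -⟩ := Lib.S1645Lift56.support_involution (C.isCoverMap hn) (by omega) (x := g)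
    (by rw [← pow_two, ← hg, pow_orderOf_eq_one]) (fun e => by rw [e, orderOf_one] at hg; omega) hgz
  exact ⟨k, hk1, hk⟩

/-- (5) Lifts of products of `4k` transpositions, `k ≥ 1`, are involutions other than `z`. -/
theorem orderOf_lift (C : Cover n z π) (hn : 5 ≤ n) {g : H} {k : ℕ} (hk : 1 ≤ k)
    (hg : (π g).cycleType = Multiset.replicate (4 * k) 2) : orderOf g = 2 ∧ g ≠ z := by
  have := C.finite
  have h1 : π g ≠ 1 := fun e => by
    rw [e, cycleType_one] at hg
    have := congrArg Multiset.card hg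
    simp at this
    omega
  refine ⟨orderOf_eq_prime ?_ fun e => h1 (by rw [e, map_one]), fun e => h1 (by rw [e, C.map_z])⟩
  rw [pow_two, Lib.S1645Lift56.mul_self_eq_one_iff (C.isCoverMap hn) (by omega)]
  exact ⟨k, hg⟩

/-- (6) The block swap `(ac)(bd)` maps a lift of `(ab)(cd) q` to its translate by `z`. -/
theorem twist_block_swap (C : Cover n z π) (hn : 5 ≤ n) {a b c d : Fin n}
    (hd : [a, b, c, d].Nodup) {q : Perm (Fin n)} (hq : q a = a ∧ q b = b ∧ q c = c ∧ q d = d)
    {x s : H} (hx : π x = Equiv.swap a b * Equiv.swap c d * q)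
    (hs : π s = Equiv.swap a c * Equiv.swap b d) : s * x * s⁻¹ = x * z :=
  have := C.finite
  Lib.S1645Lift56.twist_block_swap (C.isCoverMap hn) (by omega) hd hq hx hs

/-- (6) Lifts of double flips commute with the lift of the involution. -/
theorem comm_flipPair (C : Cover n z π) (hn : 5 ≤ n) {s x : H} (hx2 : π x * π x = 1) {a c : Fin n}
    (ha : π x a ≠ a) (hc : π x c ≠ c) (hca : c ≠ a) (hcta : c ≠ π x a)
    (hs : π s = Equiv.swap a (π x a) * Equiv.swap c (π x c)) : s * x = x * s :=
  Lib.S1645Lift56.comm_flipPair (C.isCoverMap hn) hx2 ha hc hca hcta hs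

/-- (6) A lift of a product of at least two transpositions is conjugate to its translate. -/
theorem exists_twist (C : Cover n z π) (hn : 5 ≤ n) {m : ℕ} {x : H} (hm : 2 ≤ m)
    (hx : (π x).cycleType = Multiset.replicate m 2) : ∃ s : H, s * x * s⁻¹ = x * z := by
  have := C.finite
  obtain ⟨j, rfl⟩ : ∃ j, m = j + 2 := ⟨m - 2, by omega⟩
  exact Lib.S1645Lift56.exists_twist (C.isCoverMap hn) (by omega) hx

/-- (6) The centraliser of such a lift is as large as that of its image. -/
theorem card_centralizer_of_twist (C : Cover n z π) (hn : 5 ≤ n) {m : ℕ} {x : H} (hm : 2 ≤ m)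
    (hx : (π x).cycleType = Multiset.replicate m 2) :
    Nat.card (Subgroup.centralizer ({x} : Set H)) =
      Nat.card ↥(alternatingGroup (Fin n) ⊓ Subgroup.centralizer ({π x} : Set (Perm (Fin n)))) := by
  obtain ⟨s, hs⟩ := C.exists_twist hn hm hx
  set S := alternatingGroup (Fin n) ⊓ Subgroup.centralizer ({π x} : Set (Perm (Fin n))) with hS
  have hP := C.card_comap S inf_le_left
  have hmem : ∀ h, h ∈ S.comap π ↔ π h * π x = π x * π h := fun h => by
    rw [Subgroup.mem_comap, hS, Subgroup.mem_inf, Subgroup.mem_centralizer_singleton_iff]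
    exact ⟨fun e => e.2, fun e => ⟨C.mem h, e⟩⟩
  have hle : Subgroup.centralizer ({x} : Set H) ≤ S.comap π := fun h hh => (hmem h).2 (by
    rw [← map_mul, Subgroup.mem_centralizer_singleton_iff.1 hh, map_mul])
  have hsP : s ∈ S.comap π := (hmem s).2 (by
    rw [← map_mul, show s * x = x * z * s by rw [← hs]; group, map_mul, map_mul, C.map_z, mul_one])
  have hIM := C.isCoverMap hn
  have hcases : ∀ h ∈ S.comap π, h * x = x * h ∨ h * x * h⁻¹ = x * z := fun h hh => by
    rcases hIM.conj_lift ((hmem h).1 hh) with e | e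
    · exact Or.inl (by rw [← mul_inv_eq_iff_eq_mul]; exact e)
    · exact Or.inr e
  have hidx : ((Subgroup.centralizer ({x} : Set H)).subgroupOf (S.comap π)).index = 2 := by
    rw [Subgroup.index_eq_two_iff]
    refine ⟨⟨s, hsP⟩, fun b => ?_⟩
    have hsx : ¬ s * x = x * s := fun e => Lib.S1645Lift56.ne_mul_z hIM x
      (by rw [← hs, e, mul_inv_cancel_right])
    simp only [Subgroup.mem_subgroupOf, Subgroup.mem_centralizer_singleton_iff, Subgroup.coe_mul]
    rcases hcases b b.2 with hb | hb
    · refine Or.inr ⟨hb, fun e => hsx ?_⟩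
      have h2 := (Lib.S1645Lift56.twist_mul_fix hIM hs hb).2
      exact absurd (by rw [← h2, e, mul_inv_cancel_right]) (Lib.S1645Lift56.ne_mul_z hIM x)
    · refine Or.inl ⟨?_, fun e => ?_⟩
      · have h2 := Lib.S1645Lift56.twist_mul_twist hIM hb hs
        exact mul_inv_eq_iff_eq_mul.1 h2
      · exact Lib.S1645Lift56.ne_mul_z hIM x (by rw [← hb, e, mul_inv_cancel_right])
  have hkey := Subgroup.card_mul_index ((Subgroup.centralizer ({x} : Set H)).subgroupOf (S.comap π))
  rw [hidx, Nat.card_congr (Subgroup.subgroupOfEquivOfLe hle).toEquiv, hP] at hkey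
  omega

/-- (7) Lifts of products of equally many transpositions (at least two) are conjugate. -/
theorem isConj_of_type (C : Cover n z π) (hn : 5 ≤ n) {m : ℕ} (hm : 2 ≤ m) {x y : H}
    (hx : (π x).cycleType = Multiset.replicate m 2) (hy : (π y).cycleType = Multiset.replicate m 2) :
    IsConj x y := by
  obtain ⟨d, hd⟩ := isConj_iff.1 (isConj_iff_cycleType_eq.2 (hx.trans hy.symm))
  obtain ⟨p, q, hpq, hxp, hp, -⟩ := exists_split {2} (Multiset.replicate (m - 1) 2) (π x) (by
    rw [hx, show m = 1 + (m - 1) by omega, Multiset.replicate_add]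
    simp)
  have hps : sign p = -1 := by rw [sign_of_cycleType, hp]; rfl
  have hpc : p * π x * p⁻¹ = π x := by
    rw [← hxp, show p * (p * q) * p⁻¹ = p * (p * q * p⁻¹) by group, hpq.commute.eq]
    group
    rw [hpq.commute.eq]
  obtain ⟨e, he, hed⟩ : ∃ e, sign e = 1 ∧ e * π x * e⁻¹ = π y := by
    rcases Int.units_eq_one_or (sign d) with hs | hs
    · exact ⟨d, hs, hd⟩
    · refine ⟨d * p, by rw [map_mul, hs, hps]; rfl, ?_⟩
      rw [show d * p * π x * (d * p)⁻¹ = d * (p * π x * p⁻¹) * d⁻¹ by group, hpc, hd]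
  obtain ⟨g, rfl⟩ := C.surj e (mem_alternatingGroup.2 he)
  rcases C.fibre (g := g * x * g⁻¹) (h := y) (by rw [map_mul, map_mul, map_inv, hed]) with e1 | e1
  · exact isConj_iff.2 ⟨g, e1.symm⟩
  · obtain ⟨s, hs⟩ := C.exists_twist hn hm hx
    refine isConj_iff.2 ⟨g * s, ?_⟩
    rw [e1, show g * s * x * (g * s)⁻¹ = g * (s * x * s⁻¹) * g⁻¹ by group, hs]
    rw [show g * (x * z) * g⁻¹ = g * x * (z * g⁻¹) by group, ← C.central g⁻¹]
    group

end Cover

end Cfsg.Agent.Lib.S1645
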