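import Cfsg.Agent.Lib.S1645.Solo
import Cfsg.Agent.Lib.S1645.Lift

/-!
# S1645: the dictionary between the centraliser of `z` and even permutations (helper2)
-/

set_option autoImplicit false
set_option linter.style.haveILetI false
set_option linter.unusedSectionVars false

universe u

namespace Cfsg.Agent.Lib.S1645

open Subgroup Equiv Equiv.Perm

/-- `R p x`: `x` commutes with `z` and lies over the even permutation `p`. -/
structure Dict (G : Type u) [Group G] (n : ℕ) (z : G) where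
  R : Perm (Fin n) → G → Prop
  z_sq : z * z = 1
  z_ne : z ≠ 1
  one_z : R 1 z
  one : R 1 1
  mul : ∀ {p q x y}, R p x → R q y → R (p * q) (x * y)
  inv : ∀ {p x}, R p x → R p⁻¹ x⁻¹
  ker : ∀ {x}, R 1 x → x = 1 ∨ x = z
  total : ∀ {x}, x * z = z * x → ∃ p, R p x
  func : ∀ {p q x}, R p x → R q x → p = q
  surj : ∀ {p : Perm (Fin n)}, sign p = 1 → ∃ x, R p x
  even : ∀ {p x}, R p x → sign p = 1
  cen : ∀ {p x}, R p x → x * z = z * x
  sq22 : ∀ {p x}, R p x → p.cycleType = {2, 2} → x * x = z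
  disj : ∀ {p q x y}, R p x → R q y → Equiv.Perm.Disjoint p q → x * y = y * x
  anti : ∀ {p q x y}, R p x → R q y → p.cycleType = {2, 2} → q.cycleType = {2, 2} →
    (p * q).cycleType = {2, 2} → q * p = p * q → y * x * y⁻¹ = x * z

theorem exists_dict {G : Type u} [Group G] [Finite G] {n : ℕ} (hn : 5 ≤ n) {z : G}
    {π : ↥(centralizer ({z} : Set G)) →* Perm (Fin n)} (S : Setting n z π) :
    ∃ D : Dict G n z, ∀ p x, D.R p x ↔ ∃ hx : x ∈ centralizer ({z} : Set G), π ⟨x, hx⟩ = p := by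
  have hz : orderOf z = 2 := S.ord
  have hcovmap := S.cover.isCoverMap hn
  have hzC : z ∈ centralizer ({z} : Set G) := mem_centralizer_singleton_iff.2 rfl
  refine ⟨{
    R := fun p x => ∃ hx : x ∈ centralizer ({z} : Set G), π ⟨x, hx⟩ = p
    z_sq := sq_one_of_order hz
    z_ne := fun h => by rw [h, orderOf_one] at hz; omega
    one_z := ⟨hzC, S.cover.map_z⟩
    one := ⟨one_mem _, map_one π⟩
    mul := ?_, inv := ?_, ker := ?_, total := ?_, func := ?_, surj := ?_, even := ?_
    cen := ?_, sq22 := ?_, disj := ?_, anti := ?_ }, fun _ _ => Iff.rfl⟩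
  · rintro p q x y ⟨hx, rfl⟩ ⟨hy, rfl⟩
    exact ⟨mul_mem hx hy, map_mul π ⟨x, hx⟩ ⟨y, hy⟩⟩
  · rintro p x ⟨hx, rfl⟩
    exact ⟨inv_mem hx, map_inv π ⟨x, hx⟩⟩
  · rintro x ⟨hx, h⟩
    exact (hcovmap.mem_ker _ h).imp (congrArg Subtype.val) (congrArg Subtype.val)
  · intro x hx
    exact ⟨_, mem_centralizer_singleton_iff.2 hx, rfl⟩
  · rintro p q x ⟨hx, rfl⟩ ⟨_, rfl⟩
    rfl
  · intro p hp
    obtain ⟨x, hx⟩ := hcovmap.lift hp
    exact ⟨x.1, x.2, hx⟩
  · rintro p x ⟨hx, rfl⟩
    exact hcovmap.sign_map _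
  · rintro p x ⟨hx, -⟩
    exact mem_centralizer_singleton_iff.1 hx
  · rintro p x ⟨hx, rfl⟩ hp
    have h2 : π (⟨x, hx⟩ * ⟨x, hx⟩) = 1 := by
      have hdvd : orderOf (π ⟨x, hx⟩) = 2 := by rw [← lcm_cycleType, hp]; rfl
      rw [map_mul, ← pow_two, ← hdvd, pow_orderOf_eq_one]
    exact congrArg Subtype.val ((hcovmap.mem_ker _ h2).resolve_left
      (hcovmap.sq_ne_one (by omega) hp))
  · rintro p q x y ⟨hx, rfl⟩ ⟨hy, rfl⟩ hd
    refine congrArg Subtype.val (hcovmap.disjoint_comm (s := (π ⟨x, hx⟩).support) subset_rfl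
      (W := ⟨y, hy⟩) ?_)
    intro i hi
    rw [Finset.mem_compl]
    exact Finset.disjoint_right.1 (disjoint_iff_disjoint_support.1 hd) hi
  · rintro p q x y ⟨hx, rfl⟩ ⟨hy, rfl⟩ hp hq hpq hc
    exact congrArg Subtype.val (hcovmap.four_anticomm (A := ⟨x, hx⟩) (B := ⟨y, hy⟩) (by omega)
      hp hq hpq hc)

namespace Dict

variable {G : Type u} [Group G] {n : ℕ} {z : G} (D : Dict G n z)

theorem orderOf_z (D : Dict G n z) : orderOf z = 2 := order_two D.z_sq D.z_ne

theorem z_inv (D : Dict G n z) : z⁻¹ = z := inv_eq_of_mul_eq_one_right D.z_sq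

theorem pow {p : Perm (Fin n)} {x : G} (h : D.R p x) (k : ℕ) : D.R (p ^ k) (x ^ k) := by
  induction k with
  | zero => simpa using D.one
  | succ k ih => rw [pow_succ, pow_succ]; exact D.mul ih h

theorem mul_z {p : Perm (Fin n)} {x : G} (h : D.R p x) : D.R p (x * z) := by
  simpa using D.mul h D.one_z

/-- Two lifts differ by a power of `z`. -/
theorem eq_or {p : Perm (Fin n)} {x y : G} (hx : D.R p x) (hy : D.R p y) : y = x ∨ y = x * z := by
  have h : D.R 1 (x⁻¹ * y) := by simpa using D.mul (D.inv hx) hy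
  rcases D.ker h with e | e
  · exact Or.inl (inv_mul_eq_one.1 e).symm
  · exact Or.inr (by rw [← e, mul_inv_cancel_left])

theorem pow_z_odd (D : Dict G n z) {k : ℕ} (hk : Odd k) : z ^ k = z := by
  obtain ⟨m, rfl⟩ := hk
  rw [pow_succ, pow_mul, pow_two, D.z_sq, one_pow, one_mul]

/-- Two lifts of odd order of the same permutation are equal. -/
theorem odd_eq {p : Perm (Fin n)} {x y : G} (hx : D.R p x) (hy : D.R p y)
    (hxo : Odd (orderOf x)) (hyo : Odd (orderOf y)) : y = x := by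
  refine (D.eq_or hx hy).resolve_right fun e => D.z_ne ?_
  have hc : Commute x z := D.cen hx
  obtain ⟨k, hk⟩ : ∃ k, k = orderOf x * orderOf y := ⟨_, rfl⟩
  have h1 : y ^ k = 1 := by rw [hk, mul_comm, pow_mul, pow_orderOf_eq_one, one_pow]
  have h2 : x ^ k = 1 := by rw [hk, pow_mul, pow_orderOf_eq_one, one_pow]
  rw [e, hc.mul_pow, h2, one_mul, D.pow_z_odd (hk ▸ hxo.mul hyo)] at h1
  exact h1

/-- Elements of odd order commute as soon as the permutations do. -/
theorem odd_comm {p q : Perm (Fin n)} {x y : G} (hx : D.R p x) (hy : D.R q y)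
    (ho : Odd (orderOf x)) (hpq : q * p = p * q) : y * x = x * y := by
  have h1 : D.R p (y * x * y⁻¹) := by
    have h := D.mul (D.mul hy hx) (D.inv hy)
    rwa [hpq, mul_inv_cancel_right] at h
  have h2 := D.odd_eq hx h1 ho (by
    rwa [show y * x * y⁻¹ = MulAut.conj y x from rfl, (MulAut.conj y).orderOf_eq])
  exact mul_inv_eq_iff_eq_mul.1 h2

/-- A conjugate of an element of odd order, from the permutations. -/
theorem odd_conj {p p' q : Perm (Fin n)} {x x' y : G} (hx : D.R p x) (hx' : D.R p' x')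
    (hy : D.R q y) (ho : Odd (orderOf x)) (ho' : Odd (orderOf x'))
    (hpq : q * p * q⁻¹ = p') : y * x * y⁻¹ = x' := by
  refine D.odd_eq hx' (hpq ▸ D.mul (D.mul hy hx) (D.inv hy)) ho' ?_
  rwa [show y * x * y⁻¹ = MulAut.conj y x from rfl, (MulAut.conj y).orderOf_eq]

/-- The lift of order three. -/
theorem exists_three {p : Perm (Fin n)} (hp : sign p = 1) (h3 : p ^ 3 = 1) :
    ∃ x, D.R p x ∧ x ^ 3 = 1 := by
  obtain ⟨x, hx⟩ := D.surj hp
  have h : D.R 1 (x ^ 3) := h3 ▸ D.pow hx 3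
  rcases D.ker h with e | e
  · exact ⟨x, hx, e⟩
  · refine ⟨x * z, D.mul_z hx, ?_⟩
    have hc : Commute x z := D.cen hx
    rw [hc.mul_pow, e, D.pow_z_odd (by decide), D.z_sq]

theorem perm_sq {p : Perm (Fin n)} {x : G} (h : D.R p x) (hx : x * x = 1) : p * p = 1 :=
  D.func (D.mul h h) (hx ▸ D.one)

theorem perm_pow_eq_one {p : Perm (Fin n)} {x : G} (h : D.R p x) {k : ℕ} (hx : x ^ k = 1) :
    p ^ k = 1 :=
  D.func (D.pow h k) (hx ▸ D.one)

theorem lift_comm {p q : Perm (Fin n)} {x y : G} (hx : D.R p x) (hy : D.R q y)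
    (h : x * y = y * x) : p * q = q * p :=
  D.func (D.mul hx hy) (h ▸ D.mul hy hx)

/-- An involution other than `z` moves at least eight points, for `n ≤ 11`. -/
theorem involution_support (hn : n ≤ 11) {p : Perm (Fin n)} {x : G} (h : D.R p x)
    (hx : orderOf x = 2) (hxz : x ≠ z) : p.cycleType = {2, 2, 2, 2} ∧ 8 ≤ p.support.card := by
  have hx2 : x * x = 1 := sq_one_of_order hx
  have hp1 : p ≠ 1 := by
    rintro rfl
    rcases D.ker h with e | e
    · rw [e, orderOf_one] at hx; omega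
    · exact hxz e
  haveI : Fact (Nat.Prime 2) := ⟨Nat.prime_two⟩
  have ho : orderOf p = 2 := order_two (D.perm_sq h hx2) hp1
  obtain ⟨k, hk⟩ := cycleType_prime_order (by rw [ho]; exact Nat.prime_two : (orderOf p).Prime)
  rw [ho] at hk
  have hsum : p.cycleType.sum ≤ n := by
    rw [sum_cycleType]
    exact (Finset.card_le_univ _).trans (le_of_eq (Fintype.card_fin n))
  have hsign := sign_of_cycleType p
  rw [D.even h, hk] at hsign
  rw [hk, Multiset.sum_replicate, smul_eq_mul] at hsum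
  have hk5 : k < 5 := by omega
  have hsupp : p.support.card = (k + 1) * 2 := by
    rw [← sum_cycleType, hk, Multiset.sum_replicate, smul_eq_mul]
  interval_cases k
  · exact absurd hsign (by decide)
  · have := D.sq22 h (by rw [hk]; rfl)
    rw [hx2] at this
    exact absurd this.symm D.z_ne
  · exact absurd hsign (by decide)
  · exact ⟨by rw [hk]; rfl, by omega⟩
  · exact absurd hsign (by decide)

end Dict

end Cfsg.Agent.Lib.S1645
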