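import Mathlib

/-!
# S1645, `n = 9`: the permutations of nine points that are used

Owner: helper25.
-/

set_option autoImplicit false

namespace Cfsg.Agent.Lib.S1645.P9

open Equiv Equiv.Perm

/-- `(6 7 8)` -/
def sg : Perm (Fin 9) := swap 6 7 * swap 7 8
/-- `(0 2 4)` -/
def sg1 : Perm (Fin 9) := swap 0 2 * swap 2 4
/-- `(1 3 5)` -/
def sg2 : Perm (Fin 9) := swap 1 3 * swap 3 5
/-- `(0 1)(2 3)(4 5)(6 7)` -/
def tau : Perm (Fin 9) := swap 0 1 * swap 2 3 * swap 4 5 * swap 6 7
/-- `(0 2)(1 3)` -/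
def om : Perm (Fin 9) := swap 0 2 * swap 1 3
/-- `(0 1)(2 3)` -/
def io1 : Perm (Fin 9) := swap 0 1 * swap 2 3
/-- `(0 1)(4 5)` -/
def io2 : Perm (Fin 9) := swap 0 1 * swap 4 5
/-- `(2 3)(4 5)` -/
def io3 : Perm (Fin 9) := swap 2 3 * swap 4 5
/-- `(0 2 4)(1 3 5)` -/
def rho : Perm (Fin 9) := sg1 * sg2

/-- The elements of `⟨(6 7 8), (0 2 4), (1 3 5)⟩`. -/
def pA (i j k : ℕ) : Perm (Fin 9) := sg ^ i * sg1 ^ j * sg2 ^ k

theorem sign_sg : sign sg = 1 := by simp [sg]
theorem sign_sg1 : sign sg1 = 1 := by simp [sg1]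
theorem sign_sg2 : sign sg2 = 1 := by simp [sg2]
theorem sign_tau : sign tau = 1 := by simp [tau]
theorem sign_om : sign om = 1 := by simp [om]
theorem sign_io1 : sign io1 = 1 := by simp [io1]
theorem sign_io2 : sign io2 = 1 := by simp [io2]

theorem sg_cube : sg ^ 3 = 1 := by decide
theorem sg1_cube : sg1 ^ 3 = 1 := by decide
theorem sg2_cube : sg2 ^ 3 = 1 := by decide

theorem sg1_sg : sg1 * sg = sg * sg1 := by decide
theorem sg2_sg : sg2 * sg = sg * sg2 := by decide
theorem sg2_sg1 : sg2 * sg1 = sg1 * sg2 := by decide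
theorem tau_sg : tau * sg * tau⁻¹ = sg ^ 2 := by decide
theorem tau_sg1 : tau * sg1 * tau⁻¹ = sg2 := by decide
theorem tau_sg2 : tau * sg2 * tau⁻¹ = sg1 := by decide
theorem om_sg : om * sg * om⁻¹ = sg := by decide
theorem om_sg1 : om * sg1 * om⁻¹ = sg1 ^ 2 := by decide
theorem om_sg2 : om * sg2 * om⁻¹ = sg2 ^ 2 := by decide
theorem io1_sg : io1 * sg = sg * io1 := by decide
theorem io2_sg : io2 * sg = sg * io2 := by decide
theorem io1_io2 : io1 * io2 = io3 := by decide
theorem io2_io1 : io2 * io1 = io3 := by decide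
theorem io1_sq : io1 * io1 = 1 := by decide
theorem io2_sq : io2 * io2 = 1 := by decide
theorem io1_tau : io1 * tau = tau * io1 := by decide
theorem io2_tau : io2 * tau = tau * io2 := by decide

theorem pA_eq_one : ∀ i j k : Fin 3, pA i j k = 1 → i = 0 ∧ j = 0 ∧ k = 0 := by decide

theorem pA_fpf_inverted : ∀ i j k : Fin 3, tau * pA i j k * tau⁻¹ = (pA i j k)⁻¹ →
    (∀ m, pA i j k m ≠ m) → i ≠ 0 ∧ j ≠ 0 ∧ k.val = 2 * j.val % 3 := by decide

theorem pA_fixed_by_tau : ∀ i j k : Fin 3, tau * pA i j k * tau⁻¹ = pA i j k → i = 0 ∧ j = k := by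
  decide

theorem tau_not_pA : ∀ i j k : Fin 3, tau ≠ pA i j k := by decide

theorem cycleType_sg : sg.cycleType = {3} :=
  IsThreeCycle.cycleType (card_support_eq_three_iff.1 (by decide))

theorem isCycle_swap' {a b : Fin 9} (h : a ≠ b) : (swap a b).cycleType = {2} :=
  isSwap_iff_cycleType.1 ⟨a, b, h, rfl⟩

theorem disjoint_of {p q : Perm (Fin 9)} (h : ∀ m, p m = m ∨ q m = m) : Perm.Disjoint p q := h

theorem cycleType_io1 : io1.cycleType = {2, 2} := by
  rw [io1, (disjoint_of (by decide)).cycleType_mul, isCycle_swap' (by decide),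
    isCycle_swap' (by decide)]
  rfl

theorem cycleType_io2 : io2.cycleType = {2, 2} := by
  rw [io2, (disjoint_of (by decide)).cycleType_mul, isCycle_swap' (by decide),
    isCycle_swap' (by decide)]
  rfl

theorem cycleType_io3 : io3.cycleType = {2, 2} := by
  rw [io3, (disjoint_of (by decide)).cycleType_mul, isCycle_swap' (by decide),
    isCycle_swap' (by decide)]
  rfl

theorem cycleType_tau : tau.cycleType = Multiset.replicate 4 2 := by
  rw [tau, (disjoint_of (by decide)).cycleType_mul, (disjoint_of (by decide)).cycleType_mul,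
    (disjoint_of (by decide)).cycleType_mul, isCycle_swap' (by decide), isCycle_swap' (by decide),
    isCycle_swap' (by decide), isCycle_swap' (by decide)]
  rfl

theorem cycleType_rho : rho.cycleType = {3, 3} := by
  rw [rho, (disjoint_of (by decide)).cycleType_mul,
    IsThreeCycle.cycleType (card_support_eq_three_iff.1 (by decide)),
    IsThreeCycle.cycleType (card_support_eq_three_iff.1 (by decide))]
  rfl

theorem cycleType_sg_io (p : Perm (Fin 9)) (hp : p = io1 ∨ p = io2 ∨ p = io3) :
    (sg * p).cycleType = {3, 2, 2} := by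
  rcases hp with rfl | rfl | rfl
  · rw [(disjoint_of (by decide)).cycleType_mul, cycleType_sg, cycleType_io1]; rfl
  · rw [(disjoint_of (by decide)).cycleType_mul, cycleType_sg, cycleType_io2]; rfl
  · rw [(disjoint_of (by decide)).cycleType_mul, cycleType_sg, cycleType_io3]; rfl

theorem card_cent_sg : Nat.card (Subgroup.centralizer ({sg} : Set (Perm (Fin 9)))) = 2160 := by
  rw [nat_card_centralizer, cycleType_sg]; rfl

theorem card_cent_tau : Nat.card (Subgroup.centralizer ({tau} : Set (Perm (Fin 9)))) = 384 := by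
  rw [nat_card_centralizer, cycleType_tau]; rfl

theorem card_cent_rho : Nat.card (Subgroup.centralizer ({rho} : Set (Perm (Fin 9)))) = 108 := by
  rw [nat_card_centralizer, cycleType_rho]; rfl

theorem card_cent_sg_io (p : Perm (Fin 9)) (hp : p = io1 ∨ p = io2 ∨ p = io3) :
    Nat.card (Subgroup.centralizer ({sg * p} : Set (Perm (Fin 9)))) = 48 := by
  rw [nat_card_centralizer, cycleType_sg_io p hp]; rfl

/-- The odd centraliser of `(6 7 8)` and one of the double transpositions has order dividing three. -/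
theorem card_odd_cent_io (p : Perm (Fin 9)) (hp : p = io1 ∨ p = io2 ∨ p = io3)
    (M : Subgroup (Perm (Fin 9))) (hodd : Odd (Nat.card M))
    (hs : ∀ m ∈ M, m * sg = sg * m) (hc : ∀ m ∈ M, m * p = p * m) : Nat.card M ∣ 3 := by
  have hle : M ≤ Subgroup.centralizer ({sg * p} : Set (Perm (Fin 9))) := fun m hm =>
    Subgroup.mem_centralizer_singleton_iff.2 (by
      rw [← mul_assoc, hs m hm, mul_assoc, hc m hm, ← mul_assoc])
  have h := Subgroup.card_dvd_of_le hle
  rw [card_cent_sg_io p hp] at h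
  have h16 : (Nat.card M).Coprime 16 :=
    Nat.Coprime.pow_right 4 (Nat.coprime_two_right.2 hodd)
  exact h16.dvd_of_dvd_mul_left (show Nat.card M ∣ 16 * 3 from h)

/-- A subgroup of order nine with all non-trivial elements of one cycle type moves every point. -/
theorem fpf_of_card_nine (S : Subgroup (Perm (Fin 9))) (hS : Nat.card S = 9)
    (hct : ∀ s ∈ S, ∀ r ∈ S, s ≠ 1 → r ≠ 1 → s.cycleType = r.cycleType) :
    ∀ s ∈ S, s ≠ 1 → ∀ m, s m ≠ m := by
  classical
  intro s hs hs1
  have hfix : ∀ g : S, Fintype.card (MulAction.fixedBy (Fin 9) g) = 9 - (g : Perm (Fin 9)).support.card := by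
    intro g
    rw [Fintype.card_subtype, show (Finset.univ.filter fun a => a ∈ MulAction.fixedBy (Fin 9) g) =
      (g : Perm (Fin 9)).supportᶜ from ?_, Finset.card_compl, Fintype.card_fin]
    ext a
    simp [MulAction.mem_fixedBy, Subgroup.smul_def, Perm.mem_support]
  have hval : ∀ g : S, g ≠ 1 →
      Fintype.card (MulAction.fixedBy (Fin 9) g) = 9 - s.support.card := by
    intro g hg
    rw [hfix, ← sum_cycleType, ← sum_cycleType, hct g g.2 s hs (fun e => hg (Subtype.ext e)) hs1]
  have h := MulAction.sum_card_fixedBy_eq_card_orbits_mul_card_group S (Fin 9)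
  rw [← Finset.add_sum_erase Finset.univ _ (Finset.mem_univ (1 : S)),
    Finset.sum_congr rfl (fun g hg => hval g (Finset.ne_of_mem_erase hg)), Finset.sum_const,
    Finset.card_erase_of_mem (Finset.mem_univ _), Finset.card_univ, hfix,
    ← Nat.card_eq_fintype_card (α := S), hS] at h
  simp only [OneMemClass.coe_one, support_one, Finset.card_empty, smul_eq_mul] at h
  have hle : s.support.card ≤ 9 := (Finset.card_le_univ _).trans_eq (Fintype.card_fin 9)
  have hne : s.support.card ≠ 0 := fun e => hs1 (support_eq_empty_iff.1 (Finset.card_eq_zero.1 e))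
  have h9 : s.support.card = 9 := by omega
  have huniv : s.support = Finset.univ :=
    Finset.card_eq_iff_eq_univ _ |>.1 (by rw [h9, Fintype.card_fin])
  intro m
  exact Perm.mem_support.1 (huniv ▸ Finset.mem_univ m)

end Cfsg.Agent.Lib.S1645.P9
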