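import Cfsg.Agent.Lib.S1645.Dict
import Cfsg.Agent.Lib.S1645.Perm9

/-!
# S1645, `n = 9`: the elements over `(6 7 8)`, `(0 2 4)`, `(1 3 5)` and the four-group

`x, x1, x2` lift the three three-cycles, `y = x1 x2`, `t` lifts `(0 1)(2 3)(4 5)(6 7)`.  The odd
elements of `C(y) ∩ C(z)` form `A = ⟨x, x1, x2⟩`.  An element `g` permutes `z, t, t z` cyclically
and normalises `⟨y⟩`.

Owner: helper25.
-/

set_option autoImplicit false
set_option linter.style.haveILetI false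
set_option linter.unusedSectionVars false

universe u

namespace Cfsg.Agent.Lib.S1645.Nine

open Subgroup Equiv Equiv.Perm
open Cfsg.Agent.Lib.S1645.P9

theorem pA_inj : ∀ i j k i' j' k' : Fin 3, pA i j k 6 = pA i' j' k' 6 →
    pA i j k 0 = pA i' j' k' 0 → pA i j k 1 = pA i' j' k' 1 → i = i' ∧ j = j' ∧ k = k' := by
  decide

/-- The data of the case `n = 9`. -/
structure Ctx (G : Type u) [Group G] (z : G) where
  π : ↥(centralizer ({z} : Set G)) →* Perm (Fin 9)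
  S : Setting 9 z π
  F : Fused π
  D : Dict G 9 z
  hD : ∀ p u, D.R p u ↔ ∃ hu : u ∈ centralizer ({z} : Set G), π ⟨u, hu⟩ = p
  x : G
  x1 : G
  x2 : G
  t : G
  w : G
  rx : D.R sg x
  rx1 : D.R sg1 x1
  rx2 : D.R sg2 x2
  rt : D.R tau t
  rw' : D.R om w
  x3 : x ^ 3 = 1
  x13 : x1 ^ 3 = 1
  x23 : x2 ^ 3 = 1
  t2 : orderOf t = 2
  tz : t ≠ z
  wt : w * t * w⁻¹ = t * z

theorem exists_ctx {G : Type u} [Group G] [Finite G] {z : G}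
    {π : ↥(centralizer ({z} : Set G)) →* Perm (Fin 9)} (S : Setting 9 z π) (F : Fused π) :
    Nonempty (Ctx G z) := by
  obtain ⟨D, hD⟩ := exists_dict (by norm_num) S
  obtain ⟨x, rx, x3⟩ := D.exists_three sign_sg sg_cube
  obtain ⟨x1, rx1, x13⟩ := D.exists_three sign_sg1 sg1_cube
  obtain ⟨x2, rx2, x23⟩ := D.exists_three sign_sg2 sg2_cube
  obtain ⟨t, rt⟩ := D.surj sign_tau
  obtain ⟨w, rw'⟩ := D.surj sign_om
  obtain ⟨ht, pt⟩ := (hD tau t).1 rt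
  obtain ⟨hw, pw⟩ := (hD om w).1 rw'
  obtain ⟨t2, tz⟩ := S.cover.orderOf_lift (by norm_num) (k := 1) le_rfl (g := ⟨t, ht⟩)
    (by rw [pt, cycleType_tau])
  have wt := congrArg Subtype.val (S.cover.twist_block_swap (by norm_num)
    (a := (0 : Fin 9)) (b := 1) (c := 2) (d := 3) (by decide)
    (q := swap 4 5 * swap 6 7) (by decide) (x := ⟨t, ht⟩) (s := ⟨w, hw⟩)
    (by rw [pt]; rfl) (by rw [pw]; rfl))
  exact ⟨⟨π, S, F, D, hD, x, x1, x2, t, w, rx, rx1, rx2, rt, rw', x3, x13, x23,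
    by rw [← t2, Subgroup.orderOf_mk], fun e => tz (Subtype.ext e), wt⟩⟩

/-- An element commutes with `y` as soon as it commutes with its conjugate in `⟨y⟩`. -/
theorem comm_of_conj {G : Type u} [Group G] {g y e : G} (hg : g * y * g⁻¹ = y ∨ g * y * g⁻¹ = y⁻¹) :
    e * y = y * e ↔ (g * e * g⁻¹) * y = y * (g * e * g⁻¹) := by
  have h : e * y = y * e ↔ (g * e * g⁻¹) * (g * y * g⁻¹) = (g * y * g⁻¹) * (g * e * g⁻¹) := by
    have := (MulAut.conj g).injective.eq_iff (a := e * y) (b := y * e)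
    simp only [map_mul, MulAut.conj_apply] at this
    exact this.symm
  rw [h]
  rcases hg with e1 | e1 <;> rw [e1]
  exact ⟨fun h1 => (Commute.inv_right_iff.1 h1).eq, fun h1 => (Commute.inv_right h1).eq⟩

theorem sq_eq_inv' {G : Type u} [Group G] {u : G} (h : u ^ 3 = 1) : u ^ 2 = u⁻¹ :=
  eq_inv_of_mul_eq_one_left (by rw [← pow_succ, h])

namespace Ctx

variable {G : Type u} [Group G] [Finite G] {z : G} (Γ : Ctx G z)
include Γ

theorem zz : z * z = 1 := Γ.D.z_sq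

theorem zinv : z⁻¹ = z := Γ.D.z_inv

theorem tt : Γ.t * Γ.t = 1 := sq_one_of_order Γ.t2

theorem tinv : Γ.t⁻¹ = Γ.t := inv_eq_of_mul_eq_one_right Γ.tt

theorem t_z : Γ.t * z = z * Γ.t := Γ.D.cen Γ.rt

theorem w_z : Γ.w * z = z * Γ.w := Γ.D.cen Γ.rw'

theorem x_odd : Odd (orderOf Γ.x) := odd_of_cube Γ.x3
theorem x1_odd : Odd (orderOf Γ.x1) := odd_of_cube Γ.x13
theorem x2_odd : Odd (orderOf Γ.x2) := odd_of_cube Γ.x23

theorem x1_x : Commute Γ.x1 Γ.x := Γ.D.odd_comm Γ.rx Γ.rx1 Γ.x_odd sg1_sg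
theorem x2_x : Commute Γ.x2 Γ.x := Γ.D.odd_comm Γ.rx Γ.rx2 Γ.x_odd sg2_sg
theorem x2_x1 : Commute Γ.x2 Γ.x1 := Γ.D.odd_comm Γ.rx1 Γ.rx2 Γ.x1_odd sg2_sg1

/-- `y = x1 x2`. -/
def y : G := Γ.x1 * Γ.x2

theorem y3 : Γ.y ^ 3 = 1 := by
  rw [y, Γ.x2_x1.symm.mul_pow, Γ.x13, Γ.x23, one_mul]

theorem ry : Γ.D.R rho Γ.y := Γ.D.mul Γ.rx1 Γ.rx2

theorem y_ne : Γ.y ≠ 1 := by
  intro e
  have h := Γ.D.func Γ.ry (e ▸ Γ.D.one)
  exact absurd h (by decide)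

theorem y_z : Γ.y * z = z * Γ.y := Γ.D.cen Γ.ry

theorem t_x : Γ.t * Γ.x * Γ.t⁻¹ = Γ.x ^ 2 :=
  Γ.D.odd_conj Γ.rx (Γ.D.pow Γ.rx 2) Γ.rt Γ.x_odd
    (odd_of_cube (by rw [← pow_mul, mul_comm, pow_mul, Γ.x3, one_pow])) tau_sg

theorem t_x1 : Γ.t * Γ.x1 * Γ.t⁻¹ = Γ.x2 :=
  Γ.D.odd_conj Γ.rx1 Γ.rx2 Γ.rt Γ.x1_odd Γ.x2_odd tau_sg1

theorem t_x2 : Γ.t * Γ.x2 * Γ.t⁻¹ = Γ.x1 :=
  Γ.D.odd_conj Γ.rx2 Γ.rx1 Γ.rt Γ.x2_odd Γ.x1_odd tau_sg2

theorem w_x : Γ.w * Γ.x * Γ.w⁻¹ = Γ.x :=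
  Γ.D.odd_conj Γ.rx Γ.rx Γ.rw' Γ.x_odd Γ.x_odd om_sg

theorem w_x1 : Γ.w * Γ.x1 * Γ.w⁻¹ = Γ.x1 ^ 2 :=
  Γ.D.odd_conj Γ.rx1 (Γ.D.pow Γ.rx1 2) Γ.rw' Γ.x1_odd
    (odd_of_cube (by rw [← pow_mul, mul_comm, pow_mul, Γ.x13, one_pow])) om_sg1

theorem w_x2 : Γ.w * Γ.x2 * Γ.w⁻¹ = Γ.x2 ^ 2 :=
  Γ.D.odd_conj Γ.rx2 (Γ.D.pow Γ.rx2 2) Γ.rw' Γ.x2_odd
    (odd_of_cube (by rw [← pow_mul, mul_comm, pow_mul, Γ.x23, one_pow])) om_sg2

theorem w_y : Γ.w * Γ.y * Γ.w⁻¹ = Γ.y⁻¹ := by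
  rw [← sq_eq_inv' Γ.y3, y, Γ.x2_x1.symm.mul_pow, ← Γ.w_x1, ← Γ.w_x2]
  group

theorem t_y : Γ.t * Γ.y = Γ.y * Γ.t := by
  refine mul_inv_eq_iff_eq_mul.1 ?_
  rw [y]
  calc Γ.t * (Γ.x1 * Γ.x2) * Γ.t⁻¹ = (Γ.t * Γ.x1 * Γ.t⁻¹) * (Γ.t * Γ.x2 * Γ.t⁻¹) := by group
    _ = Γ.x2 * Γ.x1 := by rw [Γ.t_x1, Γ.t_x2]
    _ = _ := Γ.x2_x1.eq

/-- `x^i x1^j x2^k`. -/
def el (i j k : ℕ) : G := Γ.x ^ i * Γ.x1 ^ j * Γ.x2 ^ k

theorem r_el (i j k : ℕ) : Γ.D.R (pA i j k) (Γ.el i j k) :=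
  Γ.D.mul (Γ.D.mul (Γ.D.pow Γ.rx i) (Γ.D.pow Γ.rx1 j)) (Γ.D.pow Γ.rx2 k)

theorem el_mul (i j k i' j' k' : ℕ) :
    Γ.el i j k * Γ.el i' j' k' = Γ.el (i + i') (j + j') (k + k') := by
  have h1 : Commute (Γ.x1 ^ j * Γ.x2 ^ k) (Γ.x ^ i') :=
    Commute.mul_left (Γ.x1_x.pow_pow j i') (Γ.x2_x.pow_pow k i')
  have h2 : Commute (Γ.x2 ^ k) (Γ.x1 ^ j') := Γ.x2_x1.pow_pow k j'
  simp only [el, pow_add, mul_assoc]
  rw [← mul_assoc (Γ.x1 ^ j), ← mul_assoc (Γ.x1 ^ j * Γ.x2 ^ k), h1.eq]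
  simp only [mul_assoc]
  rw [← mul_assoc (Γ.x2 ^ k), h2.eq, mul_assoc]

theorem el_zero : Γ.el 0 0 0 = 1 := by simp [el]

theorem el_cube (i j k : ℕ) : Γ.el (3 * i) (3 * j) (3 * k) = 1 := by
  simp [el, pow_mul, Γ.x3, Γ.x13, Γ.x23]

/-- `A = ⟨x, x1, x2⟩`. -/
def A : Subgroup G where
  carrier := {a | ∃ i j k : ℕ, a = Γ.el i j k}
  one_mem' := ⟨0, 0, 0, Γ.el_zero.symm⟩
  mul_mem' := by
    rintro _ _ ⟨i, j, k, rfl⟩ ⟨i', j', k', rfl⟩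
    exact ⟨_, _, _, Γ.el_mul i j k i' j' k'⟩
  inv_mem' := by
    rintro _ ⟨i, j, k, rfl⟩
    refine ⟨2 * i, 2 * j, 2 * k, inv_eq_of_mul_eq_one_right ?_⟩
    rw [Γ.el_mul, show i + 2 * i = 3 * i by ring, show j + 2 * j = 3 * j by ring,
      show k + 2 * k = 3 * k by ring, Γ.el_cube]

theorem el_mem (i j k : ℕ) : Γ.el i j k ∈ Γ.A := ⟨i, j, k, rfl⟩

theorem x_mem : Γ.x ∈ Γ.A := ⟨1, 0, 0, by simp [el]⟩
theorem x1_mem : Γ.x1 ∈ Γ.A := ⟨0, 1, 0, by simp [el]⟩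
theorem x2_mem : Γ.x2 ∈ Γ.A := ⟨0, 0, 1, by simp [el]⟩
theorem y_mem : Γ.y ∈ Γ.A := mul_mem Γ.x1_mem Γ.x2_mem

theorem A_comm {a b : G} (ha : a ∈ Γ.A) (hb : b ∈ Γ.A) : a * b = b * a := by
  obtain ⟨i, j, k, rfl⟩ := ha
  obtain ⟨i', j', k', rfl⟩ := hb
  rw [Γ.el_mul, Γ.el_mul, add_comm i, add_comm j, add_comm k]

theorem A_cube {a : G} (ha : a ∈ Γ.A) : a ^ 3 = 1 := by
  obtain ⟨i, j, k, rfl⟩ := ha
  rw [pow_succ, pow_two, Γ.el_mul, Γ.el_mul, show i + i + i = 3 * i by ring,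
    show j + j + j = 3 * j by ring, show k + k + k = 3 * k by ring, Γ.el_cube]

theorem A_odd {a : G} (ha : a ∈ Γ.A) : Odd (orderOf a) := odd_of_cube (Γ.A_cube ha)

theorem A_z {a : G} (ha : a ∈ Γ.A) : a * z = z * a := by
  obtain ⟨i, j, k, rfl⟩ := ha
  exact Γ.D.cen (Γ.r_el i j k)

theorem A_y {a : G} (ha : a ∈ Γ.A) : a * Γ.y = Γ.y * a := Γ.A_comm ha Γ.y_mem

theorem exists_fin {a : G} (ha : a ∈ Γ.A) : ∃ i j k : Fin 3, a = Γ.el i j k := by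
  obtain ⟨i, j, k, rfl⟩ := ha
  refine ⟨⟨i % 3, by omega⟩, ⟨j % 3, by omega⟩, ⟨k % 3, by omega⟩, ?_⟩
  rw [el, el, pow_eq_pow_mod i Γ.x3, pow_eq_pow_mod j Γ.x13, pow_eq_pow_mod k Γ.x23]

/-- Conjugation by an element that moves the generators inside `A` maps `A` into itself. -/
theorem map_A {g : G} (h0 : g * Γ.x * g⁻¹ ∈ Γ.A) (h1 : g * Γ.x1 * g⁻¹ ∈ Γ.A)
    (h2 : g * Γ.x2 * g⁻¹ ∈ Γ.A) {a : G} (ha : a ∈ Γ.A) : g * a * g⁻¹ ∈ Γ.A := by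
  obtain ⟨i, j, k, rfl⟩ := ha
  have e : g * Γ.el i j k * g⁻¹ =
      (g * Γ.x * g⁻¹) ^ i * (g * Γ.x1 * g⁻¹) ^ j * (g * Γ.x2 * g⁻¹) ^ k := by
    rw [conj_pow, conj_pow, conj_pow, el]
    group
  rw [e]
  exact mul_mem (mul_mem (pow_mem h0 i) (pow_mem h1 j)) (pow_mem h2 k)

theorem t_A {a : G} (ha : a ∈ Γ.A) : Γ.t * a * Γ.t⁻¹ ∈ Γ.A :=
  Γ.map_A (Γ.t_x.symm ▸ pow_mem Γ.x_mem 2) (Γ.t_x1.symm ▸ Γ.x2_mem) (Γ.t_x2.symm ▸ Γ.x1_mem) ha

theorem w_A {a : G} (ha : a ∈ Γ.A) : Γ.w * a * Γ.w⁻¹ ∈ Γ.A :=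
  Γ.map_A (Γ.w_x.symm ▸ Γ.x_mem) (Γ.w_x1.symm ▸ pow_mem Γ.x1_mem 2)
    (Γ.w_x2.symm ▸ pow_mem Γ.x2_mem 2) ha

theorem z_notMem : z ∉ Γ.A := fun h => by
  have := Γ.A_odd h
  rw [Γ.D.orderOf_z] at this
  exact absurd this (by decide)

theorem card_A : Nat.card Γ.A = 27 := by
  let f : Fin 3 × Fin 3 × Fin 3 → Γ.A := fun q => ⟨Γ.el q.1 q.2.1 q.2.2, Γ.el_mem _ _ _⟩
  have hf : Function.Bijective f := by
    refine ⟨?_, ?_⟩
    · rintro ⟨i, j, k⟩ ⟨i', j', k'⟩ h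
      have h' : Γ.el i j k = Γ.el i' j' k' := congrArg Subtype.val h
      have e := Γ.D.func (Γ.r_el i j k) (h'.symm ▸ Γ.r_el i' j' k')
      obtain ⟨a, b, c⟩ := pA_inj i j k i' j' k' (by rw [e]) (by rw [e]) (by rw [e])
      simp [a, b, c]
    · rintro ⟨a, ha⟩
      obtain ⟨i, j, k, rfl⟩ := Γ.exists_fin ha
      exact ⟨(i, j, k), rfl⟩
  rw [← Nat.card_eq_of_bijective f hf]
  simp

/-- `U = A × ⟨z⟩`. -/
def U : Subgroup G where
  carrier := {u | u ∈ Γ.A ∨ u * z ∈ Γ.A}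
  one_mem' := Or.inl (one_mem _)
  mul_mem' := by
    rintro a b (ha | ha) (hb | hb)
    · exact Or.inl (mul_mem ha hb)
    · exact Or.inr (by rw [mul_assoc]; exact mul_mem ha hb)
    · refine Or.inr ?_
      rw [show a * b * z = a * z * b by rw [mul_assoc, Γ.A_z hb, ← mul_assoc]]
      exact mul_mem ha hb
    · refine Or.inl ?_
      have h := mul_mem ha hb
      have hbz := Γ.A_z hb
      rw [mul_assoc, Γ.zz, mul_one, ← mul_assoc] at hbz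
      rw [mul_assoc, ← mul_assoc z, ← hbz] at h
      exact h
  inv_mem' := by
    rintro a (ha | ha)
    · exact Or.inl (inv_mem ha)
    · refine Or.inr ?_
      have hc : Commute (a * z) z := Γ.A_z ha
      have hc' : Commute a z := by
        have := hc.mul_left (Commute.refl z)
        rwa [mul_assoc, Γ.zz, mul_one] at this
      have h := inv_mem ha
      rwa [mul_inv_rev, Γ.zinv, ← hc'.inv_left.eq] at h

theorem A_le_U : Γ.A ≤ Γ.U := fun _ h => Or.inl h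

theorem z_mem_U : z ∈ Γ.U := Or.inr (by rw [Γ.zz]; exact one_mem _)

theorem U_cases {u : G} (hu : u ∈ Γ.U) : ∃ a ∈ Γ.A, u = a ∨ u = a * z := by
  rcases hu with h | h
  · exact ⟨u, h, Or.inl rfl⟩
  · exact ⟨u * z, h, Or.inr (by rw [mul_assoc, Γ.zz, mul_one])⟩

theorem U_z {u : G} (hu : u ∈ Γ.U) : u * z = z * u := by
  obtain ⟨a, ha, e | e⟩ := Γ.U_cases hu <;> rw [e]
  · exact Γ.A_z ha
  · rw [Γ.A_z ha, mul_assoc, Γ.A_z ha]

theorem U_comm {u v : G} (hu : u ∈ Γ.U) (hv : v ∈ Γ.U) : u * v = v * u := by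
  obtain ⟨a, ha, e | e⟩ := Γ.U_cases hu <;> obtain ⟨b, hb, e' | e'⟩ := Γ.U_cases hv <;> rw [e, e']
  · exact Γ.A_comm ha hb
  · exact ((show Commute a b from Γ.A_comm ha hb).mul_right (Γ.A_z ha)).eq
  · exact ((show Commute a b from Γ.A_comm ha hb).mul_left (show Commute b z from Γ.A_z hb).symm).eq
  · exact (((show Commute a b from Γ.A_comm ha hb).mul_left (show Commute b z from Γ.A_z hb).symm).mul_right
      ((show Commute a z from Γ.A_z ha).mul_left (Commute.refl z))).eq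

theorem mem_A_of_odd {u : G} (hu : u ∈ Γ.U) (ho : Odd (orderOf u)) : u ∈ Γ.A := by
  rcases Γ.U_cases hu with ⟨a, ha, e | e⟩ <;> subst e
  · exact ha
  · exfalso
    obtain ⟨m, hm⟩ : Odd (orderOf (a * z) * 3) := ho.mul (by decide)
    have h : (a * z) ^ (orderOf (a * z) * 3) = 1 := by
      rw [pow_mul, pow_orderOf_eq_one, one_pow]
    rw [(show Commute a z from Γ.A_z ha).mul_pow] at h
    conv at h => lhs; lhs; rw [mul_comm, pow_mul, Γ.A_cube ha, one_pow]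
    rw [one_mul, Γ.D.pow_z_odd ⟨m, hm⟩] at h
    exact Γ.D.z_ne h

theorem t_notMem_U : Γ.t ∉ Γ.U := by
  intro h
  have : Γ.D.R tau Γ.t := Γ.rt
  rcases Γ.U_cases h with ⟨a, ha, e | e⟩ <;> obtain ⟨i, j, k, rfl⟩ := Γ.exists_fin ha
  · exact tau_not_pA i j k (Γ.D.func Γ.rt (e ▸ Γ.r_el i j k))
  · exact tau_not_pA i j k (Γ.D.func Γ.rt (e ▸ Γ.D.mul_z (Γ.r_el i j k)))

theorem t_U {u : G} (hu : u ∈ Γ.U) : Γ.t * u * Γ.t⁻¹ ∈ Γ.U := by
  rcases hu with h | h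
  · exact Or.inl (Γ.t_A h)
  · refine Or.inr ?_
    have e : Γ.t * u * Γ.t⁻¹ * z = Γ.t * (u * z) * Γ.t⁻¹ := by
      rw [Γ.tinv]
      simp only [mul_assoc]
      rw [Γ.t_z]
    rw [e]
    exact Γ.t_A h

theorem card_U : Nat.card Γ.U = 54 := by
  have hidx : (Γ.A.subgroupOf Γ.U).index = 2 := by
    rw [Subgroup.index_eq_two_iff]
    refine ⟨⟨z, Γ.z_mem_U⟩, fun b => ?_⟩
    simp only [Subgroup.mem_subgroupOf, Subgroup.coe_mul]
    rcases b.2 with h | h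
    · refine Or.inr ⟨h, fun h' => Γ.z_notMem ?_⟩
      simpa using mul_mem (inv_mem h) h'
    · refine Or.inl ⟨h, fun h' => Γ.z_notMem ?_⟩
      simpa using mul_mem (inv_mem h') h
  have := Subgroup.card_mul_index (Γ.A.subgroupOf Γ.U)
  rw [hidx, Nat.card_congr (Subgroup.subgroupOfEquivOfLe Γ.A_le_U).toEquiv, Γ.card_A] at this
  omega

/-- The centraliser in `C(z)` of an element of odd order, as a subgroup of `G`. -/
theorem card_centralizer_inf {p : Perm (Fin 9)} {u : G} (hu : Γ.D.R p u) (ho : Odd (orderOf u)) :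
    Nat.card ↥(centralizer ({z} : Set G) ⊓ centralizer ({u} : Set G)) =
      2 * Nat.card ↥(alternatingGroup (Fin 9) ⊓ centralizer ({p} : Set (Perm (Fin 9)))) := by
  obtain ⟨huC, rfl⟩ := (Γ.hD p u).1 hu
  rw [← Γ.S.cover.card_centralizer_of_odd (by norm_num) (x := ⟨u, huC⟩)
    (by rwa [Subgroup.orderOf_mk])]
  refine Nat.card_congr
    { toFun := fun g => ⟨⟨g.1, g.2.1⟩, mem_centralizer_singleton_iff.2
        (Subtype.ext (mem_centralizer_singleton_iff.1 g.2.2))⟩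
      invFun := fun g => ⟨g.1.1, g.1.2, mem_centralizer_singleton_iff.2
        (congrArg Subtype.val (mem_centralizer_singleton_iff.1 g.2))⟩
      left_inv := fun _ => rfl
      right_inv := fun _ => rfl }

theorem U_index : (Γ.U.subgroupOf (centralizer ({z} : Set G) ⊓ centralizer ({Γ.y} : Set G))).index
    = 2 := by
  set C := centralizer ({z} : Set G) ⊓ centralizer ({Γ.y} : Set G)
  have hle : Γ.U ≤ C := fun u hu => ⟨mem_centralizer_singleton_iff.2 (Γ.U_z hu),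
    mem_centralizer_singleton_iff.2 (Γ.U_comm hu (Γ.A_le_U Γ.y_mem))⟩
  have htC : Γ.t ∈ C := ⟨mem_centralizer_singleton_iff.2 Γ.t_z, mem_centralizer_singleton_iff.2 Γ.t_y⟩
  have h := Subgroup.card_mul_index (Γ.U.subgroupOf C)
  rw [Nat.card_congr (Subgroup.subgroupOfEquivOfLe hle).toEquiv, Γ.card_U,
    show Nat.card C = _ from Γ.card_centralizer_inf Γ.ry (odd_of_cube Γ.y3)] at h
  have hne : (Γ.U.subgroupOf C).index ≠ 1 := fun e =>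
    Γ.t_notMem_U (Subgroup.subgroupOf_eq_top.1 (Subgroup.index_eq_one.1 e) htC)
  have h0 : (Γ.U.subgroupOf C).index ≠ 0 := Subgroup.index_ne_zero_of_finite
  set Z := alternatingGroup (Fin 9) ⊓ centralizer ({rho} : Set (Perm (Fin 9))) with hZ
  have hd := Subgroup.card_dvd_of_le (inf_le_right : Z ≤ centralizer ({rho} : Set (Perm (Fin 9))))
  rw [card_cent_rho] at hd
  have hZne : Nat.card Z ≠ 108 := by
    intro e
    have hs : swap (6 : Fin 9) 7 ∈ Z := by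
      rw [Subgroup.eq_of_le_of_card_ge (H := Z)
        (inf_le_right : Z ≤ centralizer ({rho} : Set (Perm (Fin 9)))) (by rw [card_cent_rho, e])]
      exact mem_centralizer_singleton_iff.2 (by decide)
    exact absurd (mem_alternatingGroup.1 hs.1) (by simp)
  obtain ⟨m, hm⟩ := hd
  have hm2 : 2 ≤ m := by
    rcases m with _ | _ | m
    · rw [mul_zero] at hm; omega
    · exact absurd ((Nat.mul_one _).symm.trans hm.symm) hZne
    · omega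
  have hle2 : Nat.card Z * 2 ≤ 108 := by
    rw [hm]
    exact Nat.mul_le_mul_left _ hm2
  omega

/-- `C(y) ∩ C(z) = U ∪ t U`. -/
theorem cases_cz {g : G} (hz : g * z = z * g) (hy : g * Γ.y = Γ.y * g) :
    g ∈ Γ.U ∨ Γ.t * g ∈ Γ.U := by
  set C := centralizer ({z} : Set G) ⊓ centralizer ({Γ.y} : Set G)
  have hg : g ∈ C := ⟨mem_centralizer_singleton_iff.2 hz, mem_centralizer_singleton_iff.2 hy⟩
  have htC : Γ.t ∈ C := ⟨mem_centralizer_singleton_iff.2 Γ.t_z, mem_centralizer_singleton_iff.2 Γ.t_y⟩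
  have h := Subgroup.mul_mem_iff_of_index_two Γ.U_index (a := ⟨Γ.t, htC⟩) (b := ⟨g, hg⟩)
  simp only [Subgroup.mem_subgroupOf, Subgroup.coe_mul] at h
  by_cases hgU : g ∈ Γ.U
  · exact Or.inl hgU
  · exact Or.inr (h.2 ⟨fun ht => absurd ht Γ.t_notMem_U, fun hu => absurd hu hgU⟩)

/-- The elements of odd order of `C(y) ∩ C(z)` lie in `A`. -/
theorem mem_A {g : G} (hz : g * z = z * g) (hy : g * Γ.y = Γ.y * g) (ho : Odd (orderOf g)) :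
    g ∈ Γ.A := by
  set C := centralizer ({z} : Set G) ⊓ centralizer ({Γ.y} : Set G)
  have hg : g ∈ C := ⟨mem_centralizer_singleton_iff.2 hz, mem_centralizer_singleton_iff.2 hy⟩
  have h2 : g ^ 2 ∈ Γ.U := Subgroup.sq_mem_of_index_two Γ.U_index ⟨g, hg⟩
  refine Γ.mem_A_of_odd ?_ ho
  obtain ⟨m, hm⟩ := ho
  have h3 := pow_mem h2 (m + 1)
  rwa [← pow_mul, show 2 * (m + 1) = orderOf g + 1 by omega, pow_succ, pow_orderOf_eq_one,
    one_mul] at h3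

/-- An element cycling `z, t, t z` which maps `y` to a power. -/
theorem exists_g : ∃ g : G, g * z * g⁻¹ = Γ.t ∧ g * Γ.t * g⁻¹ = Γ.t * z ∧
    g * (Γ.t * z) * g⁻¹ = z ∧ (g * Γ.y * g⁻¹ = Γ.y ∨ g * Γ.y * g⁻¹ = Γ.y⁻¹) := by
  obtain ⟨htC, htp⟩ := (Γ.hD tau Γ.t).1 Γ.rt
  have hn5 : 5 ≤ 9 := by norm_num
  -- a twist of `z` in the centraliser of `t`
  obtain ⟨h0, hh0⟩ := isConj_iff.1 (Γ.F Γ.t ⟨Γ.t2, htC, by rw [htp, cycleType_tau]⟩)
  set s := h0⁻¹ * z * h0 with hs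
  have hsz : s * z = z * s := by
    have : z * (h0 * z * h0⁻¹) = h0 * z * h0⁻¹ * z := by rw [hh0]; exact Γ.t_z.symm
    calc s * z = h0⁻¹ * (z * (h0 * z * h0⁻¹)) * h0 := by rw [hs]; group
      _ = h0⁻¹ * (h0 * z * h0⁻¹ * z) * h0 := by rw [this]
      _ = z * s := by rw [hs]; group
  have hs2 : orderOf s = 2 := by
    rw [hs, show h0⁻¹ * z * h0 = MulAut.conj h0⁻¹ z by simp, (MulAut.conj h0⁻¹).orderOf_eq]
    exact Γ.D.orderOf_z
  have hsne : s ≠ z := fun e => Γ.tz (by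
    calc Γ.t = h0 * s * h0⁻¹ := by rw [e, hh0]
      _ = z := by rw [hs]; group)
  obtain ⟨p, hp⟩ := Γ.D.total hsz
  obtain ⟨hsC, rfl⟩ := (Γ.hD p s).1 hp
  have hct := (Γ.D.involution_support (by norm_num) hp hs2 hsne).1
  obtain ⟨k, hk⟩ := Γ.S.cover.exists_twist hn5 (m := 4) (x := ⟨s, hsC⟩) (by norm_num)
    (by rw [hct]; rfl)
  have hk' : (k : G) * s * (k : G)⁻¹ = s * z := congrArg Subtype.val hk
  have hkz : (k : G) * z = z * k := mem_centralizer_singleton_iff.1 k.2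
  set r := h0 * (k : G) * h0⁻¹ with hr
  have hrt : r * Γ.t * r⁻¹ = Γ.t := by
    rw [← hh0, hr]
    calc h0 * (k : G) * h0⁻¹ * (h0 * z * h0⁻¹) * (h0 * (k : G) * h0⁻¹)⁻¹
        = h0 * ((k : G) * z * (k : G)⁻¹) * h0⁻¹ := by group
      _ = _ := by rw [hkz, mul_inv_cancel_right]
  have hrz : r * z * r⁻¹ = Γ.t * z := by
    have e : z = h0 * s * h0⁻¹ := by rw [hs]; group
    calc r * z * r⁻¹ = r * (h0 * s * h0⁻¹) * r⁻¹ := by rw [← e]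
      _ = h0 * ((k : G) * s * (k : G)⁻¹) * h0⁻¹ := by rw [hr]; group
      _ = h0 * s * h0⁻¹ * (h0 * z * h0⁻¹) := by rw [hk']; group
      _ = Γ.t * z := by rw [← e, hh0, Γ.t_z]
  have hrtz : r * (Γ.t * z) * r⁻¹ = z := by
    rw [show r * (Γ.t * z) * r⁻¹ = (r * Γ.t * r⁻¹) * (r * z * r⁻¹) by group, hrt, hrz, ← mul_assoc,
      Γ.tt, one_mul]
  have hwz : Γ.w * z * Γ.w⁻¹ = z := by rw [Γ.w_z, mul_inv_cancel_right]
  have hwtz : Γ.w * (Γ.t * z) * Γ.w⁻¹ = Γ.t := by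
    rw [show Γ.w * (Γ.t * z) * Γ.w⁻¹ = (Γ.w * Γ.t * Γ.w⁻¹) * (Γ.w * z * Γ.w⁻¹) by group, Γ.wt,
      hwz, mul_assoc, Γ.zz, mul_one]
  -- the inverse of `r w` cycles the three involutions the right way
  set g0 := Γ.w⁻¹ * r⁻¹ with hg0
  have back : ∀ {a b c : G}, Γ.w * a * Γ.w⁻¹ = b → r * b * r⁻¹ = c → g0 * c * g0⁻¹ = a := by
    intro a b c h1 h2
    rw [← h2, ← h1, hg0]
    group
  have g1 : g0 * z * g0⁻¹ = Γ.t := back Γ.wt hrtz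
  have g2 : g0 * Γ.t * g0⁻¹ = Γ.t * z := back hwtz hrt
  have g3 : g0 * (Γ.t * z) * g0⁻¹ = z := back hwz hrz
  -- both conjugates of `⟨y⟩` are Sylow subgroups of `C(z) ∩ C(t)`
  set E := centralizer ({z} : Set G) ⊓ centralizer ({Γ.t} : Set G) with hE
  have hEdvd : Nat.card E ∣ 384 := by
    have h1 := Γ.S.cover.card_centralizer_of_twist hn5 (m := 4) (x := ⟨Γ.t, htC⟩) (by norm_num)
      (by rw [htp, cycleType_tau])
    have h2 : Nat.card E = Nat.card (centralizer ({⟨Γ.t, htC⟩} : Set ↥(centralizer ({z} : Set G)))) :=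
      Nat.card_congr
        { toFun := fun g => ⟨⟨g.1, g.2.1⟩, mem_centralizer_singleton_iff.2
            (Subtype.ext (mem_centralizer_singleton_iff.1 g.2.2))⟩
          invFun := fun g => ⟨g.1.1, g.1.2, mem_centralizer_singleton_iff.2
            (congrArg Subtype.val (mem_centralizer_singleton_iff.1 g.2))⟩
          left_inv := fun _ => rfl
          right_inv := fun _ => rfl }
    rw [h2, h1, htp, ← card_cent_tau]
    exact Subgroup.card_dvd_of_le inf_le_right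
  have hyE : Γ.y ∈ E :=
    ⟨mem_centralizer_singleton_iff.2 Γ.y_z, mem_centralizer_singleton_iff.2 Γ.t_y.symm⟩
  have hyE' : g0 * Γ.y * g0⁻¹ ∈ E := by
    have key : ∀ a b : G, g0 * a * g0⁻¹ = b → Γ.y * a = a * Γ.y →
        g0 * Γ.y * g0⁻¹ * b = b * (g0 * Γ.y * g0⁻¹) := by
      intro a b h1 h2
      rw [← h1, show g0 * Γ.y * g0⁻¹ * (g0 * a * g0⁻¹) = g0 * (Γ.y * a) * g0⁻¹ by group, h2]
      group
    refine ⟨mem_centralizer_singleton_iff.2 (key _ _ g3 ?_),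
      mem_centralizer_singleton_iff.2 (key _ _ g1 Γ.y_z)⟩
    rw [← mul_assoc, Γ.t_y.symm, mul_assoc, Γ.y_z, ← mul_assoc]
  haveI : Fact (Nat.Prime 3) := ⟨Nat.prime_three⟩
  have ho : orderOf (⟨Γ.y, hyE⟩ : E) = 3 := by
    rw [Subgroup.orderOf_mk]
    exact orderOf_eq_prime Γ.y3 Γ.y_ne
  have ho' : orderOf (⟨g0 * Γ.y * g0⁻¹, hyE'⟩ : E) = 3 := by
    rw [Subgroup.orderOf_mk]
    exact ((MulAut.conj g0).orderOf_eq Γ.y).trans (orderOf_eq_prime Γ.y3 Γ.y_ne)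
  have hfac : (Nat.card E).factorization 3 = 1 := by
    have h3 : 3 ∣ Nat.card E := ho ▸ orderOf_dvd_natCard _
    have h9 : ¬ 3 ^ 2 ∣ Nat.card E := fun h => absurd (h.trans hEdvd) (by norm_num)
    have h1 := (Nat.prime_three.dvd_iff_one_le_factorization Nat.card_pos.ne').1 h3
    have h2 : ¬ 2 ≤ (Nat.card E).factorization 3 := fun h =>
      h9 ((Nat.prime_three.pow_dvd_iff_le_factorization Nat.card_pos.ne').2 h)
    omega
  let P1 : Sylow 3 E := Sylow.ofCard (zpowers (⟨g0 * Γ.y * g0⁻¹, hyE'⟩ : E))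
    (by rw [Nat.card_zpowers, ho', hfac, pow_one])
  let P2 : Sylow 3 E := Sylow.ofCard (zpowers (⟨Γ.y, hyE⟩ : E))
    (by rw [Nat.card_zpowers, ho, hfac, pow_one])
  obtain ⟨c, hc⟩ := MulAction.exists_smul_eq E P1 P2
  have hmem : c * ⟨g0 * Γ.y * g0⁻¹, hyE'⟩ * c⁻¹ ∈ zpowers (⟨Γ.y, hyE⟩ : E) := by
    have : MulAut.conj c (⟨g0 * Γ.y * g0⁻¹, hyE'⟩ : E) ∈ ((c • P1 : Sylow 3 E) : Subgroup E) :=
      Subgroup.smul_mem_pointwise_smul _ _ _ (mem_zpowers _)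
    rw [hc] at this
    exact this
  obtain ⟨i, hi⟩ := mem_zpowers_iff.1 hmem
  have hcz : (c : G) * z * (c : G)⁻¹ = z := by
    rw [mem_centralizer_singleton_iff.1 c.2.1, mul_inv_cancel_right]
  have hct' : (c : G) * Γ.t * (c : G)⁻¹ = Γ.t := by
    rw [mem_centralizer_singleton_iff.1 c.2.2, mul_inv_cancel_right]
  have hctz : (c : G) * (Γ.t * z) * (c : G)⁻¹ = Γ.t * z := by
    rw [show (c : G) * (Γ.t * z) * (c : G)⁻¹ = ((c : G) * Γ.t * (c : G)⁻¹) * ((c : G) * z * (c : G)⁻¹)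
      by group, hcz, hct']
  refine ⟨(c : G) * g0, ?_, ?_, ?_, ?_⟩
  · rw [show (c : G) * g0 * z * ((c : G) * g0)⁻¹ = (c : G) * (g0 * z * g0⁻¹) * (c : G)⁻¹ by group,
      g1, hct']
  · rw [show (c : G) * g0 * Γ.t * ((c : G) * g0)⁻¹ = (c : G) * (g0 * Γ.t * g0⁻¹) * (c : G)⁻¹ by group,
      g2, hctz]
  · rw [show (c : G) * g0 * (Γ.t * z) * ((c : G) * g0)⁻¹ =
        (c : G) * (g0 * (Γ.t * z) * g0⁻¹) * (c : G)⁻¹ by group, g3, hcz]
  · have e : (c : G) * g0 * Γ.y * ((c : G) * g0)⁻¹ = Γ.y ^ i := by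
      have := congrArg Subtype.val hi
      simp only [Subgroup.coe_mul, Subgroup.coe_inv, SubgroupClass.coe_zpow] at this
      rw [this]
      group
    rw [e, zpow_eq_zpow_emod' i Γ.y3]
    have h3 : i % ((3 : ℕ) : ℤ) = 0 ∨ i % ((3 : ℕ) : ℤ) = 1 ∨ i % ((3 : ℕ) : ℤ) = 2 := by omega
    rcases h3 with h | h | h <;> rw [h]
    · exfalso
      rw [zpow_eq_zpow_emod' i Γ.y3, h, zpow_zero, conj_eq_one_iff] at e
      exact Γ.y_ne e
    · exact Or.inl (zpow_one _)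
    · refine Or.inr ?_
      rw [show (2 : ℤ) = ((2 : ℕ) : ℤ) from rfl, zpow_natCast]
      exact sq_eq_inv' Γ.y3

end Ctx

end Cfsg.Agent.Lib.S1645.Nine
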