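import Cfsg.Agent.Lib.S1645.NineBase
import Cfsg.Agent.Lib.BC77.Hall4.FourFormula

/-!
# S1645, `n = 9`: the centraliser of a lift of a three-cycle lies in `C(z)`

`C(x) = K C_{C(z)}(x)` by the theorem on isolated involutions.  If `K ≠ ⟨x⟩`, then `B = C_K(t)` has
order nine, is a fixed-point-free subgroup seen in `C(t)`, and an element of `B` commuting with
`A` leads to `[x, g x g⁻¹] = 1`, a contradiction.

Owner: helper25.
-/

set_option autoImplicit false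
set_option linter.style.haveILetI false
set_option linter.unusedSectionVars false

universe u

namespace Cfsg.Agent.Lib.S1645.Nine

open Subgroup Equiv Equiv.Perm
open Cfsg.Agent.Lib.S1645.P9
open Cfsg.Agent.Lib.BC77.Hall4 (fx ix mem_fx card_four card_decomp)

section General

variable {G : Type u} [Group G]

/-- A subgroup acting without fixed points on `M ∖ 1` by conjugation. -/
theorem card_dvd_sub_one [Finite G] (Q M : Subgroup G) (hn : ∀ q ∈ Q, ∀ m ∈ M, q * m * q⁻¹ ∈ M)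
    (hfree : ∀ q ∈ Q, ∀ m ∈ M, m ≠ 1 → q * m = m * q → q = 1) :
    Nat.card Q ∣ Nat.card M - 1 := by
  let X := {m : G // m ∈ M ∧ m ≠ 1}
  letI : MulAction Q X :=
    { smul := fun q m => ⟨(q : G) * m.1 * (q : G)⁻¹, hn _ q.2 _ m.2.1,
        fun e => m.2.2 (conj_eq_one_iff.1 e)⟩
      one_smul := fun m => Subtype.ext (show (1 : G) * m.1 * (1 : G)⁻¹ = m.1 by group)
      mul_smul := fun a b m => Subtype.ext (show (a : G) * b * m.1 * ((a : G) * b)⁻¹ =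
        (a : G) * ((b : G) * m.1 * (b : G)⁻¹) * (a : G)⁻¹ by group) }
  have hst : ∀ m : X, MulAction.stabilizer Q m = ⊥ := fun m => by
    rw [eq_bot_iff]
    intro q hq
    have h : (q : G) * m.1 * (q : G)⁻¹ = m.1 := congrArg Subtype.val hq
    exact Subgroup.mem_bot.2
      (Subtype.ext (hfree _ q.2 _ m.2.1 m.2.2 (mul_inv_eq_iff_eq_mul.1 h)))
  have hX : Nat.card X = Nat.card M - 1 := by
    have : Nat.card X = ((M : Set G) \ {1}).ncard :=
      (Nat.card_congr (Equiv.refl _)).trans (Nat.card_coe_set_eq ((M : Set G) \ {1}))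
    rw [this, Set.ncard_sdiff_singleton_of_mem (one_mem M)]
    rfl
  classical
  letI := Fintype.ofFinite X
  letI := Fintype.ofFinite (MulAction.orbitRel.Quotient Q X)
  rw [← hX, Nat.card_congr (MulAction.selfEquivSigmaOrbitsQuotientStabilizer Q X), Nat.card_sigma]
  refine Finset.dvd_sum fun ω _ => ?_
  rw [hst, ← Subgroup.index_eq_card, Subgroup.index_bot]

theorem comm_conj {g a b : G} (h : a * b = b * a) :
    (g * a * g⁻¹) * (g * b * g⁻¹) = (g * b * g⁻¹) * (g * a * g⁻¹) := by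
  rw [show (g * a * g⁻¹) * (g * b * g⁻¹) = g * (a * b) * g⁻¹ by group, h]
  group

theorem comm_inv_conj {g a b : G} (h : a * b = b * a) :
    (g⁻¹ * a * g) * (g⁻¹ * b * g) = (g⁻¹ * b * g) * (g⁻¹ * a * g) := by
  simpa using comm_conj (g := g⁻¹) h

/-- `z`-inverted elements of an abelian group commute. -/
theorem comm_of_inverted {z a b : G} (ha : z * a * z⁻¹ = a⁻¹) (hb : z * b * z⁻¹ = b⁻¹)
    (hab : z * (a * b) * z⁻¹ = (a * b)⁻¹) : a * b = b * a := by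
  have h : z * (a * b) * z⁻¹ = a⁻¹ * b⁻¹ := by rw [← ha, ← hb]; group
  rw [hab, mul_inv_rev] at h
  have := congrArg (·⁻¹) h
  simpa using this

theorem pow_eq_one_three {x : G} (h3 : x ^ 3 = 1) {c : G} (hc : c ∈ zpowers x) :
    c = 1 ∨ c = x ∨ c = x ^ 2 := by
  obtain ⟨i, rfl⟩ := mem_zpowers_iff.1 hc
  rw [zpow_eq_zpow_emod' i h3]
  rcases (show i % ((3 : ℕ) : ℤ) = 0 ∨ i % ((3 : ℕ) : ℤ) = 1 ∨ i % ((3 : ℕ) : ℤ) = 2 by omega) with
    h | h | h <;> rw [h]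
  · exact Or.inl (zpow_zero x)
  · exact Or.inr (Or.inl (zpow_one x))
  · exact Or.inr (Or.inr (by rw [show (2 : ℤ) = ((2 : ℕ) : ℤ) from rfl, zpow_natCast]))

end General

namespace Ctx

variable {G : Type u} [Group G] [Finite G] {z : G} (Γ : Ctx G z)
include Γ

/-- `C(x)`. -/
def Y : Subgroup G := centralizer ({Γ.x} : Set G)

/-- The odd core of `C(x)`. -/
noncomputable def K : Subgroup G := ocore Γ.Y

/-- `C_K(t)`. -/
noncomputable def B : Subgroup G := fx Γ.t Γ.K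

theorem mem_Y {g : G} : g ∈ Γ.Y ↔ g * Γ.x = Γ.x * g := mem_centralizer_singleton_iff

theorem x_z : Γ.x * z = z * Γ.x := Γ.D.cen Γ.rx

theorem soloY : Solo Γ.Y z := by
  refine ⟨Γ.mem_Y.2 Γ.x_z.symm, Γ.D.orderOf_z, fun e he he2 hez => ?_⟩
  by_contra hne
  obtain ⟨p, hp⟩ := Γ.D.total hez
  have h8 := (Γ.D.involution_support (by norm_num) hp he2 hne).2
  have hc : p * sg = sg * p := Γ.D.lift_comm hp Γ.rx (Γ.mem_Y.1 he)
  have hsq : p * p = 1 := Γ.D.perm_sq hp (sq_one_of_order he2)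
  have key : ∀ m : Fin 9, sg (p m) = p (sg m) := fun m => by
    have := DFunLike.congr_fun hc m
    simpa [Perm.mul_apply] using this.symm
  have pp : ∀ m, p (p m) = m := fun m => by
    have := DFunLike.congr_fun hsq m
    simpa [Perm.mul_apply] using this
  have hfix : ∀ m : Fin 9, sg m ≠ m → p m = m := by
    intro m hm
    have h1 : sg (p m) ≠ p m := by rw [key]; exact fun e => hm (p.injective e)
    have h3 : ∀ a b : Fin 9, sg a ≠ a → sg b ≠ b → b = a ∨ b = sg a ∨ b = sg (sg a) := by decide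
    rcases h3 m (p m) hm h1 with e | e | e
    · exact e
    · exfalso
      have e2 : m = sg (sg m) := by
        calc m = p (p m) := (pp m).symm
          _ = p (sg m) := by rw [e]
          _ = sg (p m) := (key m).symm
          _ = _ := by rw [e]
      have h4 : ∀ a : Fin 9, sg a ≠ a → a ≠ sg (sg a) := by decide
      exact h4 m hm e2
    · exfalso
      have e2 : m = sg (sg (sg (sg m))) := by
        calc m = p (p m) := (pp m).symm
          _ = p (sg (sg m)) := by rw [e]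
          _ = sg (p (sg m)) := (key _).symm
          _ = sg (sg (p m)) := by rw [← key]
          _ = _ := by rw [e]
      have h4 : ∀ a : Fin 9, sg a ≠ a → a ≠ sg (sg (sg (sg a))) := by decide
      exact h4 m hm e2
  have hle : p.support ⊆ (Finset.univ.filter fun m => sg m = m) := by
    intro m hm
    refine Finset.mem_filter.2 ⟨Finset.mem_univ _, ?_⟩
    by_contra h
    exact Perm.mem_support.1 hm (hfix m h)
  have h6 := Finset.card_le_card hle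
  have h66 : (Finset.univ.filter fun m : Fin 9 => sg m = m).card = 6 := by decide
  omega

theorem K_odd : Odd (Nat.card Γ.K) := ocore_odd _

theorem K_le : Γ.K ≤ Γ.Y := ocore_le _

theorem K_comm {k : G} (hk : k ∈ Γ.K) : k * Γ.x = Γ.x * k := Γ.mem_Y.1 (Γ.K_le hk)

theorem x_mem_K : Γ.x ∈ Γ.K :=
  central_mem_ocore (Γ.mem_Y.2 rfl) Γ.x_odd (fun _ h => Γ.mem_Y.1 h)

/-- An element normalising `⟨x⟩` normalises `K`. -/
theorem K_norm {g : G} (hg : g * Γ.x * g⁻¹ = Γ.x ∨ g * Γ.x * g⁻¹ = Γ.x⁻¹) {k : G} (hk : k ∈ Γ.K) :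
    g * k * g⁻¹ ∈ Γ.K := by
  refine ocore_conj (fun y hy => ?_) (fun y hy => ?_) hk
  · exact Γ.mem_Y.2 ((comm_of_conj hg).1 (Γ.mem_Y.1 hy))
  · refine Γ.mem_Y.2 ((comm_of_conj hg).2 ?_)
    rw [show g * (g⁻¹ * y * g) * g⁻¹ = y by group]
    exact Γ.mem_Y.1 hy

theorem z_norm {k : G} (hk : k ∈ Γ.K) : z * k * z⁻¹ ∈ Γ.K :=
  Γ.K_norm (Or.inl (by rw [← Γ.x_z, mul_inv_cancel_right])) hk

theorem t_norm {k : G} (hk : k ∈ Γ.K) : Γ.t * k * Γ.t⁻¹ ∈ Γ.K :=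
  Γ.K_norm (Or.inr (Γ.t_x.trans (sq_eq_inv' Γ.x3))) hk

theorem w_norm {k : G} (hk : k ∈ Γ.K) : Γ.w * k * Γ.w⁻¹ ∈ Γ.K :=
  Γ.K_norm (Or.inl Γ.w_x) hk

/-- The lifts of `1, (0 1)(2 3), (0 1)(4 5), (2 3)(4 5)`. -/
def Qs : Subgroup G :=
  (Subgroup.comap Γ.π
    { carrier := {p | p = 1 ∨ p = io1 ∨ p = io2 ∨ p = io3}
      one_mem' := Or.inl rfl
      mul_mem' := by
        rintro _ _ (rfl | rfl | rfl | rfl) (rfl | rfl | rfl | rfl) <;> decide
      inv_mem' := by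
        rintro _ (rfl | rfl | rfl | rfl) <;> decide }).map
    (centralizer ({z} : Set G)).subtype

theorem Qs_cases {q : G} (hq : q ∈ Γ.Qs) : ∃ hC : q ∈ centralizer ({z} : Set G),
    (Γ.π ⟨q, hC⟩ = 1 ∨ Γ.π ⟨q, hC⟩ = io1 ∨ Γ.π ⟨q, hC⟩ = io2 ∨ Γ.π ⟨q, hC⟩ = io3) := by
  obtain ⟨⟨q', hq'⟩, h, rfl⟩ := hq
  exact ⟨hq', h⟩

theorem card_Qs : Nat.card Γ.Qs = 8 := by
  rw [Qs, Subgroup.card_map_of_injective (Subgroup.subtype_injective _), Γ.S.cover.card_comap]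
  · rw [show (8 : ℕ) = 2 * 4 from rfl]
    congr 1
    show Nat.card ↥({p | p = 1 ∨ p = io1 ∨ p = io2 ∨ p = io3} : Set (Perm (Fin 9))) = 4
    have : ({p | p = 1 ∨ p = io1 ∨ p = io2 ∨ p = io3} : Set (Perm (Fin 9))) =
        (({1, io1, io2, io3} : Finset (Perm (Fin 9))) : Set (Perm (Fin 9))) := by
      ext p; simp
    rw [this, Nat.card_coe_set_eq, Set.ncard_coe_finset]
    decide
  · intro p hp
    rw [mem_alternatingGroup]
    rcases hp with rfl | rfl | rfl | rfl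
    · exact map_one _
    · exact sign_io1
    · exact sign_io2
    · rw [← io1_io2, map_mul, sign_io1, sign_io2, one_mul]

theorem Qs_z {q : G} (hq : q ∈ Γ.Qs) : q * z = z * q :=
  mem_centralizer_singleton_iff.1 (Γ.Qs_cases hq).1

theorem Qs_x {q : G} (hq : q ∈ Γ.Qs) : q * Γ.x = Γ.x * q := by
  obtain ⟨hC, h⟩ := Γ.Qs_cases hq
  refine Γ.D.odd_comm Γ.rx ((Γ.hD _ q).2 ⟨hC, rfl⟩) Γ.x_odd ?_
  rcases h with e | e | e | e <;> rw [e] <;> decide

theorem Qs_t {q : G} (hq : q ∈ Γ.Qs) : q * Γ.t = Γ.t * q := by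
  obtain ⟨hC, h⟩ := Γ.Qs_cases hq
  obtain ⟨ht, hp⟩ := (Γ.hD _ _).1 Γ.rt
  have flip : ∀ a c : Fin 9, tau a ≠ a → tau c ≠ c → c ≠ a → c ≠ tau a →
      Γ.π ⟨q, hC⟩ = swap a (tau a) * swap c (tau c) → q * Γ.t = Γ.t * q := by
    intro a c h1 h2 h3 h4 h5
    exact congrArg Subtype.val (Γ.S.cover.comm_flipPair (by norm_num) (x := ⟨Γ.t, ht⟩)
      (s := ⟨q, hC⟩) (a := a) (c := c) (by rw [hp]; decide) (by rw [hp]; exact h1)
      (by rw [hp]; exact h2) h3 (by rw [hp]; exact h4) (by rw [hp]; exact h5))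
  rcases h with e | e | e | e
  · rcases Γ.D.ker ((Γ.hD 1 q).2 ⟨hC, e⟩) with rfl | rfl
    · simp
    · exact Γ.t_z.symm
  · exact flip 0 2 (by decide) (by decide) (by decide) (by decide) (by rw [e]; decide)
  · exact flip 0 4 (by decide) (by decide) (by decide) (by decide) (by rw [e]; decide)
  · exact flip 2 4 (by decide) (by decide) (by decide) (by decide) (by rw [e]; decide)

theorem Qs_sq {q : G} (hq : q ∈ Γ.Qs) (h1 : q ≠ 1) : q = z ∨ q * q = z := by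
  obtain ⟨hC, h⟩ := Γ.Qs_cases hq
  have hR := (Γ.hD (Γ.π ⟨q, hC⟩) q).2 ⟨hC, rfl⟩
  rcases h with e | e | e | e
  · exact Or.inl ((Γ.D.ker (e ▸ hR)).resolve_left h1)
  · exact Or.inr (Γ.D.sq22 hR (by rw [e, cycleType_io1]))
  · exact Or.inr (Γ.D.sq22 hR (by rw [e, cycleType_io2]))
  · exact Or.inr (Γ.D.sq22 hR (by rw [e, cycleType_io3]))

theorem Qs_norm {q : G} (hq : q ∈ Γ.Qs) {k : G} (hk : k ∈ Γ.K) : q * k * q⁻¹ ∈ Γ.K :=
  Γ.K_norm (Or.inl (by rw [Γ.Qs_x hq, mul_inv_cancel_right])) hk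

/-- `C_K(z) = ⟨x⟩`. -/
theorem fixed_z {k : G} (hk : k ∈ Γ.K) (hkz : k * z = z * k) : k ∈ zpowers Γ.x := by
  set M : Subgroup (Perm (Fin 9)) :=
    ((Γ.K).subgroupOf (centralizer ({z} : Set G))).map Γ.π with hM
  have hMle : ∀ p ∈ M, ∃ a ∈ Γ.K, Γ.D.R p a := by
    rintro _ ⟨⟨a, haC⟩, ha, rfl⟩
    exact ⟨a, ha, (Γ.hD _ a).2 ⟨haC, rfl⟩⟩
  have hMmem : ∀ {a : G} {p}, a ∈ Γ.K → Γ.D.R p a → p ∈ M := by
    intro a p ha hR
    obtain ⟨haC, rfl⟩ := (Γ.hD p a).1 hR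
    exact ⟨⟨a, haC⟩, ha, rfl⟩
  have hModd : Odd (Nat.card M) := by
    refine Γ.K_odd.of_dvd_nat ((Subgroup.card_map_dvd _ _).trans ?_)
    exact (Subgroup.card_comap_dvd_of_injective _ _ (Subgroup.subtype_injective _))
  have hMsg : ∀ m ∈ M, m * sg = sg * m := by
    intro p hp
    obtain ⟨a, ha, hR⟩ := hMle p hp
    exact Γ.D.lift_comm hR Γ.rx (Γ.K_comm ha)
  have hsgM : sg ∈ M := hMmem Γ.x_mem_K Γ.rx
  have hnorm : ∀ p : Perm (Fin 9), (p = io1 ∨ p = io2) → ∀ m ∈ M, p * m * p⁻¹ ∈ M := by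
    intro p hp m hm
    obtain ⟨a, ha, hR⟩ := hMle m hm
    obtain ⟨q, hq⟩ := Γ.D.surj (p := p) (by rcases hp with rfl | rfl; exacts [sign_io1, sign_io2])
    obtain ⟨hqC, hqp⟩ := (Γ.hD p q).1 hq
    have hqQ : q ∈ Γ.Qs := by
      refine ⟨⟨q, hqC⟩, ?_, rfl⟩
      show Γ.π ⟨q, hqC⟩ = 1 ∨ _
      rw [hqp]
      tauto
    exact hMmem (Γ.Qs_norm hqQ ha) (Γ.D.mul (Γ.D.mul hq hR) (Γ.D.inv hq))
  have hle : ∀ p, (p = io1 ∨ p = io2 ∨ p = io3) → Nat.card (fx p M) = 3 := by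
    intro p hp
    have h := card_odd_cent_io p hp (fx p M) (hModd.of_dvd_nat (Subgroup.card_dvd_of_le inf_le_left))
      (fun m hm => hMsg m (mem_fx.1 hm).1) (fun m hm => (mem_fx.1 hm).2.symm)
    have hs : sg ∈ fx p M := mem_fx.2 ⟨hsgM, by rcases hp with rfl | rfl | rfl <;> decide⟩
    rcases (Nat.dvd_prime Nat.prime_three).1 h with h1 | h1
    · exfalso
      rw [Subgroup.card_eq_one] at h1
      rw [h1, Subgroup.mem_bot] at hs
      exact absurd hs (by decide)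
    · exact h1
  have h4 := card_four (H := M) hModd io1_sq io2_sq (io1_io2.trans io2_io1.symm)
    (hnorm io1 (Or.inl rfl)) (hnorm io2 (Or.inr rfl))
  have hinf : Nat.card ↥(fx io1 M ⊓ fx io2 M) = 3 := by
    have h := Subgroup.card_dvd_of_le (inf_le_left : fx io1 M ⊓ fx io2 M ≤ fx io1 M)
    rw [hle io1 (Or.inl rfl)] at h
    rcases (Nat.dvd_prime Nat.prime_three).1 h with h1 | h1
    · exfalso
      have hs : sg ∈ fx io1 M ⊓ fx io2 M := ⟨mem_fx.2 ⟨hsgM, io1_sg⟩, mem_fx.2 ⟨hsgM, io2_sg⟩⟩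
      rw [Subgroup.card_eq_one] at h1
      rw [h1, Subgroup.mem_bot] at hs
      exact absurd hs (by decide)
    · exact h1
  rw [hle io1 (Or.inl rfl), hle io2 (Or.inr (Or.inl rfl)), io1_io2,
    hle io3 (Or.inr (Or.inr rfl)), hinf] at h4
  have hM3 : Nat.card M = 3 := by omega
  have hz : zpowers sg = M := by
    refine Subgroup.eq_of_le_of_card_ge (zpowers_le.2 hsgM) ?_
    have : Fact (Nat.Prime 3) := ⟨Nat.prime_three⟩
    rw [hM3, Nat.card_zpowers, orderOf_eq_prime sg_cube (by decide)]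
  obtain ⟨p, hR⟩ := Γ.D.total hkz
  have hpM := hMmem hk hR
  rw [← hz] at hpM
  obtain ⟨i, rfl⟩ : ∃ i : ℕ, sg ^ i = p := by
    rcases pow_eq_one_three sg_cube hpM with e | e | e
    · exact ⟨0, by rw [e, pow_zero]⟩
    · exact ⟨1, by rw [e, pow_one]⟩
    · exact ⟨2, e.symm⟩
  rw [Γ.D.odd_eq (Γ.D.pow Γ.rx i) hR (Γ.x_odd.of_dvd_nat (orderOf_pow_dvd i))
    (odd_order_of_mem Γ.K_odd hk)]
  exact pow_mem (mem_zpowers _) i

theorem fx_z : fx z Γ.K = zpowers Γ.x := by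
  refine le_antisymm (fun k hk => Γ.fixed_z (mem_fx.1 hk).1 (mem_fx.1 hk).2.symm) ?_
  exact zpowers_le.2 (mem_fx.2 ⟨Γ.x_mem_K, Γ.x_z.symm⟩)

theorem x_ne : Γ.x ≠ 1 := fun e => absurd (Γ.D.func Γ.rx (e ▸ Γ.D.one)) (by decide)

theorem card_zpowers_x : Nat.card (zpowers Γ.x) = 3 := by
  have : Fact (Nat.Prime 3) := ⟨Nat.prime_three⟩
  rw [Nat.card_zpowers, orderOf_eq_prime Γ.x3 Γ.x_ne]

theorem eq_one_of_x_t {c : G} (hc : c ∈ zpowers Γ.x) (ht : Γ.t * c = c * Γ.t) : c = 1 := by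
  rcases pow_eq_one_three Γ.x3 hc with e | e | e
  · exact e
  · exfalso
    subst e
    have h := Γ.t_x
    rw [ht, mul_inv_cancel_right, pow_two] at h
    exact Γ.x_ne (mul_eq_left.1 h.symm)
  · exfalso
    subst e
    have h : Γ.t * Γ.x ^ 2 * Γ.t⁻¹ = (Γ.x ^ 2) ^ 2 := by rw [← conj_pow, Γ.t_x]
    rw [ht, mul_inv_cancel_right, pow_two (Γ.x ^ 2)] at h
    have h2 : Γ.x ^ 2 = 1 := mul_eq_left.1 h.symm
    exact Γ.x_ne (by simpa [pow_succ, h2] using Γ.x3)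

theorem fx_zt : fx z Γ.K ⊓ fx Γ.t Γ.K = ⊥ := by
  rw [eq_bot_iff]
  rintro k ⟨hz, ht⟩
  rw [Subgroup.mem_bot]
  exact Γ.eq_one_of_x_t (Γ.fx_z ▸ hz) (mem_fx.1 ht).2

theorem B_le {b : G} (hb : b ∈ Γ.B) : b ∈ Γ.K := (mem_fx.1 hb).1

theorem B_t {b : G} (hb : b ∈ Γ.B) : b * Γ.t = Γ.t * b := (mem_fx.1 hb).2.symm

theorem B_norm {q : G} (hqK : ∀ k ∈ Γ.K, q * k * q⁻¹ ∈ Γ.K) (hqt : q * Γ.t = Γ.t * q) {b : G}
    (hb : b ∈ Γ.B) : q * b * q⁻¹ ∈ Γ.B := by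
  refine mem_fx.2 ⟨hqK b (Γ.B_le hb), ?_⟩
  have h := comm_conj (g := q) (Γ.B_t hb)
  rw [show q * Γ.t * q⁻¹ = Γ.t by rw [hqt, mul_inv_cancel_right]] at h
  exact h.symm

theorem B_inv {b : G} (hb : b ∈ Γ.B) : z * b * z⁻¹ = b⁻¹ := by
  obtain ⟨c, hc, i, -, hcz, hiz, rfl⟩ :=
    Cfsg.Agent.Lib.RankOne.Involution.exists_decomp (H := Γ.B)
      (Γ.K_odd.of_dvd_nat (Subgroup.card_dvd_of_le inf_le_left)) Γ.zz
      (fun k hk => Γ.B_norm (fun k hk => Γ.z_norm hk) Γ.t_z.symm hk) hb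
  have hc1 : c = 1 := by
    have h := Γ.fx_zt
    rw [eq_bot_iff] at h
    exact Subgroup.mem_bot.1 (h ⟨mem_fx.2 ⟨Γ.B_le hc, mul_inv_eq_iff_eq_mul.1 hcz⟩, hc⟩)
  rw [hc1, one_mul]
  exact hiz

theorem B_comm {a b : G} (ha : a ∈ Γ.B) (hb : b ∈ Γ.B) : a * b = b * a :=
  comm_of_inverted (Γ.B_inv ha) (Γ.B_inv hb) (Γ.B_inv (mul_mem ha hb))

theorem Qs_free {q b : G} (hq : q ∈ Γ.Qs) (hb : b ∈ Γ.B) (hb1 : b ≠ 1) (h : q * b = b * q) :
    q = 1 := by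
  by_contra hq1
  have hzb : z * b = b * z := by
    rcases Γ.Qs_sq hq hq1 with e | e
    · exact e ▸ h
    · rw [← e]
      exact ((show Commute q b from h).mul_left h).eq
  have h2 : b * b = 1 := by
    have := Γ.B_inv hb
    rw [hzb, mul_inv_cancel_right] at this
    exact eq_inv_iff_mul_eq_one.1 this
  exact hb1 (Cfsg.Agent.Lib.RankOne.Involution.eq_one_of_sq Γ.K_odd (Γ.B_le hb) h2)

theorem Qs_dvd (M : Subgroup G) (hM : M ≤ Γ.B)
    (hn : ∀ q ∈ Γ.Qs, ∀ m ∈ M, q * m * q⁻¹ ∈ M) : 8 ∣ Nat.card M - 1 := by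
  have h := card_dvd_sub_one Γ.Qs M hn (fun q hq m hm h1 h2 => Γ.Qs_free hq (hM hm) h1 h2)
  rwa [Γ.card_Qs] at h

variable {g : G}

/-- `B`, carried into `C(z)`, seen as permutations. -/
noncomputable def phi (hg : g * z * g⁻¹ = Γ.t) : ↥Γ.B →* Perm (Fin 9) :=
  Γ.π.comp
    (MonoidHom.mk' (fun b : ↥Γ.B => (⟨g⁻¹ * b * g, mem_centralizer_singleton_iff.2 (by
      have h := comm_inv_conj (g := g) (Γ.B_t b.2)
      rwa [show g⁻¹ * Γ.t * g = z by rw [← hg]; group] at h)⟩ : ↥(centralizer ({z} : Set G))))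
    (fun a b => Subtype.ext (show g⁻¹ * ((a : G) * b) * g = g⁻¹ * a * g * (g⁻¹ * b * g) by group)))

theorem phi_R (hg : g * z * g⁻¹ = Γ.t) (b : ↥Γ.B) : Γ.D.R (Γ.phi hg b) (g⁻¹ * b * g) :=
  (Γ.hD _ _).2 ⟨_, rfl⟩

theorem phi_injective (hg : g * z * g⁻¹ = Γ.t) : Function.Injective (Γ.phi hg) := by
  refine (injective_iff_map_eq_one _).2 fun b hb => Subtype.ext ?_
  rcases Γ.D.ker (hb ▸ Γ.phi_R hg b) with e | e
  · show (b : G) = 1
    rw [show (b : G) = g * (g⁻¹ * b * g) * g⁻¹ by group, e]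
    group
  · exfalso
    have ho : Odd (orderOf (g⁻¹ * (b : G) * g)) := by
      rw [show g⁻¹ * (b : G) * g = MulAut.conj g⁻¹ (b : G) by simp, (MulAut.conj g⁻¹).orderOf_eq]
      exact odd_order_of_mem Γ.K_odd (Γ.B_le b.2)
    rw [e, Γ.D.orderOf_z] at ho
    exact absurd ho (by decide)

theorem card_range_phi (hg : g * z * g⁻¹ = Γ.t) :
    Nat.card (Γ.phi hg).range = Nat.card Γ.B :=
  (Nat.card_congr (MonoidHom.ofInjective (Γ.phi_injective hg)).toEquiv).symm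

/-- `|B|` is `1` or `9`. -/
theorem card_B (hg : g * z * g⁻¹ = Γ.t) : Nat.card Γ.B = 1 ∨ Nat.card Γ.B = 9 := by
  have hdvd : Nat.card Γ.B ∣ 362880 := by
    rw [← Γ.card_range_phi hg]
    have h := Subgroup.card_subgroup_dvd_card (Γ.phi hg).range
    rwa [Nat.card_perm, Nat.card_fin] at h
  have hodd : Odd (Nat.card Γ.B) := Γ.K_odd.of_dvd_nat (Subgroup.card_dvd_of_le inf_le_left)
  have hno : ∀ p : ℕ, p.Prime → (p = 5 ∨ p = 7) → ¬ p ∣ Nat.card Γ.B := by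
    intro p hp hp57 hdiv
    haveI := Fact.mk hp
    let M : Subgroup G :=
      { carrier := {b | b ∈ Γ.B ∧ b ^ p = 1}
        one_mem' := ⟨one_mem _, one_pow _⟩
        mul_mem' := fun {a b} ha hb => ⟨mul_mem ha.1 hb.1, by
          rw [(show Commute a b from Γ.B_comm ha.1 hb.1).mul_pow, ha.2, hb.2, one_mul]⟩
        inv_mem' := fun {a} ha => ⟨inv_mem ha.1, by rw [inv_pow, ha.2, inv_one]⟩ }
    have hMB : M ≤ Γ.B := fun b hb => hb.1
    have hM : IsPGroup p M := fun m => ⟨1, Subtype.ext (by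
      rw [SubmonoidClass.coe_pow, pow_one]; exact m.2.2)⟩
    obtain ⟨k, hk⟩ := IsPGroup.iff_card.1 hM
    have hkd : p ^ k ∣ 362880 := hk ▸ (Subgroup.card_dvd_of_le hMB).trans hdvd
    have h8 := Γ.Qs_dvd M hMB (fun q hq m hm =>
      ⟨Γ.B_norm (fun k hk => Γ.Qs_norm hq hk) (Γ.Qs_t hq) hm.1,
        by rw [conj_pow, hm.2, mul_one, mul_inv_cancel]⟩)
    rw [hk] at h8
    obtain ⟨⟨b, hb⟩, hbo⟩ := exists_prime_orderOf_dvd_card' (G := ↥Γ.B) p hdiv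
    rw [Subgroup.orderOf_mk] at hbo
    have hk0 : k ≠ 0 := by
      intro e
      rw [e, pow_zero, Subgroup.card_eq_one] at hk
      have : b ∈ M := ⟨hb, hbo ▸ pow_orderOf_eq_one b⟩
      rw [hk, Subgroup.mem_bot] at this
      rw [this, orderOf_one] at hbo
      exact hp.one_lt.ne hbo
    have hk2 : k < 2 := by
      by_contra hk2
      have : p ^ 2 ∣ 362880 := (pow_dvd_pow p (by omega)).trans hkd
      rcases hp57 with rfl | rfl <;> norm_num at this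
    obtain rfl : k = 1 := by omega
    rcases hp57 with rfl | rfl <;> norm_num at h8
  have h81 : Nat.card Γ.B ∣ 81 := by
    have h1 : (Nat.card Γ.B).Coprime (128 * 5 * 7) :=
      ((Nat.Coprime.pow_right 7 (Nat.coprime_two_right.2 hodd)).mul_right
        ((Nat.Prime.coprime_iff_not_dvd (by norm_num)).2 (hno 5 (by norm_num) (Or.inl rfl))).symm).mul_right
        ((Nat.Prime.coprime_iff_not_dvd (by norm_num)).2 (hno 7 (by norm_num) (Or.inr rfl))).symm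
    exact h1.dvd_of_dvd_mul_left hdvd
  have h8 := Γ.Qs_dvd Γ.B le_rfl
    (fun q hq m hm => Γ.B_norm (fun k hk => Γ.Qs_norm hq hk) (Γ.Qs_t hq) hm)
  obtain ⟨i, hi, hB⟩ := (Nat.dvd_prime_pow Nat.prime_three).1 (show Nat.card Γ.B ∣ 3 ^ 4 by rw [show (3 : ℕ) ^ 4 = 81 from rfl]; exact h81)
  interval_cases i
  · exact Or.inl hB
  · rw [hB] at h8; norm_num at h8
  · exact Or.inr hB
  · rw [hB] at h8; norm_num at h8
  · exfalso
    haveI : Fact (Nat.Prime 3) := ⟨Nat.prime_three⟩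
    set S := (Γ.phi hg).range with hS
    have hS81 : Nat.card S = 81 := by rw [Γ.card_range_phi hg, hB]; rfl
    have hfac : (Nat.card (Perm (Fin 9))).factorization 3 = 4 := by
      have hc : Nat.card (Perm (Fin 9)) = 3 ^ 4 * 4480 := by
        rw [Nat.card_perm, Nat.card_fin]; rfl
      rw [hc, Nat.factorization_mul (by norm_num) (by norm_num), Finsupp.add_apply,
        Nat.Prime.factorization_pow Nat.prime_three, Finsupp.single_eq_same,
        Nat.factorization_eq_zero_of_not_dvd (by norm_num)]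
    let P : Sylow 3 (Perm (Fin 9)) := Sylow.ofCard S (by rw [hS81, hfac]; rfl)
    have hsg : IsPGroup 3 (zpowers sg) := IsPGroup.of_card (n := 1)
      (by rw [Nat.card_zpowers, orderOf_eq_prime sg_cube (by decide), pow_one])
    obtain ⟨P', hP'⟩ := hsg.exists_le_sylow
    obtain ⟨c, hc⟩ := MulAction.exists_smul_eq (Perm (Fin 9)) P P'
    have hle : (P' : Subgroup (Perm (Fin 9))) ≤ centralizer ({sg} : Set (Perm (Fin 9))) := by
      intro a ha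
      have hs := hP' (mem_zpowers sg)
      rw [← hc] at ha hs
      obtain ⟨a', ha', rfl⟩ := ha
      obtain ⟨s', hs', es⟩ := hs
      rw [mem_centralizer_singleton_iff, ← es]
      obtain ⟨a0, rfl⟩ := ha'
      obtain ⟨s0, rfl⟩ := hs'
      exact (((show Commute a0 s0 from Subtype.ext (Γ.B_comm a0.2 s0.2)).map (Γ.phi hg)).map
        (MulAut.conj c).toMonoidHom).eq
    have h := Subgroup.card_dvd_of_le hle
    rw [Sylow.card_eq_multiplicity, hfac, card_cent_sg] at h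
    norm_num at h

/-- The elements of `B`, seen in `C(z)`, move every point. -/
theorem B_fpf (hg : g * z * g⁻¹ = Γ.t) (hB : Nat.card Γ.B = 9) {b : G} (hb : b ∈ Γ.B) (hb1 : b ≠ 1)
    {p : Perm (Fin 9)} (hp : Γ.D.R p (g⁻¹ * b * g)) : ∀ m, p m ≠ m := by
  have hpe := Γ.D.func hp (Γ.phi_R hg ⟨b, hb⟩)
  subst hpe
  have hne : ∀ {c : ↥Γ.B}, Γ.phi hg c ≠ 1 → c ≠ 1 := fun h e => h (e ▸ map_one _)
  refine fpf_of_card_nine (Γ.phi hg).range ((Γ.card_range_phi hg).trans hB) ?_ _ ⟨_, rfl⟩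
    (fun e => hb1 (congrArg Subtype.val (Γ.phi_injective hg (e.trans (map_one _).symm))))
  rintro _ ⟨s, rfl⟩ _ ⟨r, rfl⟩ hs hr
  -- the conjugates of `s` under `Qs` are all non-trivial elements
  let f : ↥Γ.Qs → {m : G // m ∈ Γ.B ∧ m ≠ 1} := fun q =>
    ⟨(q : G) * s * (q : G)⁻¹, Γ.B_norm (fun k hk => Γ.Qs_norm q.2 hk) (Γ.Qs_t q.2) s.2,
      fun e => hne hs (Subtype.ext (conj_eq_one_iff.1 e))⟩
  have hinj : Function.Injective f := by
    intro q q' h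
    have h' : (q : G) * s * (q : G)⁻¹ = (q' : G) * s * (q' : G)⁻¹ := congrArg Subtype.val h
    have := Γ.Qs_free (mul_mem (inv_mem q'.2) q.2) s.2 (fun e => hne hs (Subtype.ext e)) (by
      calc (q' : G)⁻¹ * q * s = (q' : G)⁻¹ * ((q : G) * s * (q : G)⁻¹) * q := by group
        _ = s * ((q' : G)⁻¹ * q) := by rw [h']; group)
    exact Subtype.ext (inv_mul_eq_one.1 this).symm
  have hX : Nat.card {m : G // m ∈ Γ.B ∧ m ≠ 1} = 8 := by
    have : Nat.card {m : G // m ∈ Γ.B ∧ m ≠ 1} = ((Γ.B : Set G) \ {1}).ncard :=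
      (Nat.card_congr (Equiv.refl _)).trans (Nat.card_coe_set_eq ((Γ.B : Set G) \ {1}))
    rw [this, Set.ncard_sdiff_singleton_of_mem (one_mem Γ.B),
      show (Γ.B : Set G).ncard = 9 from (Nat.card_coe_set_eq _).symm.trans hB]
  have hbij := hinj.bijective_of_nat_card_le (by rw [hX, Γ.card_Qs])
  obtain ⟨q, hq⟩ := hbij.2 ⟨r, r.2, fun e => hne hr (Subtype.ext e)⟩
  have hq' : (q : G) * s * (q : G)⁻¹ = r := congrArg Subtype.val hq
  have hqC : g⁻¹ * (q : G) * g ∈ centralizer ({z} : Set G) := mem_centralizer_singleton_iff.2 (by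
    have h := comm_inv_conj (g := g) (Γ.Qs_t q.2)
    rwa [show g⁻¹ * Γ.t * g = z by rw [← hg]; group] at h)
  have e : Γ.phi hg r = Γ.π ⟨_, hqC⟩ * Γ.phi hg s * (Γ.π ⟨_, hqC⟩)⁻¹ := by
    refine Γ.D.func (Γ.phi_R hg r) ?_
    have hR := (Γ.hD _ (g⁻¹ * (q : G) * g)).2 ⟨hqC, rfl⟩
    have := Γ.D.mul (Γ.D.mul hR (Γ.phi_R hg s)) (Γ.D.inv hR)
    convert this using 1
    rw [← hq']
    group
  rw [e, cycleType_conj]

/-- For a `z`, `t`, `w`-invariant subgroup `L` of `K` with trivial `C_L(⟨z, t⟩)`. -/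
theorem card_formula (L : Subgroup G) (hL : L ≤ Γ.K) (hz : ∀ l ∈ L, z * l * z⁻¹ ∈ L)
    (ht : ∀ l ∈ L, Γ.t * l * Γ.t⁻¹ ∈ L) (hw : ∀ l ∈ L, Γ.w * l * Γ.w⁻¹ ∈ L) :
    Nat.card L = Nat.card (fx z L) * Nat.card (fx Γ.t L) ^ 2 := by
  have h4 := card_four (H := L) (Γ.K_odd.of_dvd_nat (Subgroup.card_dvd_of_le hL)) Γ.zz Γ.tt
    Γ.t_z.symm hz ht
  have hbot : fx z L ⊓ fx Γ.t L = ⊥ := by
    rw [eq_bot_iff, ← Γ.fx_zt]
    exact inf_le_inf (inf_le_inf_right _ hL) (inf_le_inf_right _ hL)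
  rw [hbot, Subgroup.card_bot, one_pow, mul_one] at h4
  have hwz : Γ.w * z * Γ.w⁻¹ = z := by rw [Γ.w_z, mul_inv_cancel_right]
  have hzt : z * Γ.t = Γ.t * z := Γ.t_z.symm
  have hww : Γ.w * (Γ.t * z) * Γ.w⁻¹ = Γ.t := by
    rw [show Γ.w * (Γ.t * z) * Γ.w⁻¹ = (Γ.w * Γ.t * Γ.w⁻¹) * (Γ.w * z * Γ.w⁻¹) by group, Γ.wt,
      hwz, mul_assoc, Γ.zz, mul_one]
  have hmap : ∀ {u v : G}, Γ.w * u * Γ.w⁻¹ = v →
      Nat.card (fx u L) ≤ Nat.card (fx v L) := by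
    intro u v huv
    refine Nat.card_le_card_of_injective (fun l => ⟨Γ.w * l * Γ.w⁻¹, mem_fx.2
      ⟨hw l (mem_fx.1 l.2).1, ?_⟩⟩) (fun l l' h => Subtype.ext ?_)
    · rw [← huv]
      exact comm_conj (mem_fx.1 l.2).2
    · simpa using congrArg Subtype.val h
  have heq : Nat.card (fx (z * Γ.t) L) = Nat.card (fx Γ.t L) := by
    rw [hzt]
    exact le_antisymm (hmap hww) (hmap Γ.wt)
  rw [h4, heq]
  ring

theorem el_congr {i j k i' j' k' : ℕ} (h1 : i % 3 = i' % 3) (h2 : j % 3 = j' % 3)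
    (h3 : k % 3 = k' % 3) : Γ.el i j k = Γ.el i' j' k' := by
  rw [el, el, pow_eq_pow_mod i Γ.x3, pow_eq_pow_mod j Γ.x13, pow_eq_pow_mod k Γ.x23, h1, h2, h3,
    ← pow_eq_pow_mod i' Γ.x3, ← pow_eq_pow_mod j' Γ.x13, ← pow_eq_pow_mod k' Γ.x23]

theorem el_inv (i j k : ℕ) : (Γ.el i j k)⁻¹ = Γ.el (2 * i) (2 * j) (2 * k) :=
  inv_eq_of_mul_eq_one_right (by
    rw [Γ.el_mul, show i + 2 * i = 3 * i by ring, show j + 2 * j = 3 * j by ring,
      show k + 2 * k = 3 * k by ring, Γ.el_cube])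

theorem mem_congr {M : Subgroup G} {i j k i' j' k' : ℕ} (h : Γ.el i j k ∈ M) (h1 : i % 3 = i' % 3)
    (h2 : j % 3 = j' % 3) (h3 : k % 3 = k' % 3) : Γ.el i' j' k' ∈ M :=
  Γ.el_congr h1 h2 h3 ▸ h

/-- `y` and two independent elements inverted by `t` generate `A`. -/
theorem gen {M : Subgroup G} {i j : Fin 3} (hi : i ≠ 0) (hj : j ≠ 0) (hy : Γ.y ∈ M)
    (h1 : Γ.el i j (2 * j.val) ∈ M) (h2 : Γ.el i (2 * j.val) j ∈ M) : Γ.A ≤ M := by
  have hy' : Γ.el 0 1 1 ∈ M := by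
    rw [el, pow_zero, one_mul, pow_one, pow_one]; exact hy
  have hpow : ∀ {a b c : ℕ}, Γ.el a b c ∈ M → ∀ n, Γ.el (n * a) (n * b) (n * c) ∈ M := by
    intro a b c h n
    induction n with
    | zero => simp only [zero_mul]; rw [Γ.el_zero]; exact one_mem M
    | succ n ih =>
      rw [show (n + 1) * a = n * a + a by ring, show (n + 1) * b = n * b + b by ring,
        show (n + 1) * c = n * c + c by ring, ← Γ.el_mul]
      exact mul_mem ih h
  have h3 := mul_mem h1 h2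
  rw [Γ.el_mul] at h3
  have hx : Γ.el 1 0 0 ∈ M := by
    rcases (show i.val = 1 ∨ i.val = 2 by omega) with e | e
    · exact Γ.mem_congr (hpow h3 2) (by omega) (by omega) (by omega)
    · exact Γ.mem_congr (h3) (by omega) (by omega) (by omega)
  have hd : Γ.el 0 1 2 ∈ M := by
    have h4 := mul_mem h1 (hpow hx (2 * i.val))
    rw [Γ.el_mul] at h4
    rcases (show j.val = 1 ∨ j.val = 2 by omega) with e | e
    · exact Γ.mem_congr (h4) (by omega) (by omega) (by omega)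
    · exact Γ.mem_congr (hpow h4 2) (by omega) (by omega) (by omega)
  have h5 := mul_mem hy' hd
  rw [Γ.el_mul] at h5
  have hx1 : Γ.el 0 1 0 ∈ M := Γ.mem_congr (hpow h5 2) (by omega) (by omega) (by omega)
  have h6 := mul_mem hy' h5
  rw [Γ.el_mul] at h6
  have hx2 : Γ.el 0 0 1 ∈ M := Γ.mem_congr (h6) (by omega) (by omega) (by omega)
  rintro e ⟨a, b, c, rfl⟩
  have := mul_mem (mul_mem (hpow hx a) (hpow hx1 b)) (hpow hx2 c)
  rw [Γ.el_mul, Γ.el_mul] at this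
  exact Γ.mem_congr (this) (by omega) (by omega) (by omega)

/-- The elements of `A` inverted by `t` that move every point. -/
theorem shape {e : G} (he : e ∈ Γ.A) (hinv : Γ.t * e * Γ.t⁻¹ = e⁻¹)
    (hf : ∀ p, Γ.D.R p e → ∀ m, p m ≠ m) :
    ∃ i j : Fin 3, i ≠ 0 ∧ j ≠ 0 ∧ e = Γ.el i j (2 * j.val) := by
  obtain ⟨i, j, k, rfl⟩ := Γ.exists_fin he
  have hR := Γ.r_el i j k
  have h1 := Γ.D.mul (Γ.D.mul Γ.rt hR) (Γ.D.inv Γ.rt)
  rw [hinv] at h1
  obtain ⟨hi, hj, hk⟩ := pA_fpf_inverted i j k (Γ.D.func h1 (Γ.D.inv hR)) (hf _ hR)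
  exact ⟨i, j, hi, hj, Γ.el_congr rfl rfl (by omega)⟩

/-- Two independent such elements. -/
theorem second {i j i' j' : Fin 3} (hi : i ≠ 0) (hj : j ≠ 0) (hi' : i' ≠ 0) (hj' : j' ≠ 0)
    {P P' : G} (hP : P = Γ.el i j (2 * j.val)) (hP' : P' = Γ.el i' j' (2 * j'.val))
    (hne : ¬ (P' = P ∨ P' = P⁻¹)) :
    Γ.el i (2 * j.val) j = P' ∨ Γ.el i (2 * j.val) j = P'⁻¹ := by
  have key : ∀ a b : Fin 3, a ≠ 0 → b ≠ 0 → b.val = a.val ∨ b.val = 2 * a.val % 3 := by decide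
  have hii := key i i' hi hi'
  have hjj := key j j' hj hj'
  subst hP hP'
  rcases hii with e1 | e1 <;> rcases hjj with e2 | e2
  · exact absurd (Or.inl (Γ.el_congr (by omega) (by omega) (by omega))) hne
  · exact Or.inl (Γ.el_congr (by omega) (by omega) (by omega))
  · refine Or.inr ?_
    rw [Γ.el_inv]
    exact Γ.el_congr (by omega) (by omega) (by omega)
  · refine absurd (Or.inr ?_) hne
    rw [Γ.el_inv]
    exact Γ.el_congr (by omega) (by omega) (by omega)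

/-- Conjugation in `C(z)` keeps the property of moving every point. -/
theorem fpf_conj {k e : G} (hk : k * z = z * k) (he : ∀ p, Γ.D.R p e → ∀ m, p m ≠ m)
    (hez : e * z = z * e) : ∀ p, Γ.D.R p (k * e * k⁻¹) → ∀ m, p m ≠ m := by
  intro p hp m hm
  obtain ⟨q, hq⟩ := Γ.D.total hk
  obtain ⟨r, hr⟩ := Γ.D.total hez
  have := Γ.D.func hp (Γ.D.mul (Γ.D.mul hq hr) (Γ.D.inv hq))
  subst this
  refine he r hr (q⁻¹ m) (q.injective ?_)
  simpa [Perm.mul_apply] using hm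

theorem w_sq : Γ.w * Γ.w = z := Γ.D.sq22 Γ.rw' (by
  rw [om, (disjoint_of (by decide)).cycleType_mul, isCycle_swap' (by decide),
    isCycle_swap' (by decide)]
  rfl)

theorem w_inv_A {e : G} (he : e ∈ Γ.A) : Γ.w⁻¹ * e * Γ.w ∈ Γ.A := by
  have h : Γ.w⁻¹ * e * Γ.w = Γ.w * e * Γ.w⁻¹ := by
    have hwi : Γ.w⁻¹ = Γ.w * z := inv_eq_of_mul_eq_one_right (by rw [← mul_assoc, Γ.w_sq, Γ.zz])
    rw [hwi]
    calc Γ.w * z * e * Γ.w = Γ.w * (z * e) * Γ.w := by group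
      _ = Γ.w * e * (z * Γ.w) := by rw [← Γ.A_z he]; group
      _ = _ := by rw [Γ.w_z]
  rw [h]
  exact Γ.w_A he

/-- An element transported to `z` by a product of `Ctx` elements is inverted as before. -/
theorem inv_of_mul_z {e u : G} (he : e * z = z * e) (hu : u * z * e * (u * z)⁻¹ = e⁻¹) :
    u * e * u⁻¹ = e⁻¹ := by
  rw [show u * z * e * (u * z)⁻¹ = u * (z * e * z⁻¹) * u⁻¹ by group, ← he,
    mul_inv_cancel_right] at hu
  exact hu

theorem oddc {e : G} (h : G) (he : Odd (orderOf e)) : Odd (orderOf (h * e * h⁻¹)) := by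
  rwa [show h * e * h⁻¹ = MulAut.conj h e from rfl, (MulAut.conj h).orderOf_eq]

theorem oddc' {e : G} (h : G) (he : Odd (orderOf e)) : Odd (orderOf (h⁻¹ * e * h)) := by
  simpa using Γ.oddc h⁻¹ he

/-- The main step: an element of `B` commuting with `A` gives a contradiction. -/
theorem no_element (hB : Nat.card Γ.B = 9) (hg1 : g * z * g⁻¹ = Γ.t)
    (hg2 : g * Γ.t * g⁻¹ = Γ.t * z) (hg3 : g * (Γ.t * z) * g⁻¹ = z)
    (hgy : g * Γ.y * g⁻¹ = Γ.y ∨ g * Γ.y * g⁻¹ = Γ.y⁻¹) {a : G} (ha : a ∈ Γ.B)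
    (ha1 : a ≠ 1) (haA : ∀ e ∈ Γ.A, a * e = e * a) : False := by
  have gyA : g * Γ.y * g⁻¹ ∈ Γ.A := by
    rcases hgy with e | e <;> rw [e]
    exacts [Γ.y_mem, inv_mem Γ.y_mem]
  have gyA2 : g * (g * Γ.y * g⁻¹) * g⁻¹ ∈ Γ.A := by
    rcases hgy with e | e <;> rw [e]
    · exact gyA
    · rw [show g * Γ.y⁻¹ * g⁻¹ = (g * Γ.y * g⁻¹)⁻¹ by group]
      exact inv_mem gyA
  have conjy : ∀ {e : G}, e * Γ.y = Γ.y * e → (g * e * g⁻¹) * Γ.y = Γ.y * (g * e * g⁻¹) :=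
    fun h => (comm_of_conj hgy).1 h
  have conjy' : ∀ {e : G}, e * Γ.y = Γ.y * e → (g⁻¹ * e * g) * Γ.y = Γ.y * (g⁻¹ * e * g) :=
    fun {e} h => (comm_of_conj (y := Γ.y) (e := g⁻¹ * e * g) hgy).2 (by
      rw [show g * (g⁻¹ * e * g) * g⁻¹ = e by group]; exact h)
  have inv1 : g⁻¹ * z * g = Γ.t * z := by
    nth_rewrite 1 [← hg3]
    group
  have inv2 : g⁻¹ * Γ.t * g = z := by
    rw [← hg1]
    group
  have inv3 : g⁻¹ * (Γ.t * z) * g = Γ.t := by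
    rw [← hg2]
    group
  -- back from the conjugate at `t z`
  have toA2 : ∀ {e : G}, e * (Γ.t * z) = Γ.t * z * e → e * Γ.y = Γ.y * e → Odd (orderOf e) →
      g⁻¹ * (g⁻¹ * e * g) * g ∈ Γ.A := by
    intro e h1 h2 h3
    refine Γ.mem_A ?_ (conjy' (conjy' h2)) (Γ.oddc' g (Γ.oddc' g h3))
    have h := comm_inv_conj (g := g) (comm_inv_conj (g := g) h1)
    rwa [inv3, inv2] at h
  have haodd : Odd (orderOf a) := odd_order_of_mem Γ.K_odd (Γ.B_le ha)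
  have hay : a * Γ.y = Γ.y * a := haA _ Γ.y_mem
  -- `a0`
  set a0 := g⁻¹ * a * g with ha0
  have hga0 : g * a0 * g⁻¹ = a := by rw [ha0]; group
  have ha0z : a0 * z = z * a0 := by
    have h := comm_inv_conj (g := g) (Γ.B_t ha)
    rwa [inv2] at h
  have ha0A : a0 ∈ Γ.A := Γ.mem_A ha0z (conjy' hay) (Γ.oddc' g haodd)
  have ha0inv : Γ.t * a0 * Γ.t⁻¹ = a0⁻¹ := by
    refine Γ.inv_of_mul_z ha0z ?_
    rw [← inv1, ha0, show g⁻¹ * z * g * (g⁻¹ * a * g) * (g⁻¹ * z * g)⁻¹ =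
      g⁻¹ * (z * a * z⁻¹) * g by group, Γ.B_inv ha]
    group
  have ha0f : ∀ p, Γ.D.R p a0 → ∀ m, p m ≠ m := fun p hp => Γ.B_fpf hg1 hB ha ha1 hp
  -- `a2`, `P`, `P'`
  set a2 := Γ.w * a * Γ.w⁻¹ with ha2
  have hwz : Γ.w * z * Γ.w⁻¹ = z := by rw [Γ.w_z, mul_inv_cancel_right]
  have ha2z : z * a2 * z⁻¹ = a2⁻¹ := by
    have h : (Γ.w * z * Γ.w⁻¹) * a2 * (Γ.w * z * Γ.w⁻¹)⁻¹ = a2⁻¹ := by
      rw [ha2, show Γ.w * z * Γ.w⁻¹ * (Γ.w * a * Γ.w⁻¹) * (Γ.w * z * Γ.w⁻¹)⁻¹ =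
        Γ.w * (z * a * z⁻¹) * Γ.w⁻¹ by group, Γ.B_inv ha]
      group
    rwa [hwz] at h
  have ha2t : a2 * (Γ.t * z) = Γ.t * z * a2 := by
    have h := comm_conj (g := Γ.w) (Γ.B_t ha)
    rwa [Γ.wt] at h
  have ha2A : ∀ e ∈ Γ.A, a2 * e = e * a2 := by
    intro e he
    have h := comm_conj (g := Γ.w) (haA _ (Γ.w_inv_A he))
    rwa [show Γ.w * (Γ.w⁻¹ * e * Γ.w) * Γ.w⁻¹ = e by group] at h
  have ha2odd : Odd (orderOf a2) := Γ.oddc _ haodd
  set P := g * a2 * g⁻¹ with hP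
  have hPz : P * z = z * P := by
    have h := comm_conj (g := g) ha2t
    rwa [hg3] at h
  have hPA : P ∈ Γ.A := Γ.mem_A hPz (conjy (ha2A _ Γ.y_mem)) (Γ.oddc _ ha2odd)
  have hPinv : Γ.t * P * Γ.t⁻¹ = P⁻¹ := by
    rw [← hg1, hP, show g * z * g⁻¹ * (g * a2 * g⁻¹) * (g * z * g⁻¹)⁻¹ = g * (z * a2 * z⁻¹) * g⁻¹
      by group, ha2z]
    group
  set k := g * Γ.w * g with hk
  have hkz : k * z = z * k := by
    refine mul_inv_eq_iff_eq_mul.1 ?_
    rw [hk, show g * Γ.w * g * z * (g * Γ.w * g)⁻¹ = g * (Γ.w * (g * z * g⁻¹) * Γ.w⁻¹) * g⁻¹ by group,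
      hg1, Γ.wt, hg3]
  have hPk : P = k * a0 * k⁻¹ := by rw [hP, ha2, hk, ha0]; group
  have hPf : ∀ p, Γ.D.R p P → ∀ m, p m ≠ m := hPk ▸ Γ.fpf_conj hkz ha0f ha0z
  set P' := g * (g * a * g⁻¹) * g⁻¹ with hP'
  have hP'z : P' * z = z * P' := by
    have h := comm_conj (g := g) (comm_conj (g := g) (Γ.B_t ha))
    rwa [hg2, hg3] at h
  have hP'A : P' ∈ Γ.A := Γ.mem_A hP'z (conjy (conjy hay)) (Γ.oddc _ (Γ.oddc _ haodd))
  have hP'inv : Γ.t * P' * Γ.t⁻¹ = P'⁻¹ := by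
    refine Γ.inv_of_mul_z hP'z ?_
    rw [← hg2, ← hg1, hP', show g * (g * z * g⁻¹) * g⁻¹ * (g * (g * a * g⁻¹) * g⁻¹) *
      (g * (g * z * g⁻¹) * g⁻¹)⁻¹ = g * (g * (z * a * z⁻¹) * g⁻¹) * g⁻¹ by group, Γ.B_inv ha]
    simp only [mul_inv_rev, inv_inv, mul_assoc]
  set g3 := g * g * g with hg3'
  have hg3z : g3 * z = z * g3 := by
    refine mul_inv_eq_iff_eq_mul.1 ?_
    rw [hg3', show g * g * g * z * (g * g * g)⁻¹ = g * (g * (g * z * g⁻¹) * g⁻¹) * g⁻¹ by group,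
      hg1, hg2, hg3]
  have hP'k : P' = g3 * a0 * g3⁻¹ := by rw [hP', hg3', ha0]; group
  have hP'f : ∀ p, Γ.D.R p P' → ∀ m, p m ≠ m := hP'k ▸ Γ.fpf_conj hg3z ha0f ha0z
  have PAt : ∀ e ∈ Γ.A, P * (g * e * g⁻¹) = g * e * g⁻¹ * P := fun e he => comm_conj (ha2A e he)
  have P'Azt : ∀ e ∈ Γ.A, P' * (g * (g * e * g⁻¹) * g⁻¹) = g * (g * e * g⁻¹) * g⁻¹ * P' :=
    fun e he => comm_conj (comm_conj (haA e he))
  -- `x` does not commute with `g x g⁻¹`
  have finish : (∀ e ∈ Γ.A, Γ.x * (g * e * g⁻¹) = g * e * g⁻¹ * Γ.x) → False := by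
    intro h
    set xt := g * Γ.x * g⁻¹ with hxt
    have hzi : z * xt * z⁻¹ = xt⁻¹ := by
      have h1 : Γ.t * z * Γ.x * (Γ.t * z)⁻¹ = Γ.x⁻¹ := by
        rw [show Γ.t * z * Γ.x * (Γ.t * z)⁻¹ = Γ.t * (z * Γ.x * z⁻¹) * Γ.t⁻¹ by group, ← Γ.x_z,
          mul_inv_cancel_right, Γ.t_x]
        exact sq_eq_inv' Γ.x3
      rw [← hg3, hxt, show g * (Γ.t * z) * g⁻¹ * (g * Γ.x * g⁻¹) * (g * (Γ.t * z) * g⁻¹)⁻¹ =
        g * (Γ.t * z * Γ.x * (Γ.t * z)⁻¹) * g⁻¹ by group, h1]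
      group
    have hxK : xt ∈ Γ.K :=
      Γ.soloY.inverted_mem (Γ.mem_Y.2 (h _ Γ.x_mem).symm) (Γ.oddc _ Γ.x_odd) hzi
    have hxB : xt ∈ Γ.B := by
      refine mem_fx.2 ⟨hxK, ?_⟩
      rw [hxt, ← hg1]
      exact comm_conj Γ.x_z.symm
    exact Γ.B_fpf hg1 hB hxB (fun e => Γ.x_ne (conj_eq_one_iff.1 e)) (p := sg)
      (by rw [hxt, show g⁻¹ * (g * Γ.x * g⁻¹) * g = Γ.x by group]; exact Γ.rx) 0 (by decide)
  obtain ⟨i, j, hi, hj, hPe⟩ := Γ.shape hPA hPinv hPf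
  obtain ⟨i', j', hi', hj', hPe'⟩ := Γ.shape hP'A hP'inv hP'f
  -- it suffices that the second generator commutes with the conjugate of `A` at `t`
  suffices hsec : ∀ e ∈ Γ.A, Γ.el i (2 * j.val) j ∈ centralizer ({g * e * g⁻¹} : Set G) by
    refine finish fun e he => mem_centralizer_singleton_iff.1
      (Γ.gen hi hj ?_ ?_ (hsec e he) Γ.x_mem)
    · exact mem_centralizer_singleton_iff.2 (conjy (Γ.A_y he)).symm
    · rw [← hPe]; exact mem_centralizer_singleton_iff.2 (PAt e he)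
  intro e he
  by_cases hsame : P' = P ∨ P' = P⁻¹
  · -- `P` commutes with both conjugates; so does `w P w⁻¹`
    have PAzt : ∀ e ∈ Γ.A, P * (g * (g * e * g⁻¹) * g⁻¹) = g * (g * e * g⁻¹) * g⁻¹ * P := by
      intro e he
      rcases hsame with h | h
      · exact h ▸ P'Azt e he
      · rw [show P = P'⁻¹ by rw [h, inv_inv]]
        exact (show Commute P' _ from P'Azt e he).inv_left.eq
    have hq : Γ.el i (2 * j.val) j = Γ.w * P * Γ.w⁻¹ := by
      have e1 : Γ.w * P * Γ.w⁻¹ = (Γ.w * Γ.x * Γ.w⁻¹) ^ i.val * (Γ.w * Γ.x1 * Γ.w⁻¹) ^ j.val *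
          (Γ.w * Γ.x2 * Γ.w⁻¹) ^ (2 * j.val) := by
        rw [conj_pow, conj_pow, conj_pow, hPe, el]; group
      rw [e1, Γ.w_x, Γ.w_x1, Γ.w_x2, ← pow_mul, ← pow_mul]
      exact Γ.el_congr rfl rfl (by omega)
    rw [hq, mem_centralizer_singleton_iff]
    set e' := Γ.w⁻¹ * (g * e * g⁻¹) * Γ.w with he'
    have hwe : Γ.w * e' * Γ.w⁻¹ = g * e * g⁻¹ := by rw [he']; group
    have he'A : g⁻¹ * (g⁻¹ * e' * g) * g ∈ Γ.A := by
      refine toA2 ?_ ?_ (Γ.oddc' _ (Γ.oddc _ (Γ.A_odd he)))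
      · have hwtz : Γ.w⁻¹ * Γ.t * Γ.w = Γ.t * z := by
          have h2 : Γ.w * (Γ.t * z) * Γ.w⁻¹ = Γ.t := by
            rw [show Γ.w * (Γ.t * z) * Γ.w⁻¹ = (Γ.w * Γ.t * Γ.w⁻¹) * (Γ.w * z * Γ.w⁻¹) by group,
              Γ.wt, hwz, mul_assoc, Γ.zz, mul_one]
          nth_rewrite 1 [← h2]
          group
        have h := comm_inv_conj (g := Γ.w) (comm_conj (g := g) (Γ.A_z he))
        rwa [hg1, hwtz] at h
      · exact (comm_of_conj (g := Γ.w) (y := Γ.y) (e := e') (Or.inr Γ.w_y)).2 (by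
          rw [hwe]; exact conjy (Γ.A_y he))
    have h := comm_conj (g := Γ.w) (PAzt _ he'A)
    rwa [show g * (g * (g⁻¹ * (g⁻¹ * e' * g) * g) * g⁻¹) * g⁻¹ = e' by group, hwe] at h
  · -- `[a, a2] = 1`
    set u := a * a2 * a⁻¹ * a2⁻¹ with hu
    have ha2K : a2 ∈ Γ.K := Γ.w_norm (Γ.B_le ha)
    have hprod : a * a2 ∈ Γ.K := mul_mem (Γ.B_le ha) ha2K
    have hux : u ∈ zpowers Γ.x := by
      -- modulo `⟨x⟩`, `z` inverts `a a2`
      obtain ⟨c, hc, d, -, hcz, hdz, hcd⟩ :=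
        Cfsg.Agent.Lib.RankOne.Involution.exists_decomp Γ.K_odd Γ.zz (fun k hk => Γ.z_norm hk) hprod
      have hcx : c ∈ zpowers Γ.x := Γ.fixed_z hc (mul_inv_eq_iff_eq_mul.1 hcz).symm
      have hcent : ∀ k ∈ Γ.K, Commute c k := fun k hk => by
        obtain ⟨m, rfl⟩ := mem_zpowers_iff.1 hcx
        exact (show Commute Γ.x k from (Γ.K_comm hk).symm).zpow_left m
      have hd : d = c⁻¹ * (a * a2) := by rw [hcd]; group
      have h1 : z * (a * a2) * z⁻¹ = a⁻¹ * a2⁻¹ := by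
        rw [show z * (a * a2) * z⁻¹ = (z * a * z⁻¹) * (z * a2 * z⁻¹) by group, Γ.B_inv ha, ha2z]
      have h2 : a⁻¹ * a2⁻¹ = c * (a * a2)⁻¹ * c := by
        rw [← h1, hcd, show z * (c * d) * z⁻¹ = (z * c * z⁻¹) * (z * d * z⁻¹) by group, hcz, hdz]
        group
      have h3 : a⁻¹ * a2⁻¹ * (a * a2) = c * c := by
        rw [h2, mul_assoc, (hcent _ hprod).eq]
        group
      have : u = (a * a2) * (a⁻¹ * a2⁻¹ * (a * a2)) * (a * a2)⁻¹ := by rw [hu]; group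
      rw [this, h3, (((hcent _ hprod).symm).mul_right (hcent _ hprod).symm).eq, mul_inv_cancel_right]
      exact mul_mem hcx hcx
    set c := g * P * g⁻¹ with hc
    have hac : a * c = c * a := by
      rw [← hga0, hc]
      exact comm_conj (Γ.A_comm ha0A hPA)
    have hcomm : g * (g * u * g⁻¹) * g⁻¹ = P' * c * P'⁻¹ * c⁻¹ := by
      rw [hu, hP', hc, hP]; group
    have hau : a * (g * (g * u * g⁻¹) * g⁻¹) = g * (g * u * g⁻¹) * g⁻¹ * a := by
      rw [hcomm]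
      have c1 : Commute a P' := haA _ hP'A
      have c2 : Commute a c := hac
      exact (((c1.mul_right c2).mul_right c1.inv_right).mul_right c2.inv_right).eq
    have hu1 : u = 1 := by
      by_contra hu1
      let M : Subgroup G := (centralizer ({a} : Set G)).comap
        ((MulAut.conj g).toMonoidHom.comp (MulAut.conj g).toMonoidHom)
      have hM : ∀ e, e ∈ M ↔ g * (g * e * g⁻¹) * g⁻¹ * a = a * (g * (g * e * g⁻¹) * g⁻¹) := fun e => by
        simp [M, Subgroup.mem_comap, mem_centralizer_singleton_iff]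
      have huM : u ∈ M := (hM u).2 hau.symm
      have hxM : Γ.x ∈ M := by
        rcases pow_eq_one_three Γ.x3 hux with e | e | e
        · exact absurd e hu1
        · exact e ▸ huM
        · have := pow_mem (e ▸ huM : Γ.x ^ 2 ∈ M) 2
          rwa [← pow_mul, pow_succ, Γ.x3, one_mul] at this
      have hyM : Γ.y ∈ M := (hM _).2 (haA _ gyA2).symm
      have ha0M : a0 ∈ M := by
        have h := comm_conj (g := g) (haA _ ha0A)
        rw [hga0] at h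
        rw [hM, hga0]
        exact h
      obtain ⟨i0, j0, hi0, hj0, he0⟩ := Γ.shape ha0A ha0inv ha0f
      have hA : Γ.A ≤ M := by
        refine Γ.gen hi0 hj0 hyM (he0 ▸ ha0M) ?_
        have h1 := mul_mem (pow_mem hxM (2 * i0.val)) (pow_mem (he0 ▸ ha0M) 2)
        rw [show Γ.x ^ (2 * i0.val) = Γ.el (2 * i0.val) 0 0 by simp [el], pow_two, Γ.el_mul,
          Γ.el_mul] at h1
        exact Γ.mem_congr (h1) (by omega) (by omega) (by omega)
      have h := (hM _).1 (hA (toA2 ha2t (ha2A _ Γ.y_mem) ha2odd))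
      rw [show g * (g * (g⁻¹ * (g⁻¹ * a2 * g) * g) * g⁻¹) * g⁻¹ = a2 by group] at h
      refine hu1 ?_
      rw [hu, ← h]
      group
    have hP'c : P' * c = c * P' := by
      rw [hu1] at hcomm
      rw [← mul_inv_eq_iff_eq_mul, ← mul_inv_eq_one, ← hcomm]
      group
    let M : Subgroup G := (centralizer ({P'} : Set G)).comap (MulAut.conj g).toMonoidHom
    have hM : ∀ e, e ∈ M ↔ g * e * g⁻¹ * P' = P' * (g * e * g⁻¹) := fun e => by
      simp [M, Subgroup.mem_comap, mem_centralizer_singleton_iff]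
    have hyM : Γ.y ∈ M := (hM _).2 (Γ.A_comm gyA hP'A)
    have hP'M : P' ∈ M := by
      rw [hM, show g * P' * g⁻¹ = g3 * a * g3⁻¹ by rw [hP', hg3']; group]
      have hin : g3⁻¹ * P' * g3 ∈ Γ.A := by
        refine Γ.mem_A ?_ ?_ (Γ.oddc' _ (Γ.A_odd hP'A))
        · have h := comm_inv_conj (g := g3) hP'z
          rwa [show g3⁻¹ * z * g3 = z by rw [mul_assoc, ← hg3z, inv_mul_cancel_left]] at h
        · have h := conjy' (conjy' (conjy' (Γ.A_y hP'A)))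
          rwa [show g⁻¹ * (g⁻¹ * (g⁻¹ * P' * g) * g) * g = g3⁻¹ * P' * g3 by rw [hg3']; group] at h
      have h := comm_conj (g := g3) (haA _ hin)
      rwa [show g3 * (g3⁻¹ * P' * g3) * g3⁻¹ = P' by group] at h
    have hPM : P ∈ M := (hM _).2 hP'c.symm
    have hsec2 := Γ.second hi hj hi' hj' hPe hPe' hsame
    have heM : e ∈ M := by
      refine Γ.gen hi hj hyM (hPe ▸ hPM) ?_ he
      rcases hsec2 with h | h <;> rw [h]
      exacts [hP'M, inv_mem hP'M]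
    have hfin : P' ∈ centralizer ({g * e * g⁻¹} : Set G) :=
      mem_centralizer_singleton_iff.2 ((hM e).1 heM).symm
    rcases hsec2 with h | h <;> rw [h]
    exacts [hfin, inv_mem hfin]

/-- `C(x) ≤ C(z)`. -/
theorem cx_le {c : G} (hc : c * Γ.x = Γ.x * c) : c * z = z * c := by
  obtain ⟨g, hg1, hg2, hg3, hgy⟩ := Γ.exists_g
  have hKf := Γ.card_formula Γ.K le_rfl (fun k hk => Γ.z_norm hk) (fun k hk => Γ.t_norm hk)
    (fun k hk => Γ.w_norm hk)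
  rw [Γ.fx_z, Γ.card_zpowers_x, show fx Γ.t Γ.K = Γ.B from rfl] at hKf
  rcases Γ.card_B hg1 with hB | hB
  · rw [hB] at hKf
    have hK : zpowers Γ.x = Γ.K := by
      refine Subgroup.eq_of_le_of_card_ge (zpowers_le.2 Γ.x_mem_K) ?_
      rw [hKf, Γ.card_zpowers_x]
      norm_num
    obtain ⟨o, ho, d, -, hd, rfl⟩ := Γ.soloY.factor (Γ.mem_Y.2 hc)
    have ho' : o ∈ zpowers Γ.x := hK ▸ ho
    obtain ⟨m, rfl⟩ := mem_zpowers_iff.1 ho'
    exact (((show Commute Γ.x z from Γ.x_z).zpow_left m).mul_left hd).eq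
  · exfalso
    rw [hB] at hKf
    -- a fixed point of `⟨x1, x2⟩` on the inverted elements
    haveI : Fact (Nat.Prime 3) := ⟨Nat.prime_three⟩
    have hI := card_decomp Γ.K_odd Γ.zz (fun k hk => Γ.z_norm hk)
    rw [Γ.fx_z, Γ.card_zpowers_x, hKf] at hI
    let P12 : Subgroup G := Subgroup.closure {Γ.x1, Γ.x2}
    have hP12A : P12 ≤ Γ.A := (Subgroup.closure_le _).2
      (Set.insert_subset Γ.x1_mem (Set.singleton_subset_iff.2 Γ.x2_mem))
    have hP12 : IsPGroup 3 P12 := fun m => ⟨1, Subtype.ext (by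
      rw [SubmonoidClass.coe_pow, pow_one]; exact Γ.A_cube (hP12A m.2))⟩
    have hact : ∀ p ∈ P12, ∀ k ∈ ix z Γ.K, p * k * p⁻¹ ∈ ix z Γ.K := by
      rintro p hp k ⟨hk, hki⟩
      have hpA := hP12A hp
      refine ⟨Γ.K_norm (Or.inl ?_) hk, ?_⟩
      · rw [Γ.A_comm hpA Γ.x_mem, mul_inv_cancel_right]
      · have hpz : z * p * z⁻¹ = p := by rw [← Γ.A_z hpA, mul_inv_cancel_right]
        rw [show z * (p * k * p⁻¹) * z⁻¹ = (z * p * z⁻¹) * (z * k * z⁻¹) * (z * p * z⁻¹)⁻¹ by group,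
          hpz, hki]
        group
    letI : MulAction P12 ↥(ix z Γ.K) :=
      { smul := fun p k => ⟨(p : G) * k.1 * (p : G)⁻¹, hact _ p.2 _ k.2⟩
        one_smul := fun k => Subtype.ext (show (1 : G) * k.1 * (1 : G)⁻¹ = k.1 by group)
        mul_smul := fun a b k => Subtype.ext (show (a : G) * b * k.1 * ((a : G) * b)⁻¹ =
          (a : G) * ((b : G) * k.1 * (b : G)⁻¹) * (a : G)⁻¹ by group) }
    have hfp := hP12.card_modEq_card_fixedPoints (α := ↥(ix z Γ.K))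
    have hI81 : Nat.card ↥(ix z Γ.K) = 81 := by omega
    rw [hI81] at hfp
    have hone : (1 : G) ∈ ix z Γ.K := ⟨one_mem _, by group⟩
    have hmem1 : (⟨1, hone⟩ : ↥(ix z Γ.K)) ∈ MulAction.fixedPoints P12 ↥(ix z Γ.K) := fun p =>
      Subtype.ext (show (p : G) * 1 * (p : G)⁻¹ = 1 by group)
    obtain ⟨u, hu1⟩ : ∃ u : MulAction.fixedPoints P12 ↥(ix z Γ.K), u ≠ ⟨_, hmem1⟩ := by
      by_contra! h
      haveI : Unique ↥(MulAction.fixedPoints P12 ↥(ix z Γ.K)) := ⟨⟨⟨_, hmem1⟩⟩, h⟩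
      rw [Nat.card_unique] at hfp
      exact absurd hfp (by decide)
    have hucomm : ∀ p ∈ P12, p * u.1.1 = u.1.1 * p := fun p hp =>
      mul_inv_eq_iff_eq_mul.1 (congrArg Subtype.val (u.2 ⟨p, hp⟩))
    set K0 := Γ.K ⊓ centralizer ({Γ.x1} : Set G) ⊓ centralizer ({Γ.x2} : Set G) with hK0
    have normc : ∀ {h : G}, (∀ k ∈ Γ.K, h * k * h⁻¹ ∈ Γ.K) →
        (h⁻¹ * Γ.x1 * h ∈ Subgroup.closure ({Γ.x1, Γ.x2} : Set G)) →
        (h⁻¹ * Γ.x2 * h ∈ Subgroup.closure ({Γ.x1, Γ.x2} : Set G)) →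
        ∀ k ∈ K0, h * k * h⁻¹ ∈ K0 := by
      intro h hK h1 h2 k hk
      obtain ⟨⟨hkK, hk1⟩, hk2⟩ := hk
      have hcl : ∀ p ∈ Subgroup.closure ({Γ.x1, Γ.x2} : Set G), k * p = p * k := fun p hp => by
        refine mem_centralizer_singleton_iff.1 ?_ |>.symm
        refine (Subgroup.closure_le _).2 ?_ hp
        rintro _ (rfl | rfl)
        exacts [mem_centralizer_singleton_iff.2 (mem_centralizer_singleton_iff.1 hk1).symm,
          mem_centralizer_singleton_iff.2 (mem_centralizer_singleton_iff.1 hk2).symm]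
      refine ⟨⟨hK k hkK, ?_⟩, ?_⟩ <;> refine mem_centralizer_singleton_iff.2 ?_
      · have := comm_conj (g := h) (hcl _ h1)
        rwa [show h * (h⁻¹ * Γ.x1 * h) * h⁻¹ = Γ.x1 by group] at this
      · have := comm_conj (g := h) (hcl _ h2)
        rwa [show h * (h⁻¹ * Γ.x2 * h) * h⁻¹ = Γ.x2 by group] at this
    have hm1 : Γ.x1 ∈ Subgroup.closure ({Γ.x1, Γ.x2} : Set G) := Subgroup.subset_closure (Or.inl rfl)
    have hm2 : Γ.x2 ∈ Subgroup.closure ({Γ.x1, Γ.x2} : Set G) := Subgroup.subset_closure (Or.inr rfl)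
    have hwinv : ∀ {e : G}, Γ.w * e * Γ.w⁻¹ = e ^ 2 → e ^ 3 = 1 → Γ.w⁻¹ * e * Γ.w = e ^ 2 := by
      intro e h he
      have e1 : Γ.w * e ^ 2 * Γ.w⁻¹ = e := by
        rw [← conj_pow, h, ← pow_mul, pow_succ, show e ^ 3 = 1 from he, one_mul]
      conv_lhs => rw [← e1]
      group
    have hK0f := Γ.card_formula K0 (inf_le_left.trans inf_le_left)
      (normc (fun k hk => Γ.z_norm hk)
        (by rw [mul_assoc, Γ.A_z Γ.x1_mem, inv_mul_cancel_left]; exact hm1)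
        (by rw [mul_assoc, Γ.A_z Γ.x2_mem, inv_mul_cancel_left]; exact hm2))
      (normc (fun k hk => Γ.t_norm hk)
        (by rw [show Γ.t⁻¹ * Γ.x1 * Γ.t = Γ.t * Γ.x1 * Γ.t⁻¹ by rw [Γ.tinv], Γ.t_x1]; exact hm2)
        (by rw [show Γ.t⁻¹ * Γ.x2 * Γ.t = Γ.t * Γ.x2 * Γ.t⁻¹ by rw [Γ.tinv], Γ.t_x2]; exact hm1))
      (normc (fun k hk => Γ.w_norm hk)
        (by rw [hwinv Γ.w_x1 Γ.x13]; exact pow_mem hm1 2)
        (by rw [hwinv Γ.w_x2 Γ.x23]; exact pow_mem hm2 2))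
    have hfxz : fx z K0 = zpowers Γ.x := by
      refine le_antisymm (fun k hk => Γ.fx_z ▸ mem_fx.2 ⟨(mem_fx.1 hk).1.1.1, (mem_fx.1 hk).2⟩) ?_
      refine zpowers_le.2 (mem_fx.2 ⟨⟨⟨Γ.x_mem_K, ?_⟩, ?_⟩, Γ.x_z.symm⟩)
      · exact mem_centralizer_singleton_iff.2 (Γ.A_comm Γ.x_mem Γ.x1_mem)
      · exact mem_centralizer_singleton_iff.2 (Γ.A_comm Γ.x_mem Γ.x2_mem)
    have huK0 : u.1.1 ∈ K0 := ⟨⟨u.1.2.1, mem_centralizer_singleton_iff.2 (hucomm _ hm1).symm⟩,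
      mem_centralizer_singleton_iff.2 (hucomm _ hm2).symm⟩
    have hbig : fx Γ.t K0 ≠ ⊥ := by
      intro hb
      rw [hb, Subgroup.card_bot, one_pow, mul_one, hfxz] at hK0f
      have hle : zpowers Γ.x ≤ K0 := hfxz ▸ inf_le_left
      have heq := Subgroup.eq_of_le_of_card_ge hle hK0f.le
      rw [← heq] at huK0
      obtain ⟨m, hm⟩ := mem_zpowers_iff.1 huK0
      have hz' : z * u.1.1 = u.1.1 * z := by
        rw [← hm]; exact ((show Commute z Γ.x from Γ.x_z.symm).zpow_right m).eq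
      have hinv := u.1.2.2
      rw [hz', mul_inv_cancel_right] at hinv
      exact hu1 (Subtype.ext (Subtype.ext (Cfsg.Agent.Lib.RankOne.Involution.eq_one_of_sq Γ.K_odd
        u.1.2.1 (eq_inv_iff_mul_eq_one.1 hinv))))
    haveI : Nontrivial ↥(fx Γ.t K0) := (Subgroup.nontrivial_iff_ne_bot _).2 hbig
    obtain ⟨⟨a, haK0⟩, ha1⟩ := exists_ne (1 : ↥(fx Γ.t K0))
    obtain ⟨ha, hat⟩ := mem_fx.1 haK0
    refine Γ.no_element hB hg1 hg2 hg3 hgy (mem_fx.2 ⟨ha.1.1, hat⟩)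
      (fun e => ha1 (Subtype.ext e)) ?_
    rintro e ⟨i, j, k, rfl⟩
    have c0 : Commute a Γ.x := Γ.K_comm ha.1.1
    have c1 : Commute a Γ.x1 := mem_centralizer_singleton_iff.1 ha.1.2
    have c2 : Commute a Γ.x2 := mem_centralizer_singleton_iff.1 ha.2
    exact (((c0.pow_right i).mul_right (c1.pow_right j)).mul_right (c2.pow_right k)).eq

end Ctx

end Cfsg.Agent.Lib.S1645.Nine
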