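import Cfsg.Agent.Lib.S1645.Lift
import Cfsg.Agent.Lib.S1645Lift56.TwoSides
import Cfsg.Agent.Lib.ZStar.Consequences
import Cfsg.Agent.Lib.ZStar.UniqueCase

/-!
# S1645: only 8, 11 and fused 9, 10 remain

Glauberman's theorem gives a conjugate `t ≠ z` of `z` in `C(z)`.  By `TwoSides` the images of `t`
and of `z` in the two double covers move eight points, and `n ≤ 11`.

Owner: helper56.
-/

set_option autoImplicit false

universe u v w

namespace Cfsg.Agent.Lib.S1645

open Equiv Equiv.Perm Subgroup
open Cfsg.Agent.Lib.CommCover12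

theorem isCoverMap_comp {H : Type v} [Group H] {H' : Type w} [Group H'] {n : ℕ} {z : H}
    {π : H →* Perm (Fin n)} (h : IsCoverMap π z) (e : H' ≃* H) {z' : H'} (hz : e z' = z) :
    IsCoverMap (π.comp e.toMonoidHom) z' where
  range_eq := by
    rw [MonoidHom.range_comp, MonoidHom.range_eq_top.2 e.surjective, ← MonoidHom.range_eq_map,
      h.range_eq]
  perfect := by
    apply Subgroup.map_injective (f := e.toMonoidHom) e.injective
    rw [_root_.commutator_def, Subgroup.map_commutator, Subgroup.map_top_of_surjective _ e.surjective,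
      ← _root_.commutator_def, h.perfect]
  mem_ker := fun x hx => (h.mem_ker (e x) hx).imp (fun k => e.injective (k.trans (map_one e).symm))
    (fun k => e.injective (k.trans hz.symm))
  comm := fun x => e.injective (by rw [map_mul, map_mul, hz, h.comm])
  sq := e.injective (by rw [map_mul, hz, h.sq, map_one])
  ne_one := fun k => h.ne_one (by rw [← hz, k, map_one])
  map_z := by
    show π (e z') = 1
    rw [hz, h.map_z]

/-- Conjugation between two centralisers. -/
def centEquiv {G : Type u} [Group G] {z t g : G} (hg : g * z * g⁻¹ = t) :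
    ↥(centralizer ({t} : Set G)) ≃* ↥(centralizer ({z} : Set G)) where
  toFun y := ⟨g⁻¹ * y * g, mem_centralizer_singleton_iff.2 (by
    have h : (y : G) * t = t * y := mem_centralizer_singleton_iff.1 y.2
    have h : (y : G) * (g * z * g⁻¹) = g * z * g⁻¹ * y := hg.symm ▸ h
    calc g⁻¹ * y * g * z = g⁻¹ * (y * (g * z * g⁻¹)) * g := by group
      _ = z * (g⁻¹ * y * g) := by rw [h]; group)⟩
  invFun y := ⟨g * y * g⁻¹, mem_centralizer_singleton_iff.2 (by
    have h : (y : G) * z = z * y := mem_centralizer_singleton_iff.1 y.2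
    rw [← hg]
    calc g * y * g⁻¹ * (g * z * g⁻¹) = g * (y * z) * g⁻¹ := by group
      _ = g * z * g⁻¹ * (g * y * g⁻¹) := by rw [h]; group)⟩
  left_inv y := Subtype.ext (by simp [mul_assoc])
  right_inv y := Subtype.ext (by simp [mul_assoc])
  map_mul' x y := Subtype.ext (by simp [mul_assoc])

/-- In a finite simple group an involution with such a centraliser is not isolated. -/
theorem exists_fused {G : Type u} [Group G] [Finite G] {n : ℕ} {z : G}
    {π : ↥(centralizer ({z} : Set G)) →* Perm (Fin n)} (S : Setting n z π) (hn : 5 ≤ n) :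
    ∃ g : G, g * z * g⁻¹ ≠ z ∧ z * (g * z * g⁻¹) = g * z * g⁻¹ * z := by
  by_contra hno
  push Not at hno
  have hiso : Cfsg.IsIsolatedInvolution z := ⟨S.ord, fun g hc => by
    by_contra hne
    exact hno g hne hc.eq⟩
  have hp : IsPGroup 2 (Subgroup.zpowers z) :=
    IsPGroup.of_card (n := 1) (by rw [Nat.card_zpowers, S.ord, pow_one])
  obtain ⟨P, hP⟩ := hp.exists_le_sylow
  obtain ⟨N, hN, hodd, hmem⟩ := Lib.ZStar.UniqueCase.zstar P z S.ord (hP (Subgroup.mem_zpowers z))
    (fun g hg => (Lib.ZStar.Consequences.isolatedIn_of_involution hiso P (hP (Subgroup.mem_zpowers z))).2 g hg)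
  have := S.simple
  rcases hN.eq_bot_or_eq_top with hb | hb
  · have hc : z ∈ Subgroup.center G := Subgroup.mem_center_iff.2 fun g => by
      have h := hmem g
      rw [hb, Subgroup.mem_bot, mul_inv_eq_one, mul_inv_eq_iff_eq_mul] at h
      exact h.symm
    have hz1 : z ≠ 1 := fun e => by
      have h := S.ord
      rw [e, orderOf_one] at h
      omega
    rcases (inferInstance : (Subgroup.center G).Normal).eq_bot_or_eq_top with hb' | hb'
    · rw [hb', Subgroup.mem_bot] at hc
      exact hz1 hc
    · have hcomm : ∀ a b : G, a * b = b * a := fun a b =>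
        (Subgroup.mem_center_iff.1 (hb' ▸ Subgroup.mem_top a : a ∈ Subgroup.center G) b).symm
      have hI := S.cover.isCoverMap hn
      have hbot : commutator ↥(centralizer ({z} : Set G)) = ⊥ := by
        rw [_root_.commutator_def, Subgroup.commutator_eq_bot_iff_le_centralizer]
        intro x _
        exact Subgroup.mem_centralizer_iff.2 fun y _ => Subtype.ext (hcomm _ _)
      rw [hI.perfect] at hbot
      have hm := Subgroup.mem_top (zC z)
      rw [hbot, Subgroup.mem_bot] at hm
      exact hI.ne_one hm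
  · rw [hb, Subgroup.card_top] at hodd
    have h2 : 2 ∣ Nat.card G := S.ord ▸ orderOf_dvd_natCard z
    exact Nat.not_even_iff_odd.2 hodd (even_iff_two_dvd.2 h2)

/-- Only 8, 11 and fused 9, 10 remain. -/
theorem propReduce : PropReduce.{u} := by
  intro G _ _ n z π S hn
  obtain ⟨g, hne, hcz⟩ := exists_fused S hn
  set t := g * z * g⁻¹ with ht
  have hz1 : z ≠ 1 := fun e => by
    have h := S.ord
    rw [e, orderOf_one] at h
    omega
  have hz2 : z * z = 1 := by rw [← pow_two, ← S.ord, pow_orderOf_eq_one]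
  have ht2 : t * t = 1 := by
    rw [ht, show g * z * g⁻¹ * (g * z * g⁻¹) = g * (z * z) * g⁻¹ by group, hz2, mul_one, mul_inv_cancel]
  have ht1 : t ≠ 1 := fun e => hz1 (by rw [ht, conj_eq_one_iff] at e; exact e)
  have hzz : z ∈ centralizer ({z} : Set G) := mem_centralizer_singleton_iff.2 rfl
  have htt : t ∈ centralizer ({t} : Set G) := mem_centralizer_singleton_iff.2 rfl
  have hzt : z ∈ centralizer ({t} : Set G) := mem_centralizer_singleton_iff.2 hcz
  have htz : t ∈ centralizer ({z} : Set G) := mem_centralizer_singleton_iff.2 hcz.symm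
  have hI : IsCoverMap π ⟨z, hzz⟩ := S.cover.isCoverMap hn
  let e := centEquiv (z := z) (t := t) (g := g) ht.symm
  have hI' : IsCoverMap (π.comp e.toMonoidHom) ⟨t, htt⟩ :=
    isCoverMap_comp hI e (Subtype.ext (show g⁻¹ * t * g = z by rw [ht]; group))
  set π' := π.comp e.toMonoidHom with hπ'
  obtain ⟨k, hk1, hk, hk8⟩ := Lib.S1645Lift56.support_involution hI (by omega)
    (x := (⟨t, htz⟩ : ↥(centralizer ({z} : Set G)))) (Subtype.ext ht2)
    (fun h => ht1 (congrArg Subtype.val h)) (fun h => hne (congrArg Subtype.val h))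
  obtain ⟨j, hj1, hj, hj8⟩ := Lib.S1645Lift56.support_involution hI' (by omega)
    (x := (⟨z, hzt⟩ : ↥(centralizer ({t} : Set G)))) (Subtype.ext hz2)
    (fun h => hz1 (congrArg Subtype.val h)) (fun h => hne (congrArg Subtype.val h).symm)
  have h1 : (π' ⟨z, hzt⟩).support.card ≤ 8 :=
    Lib.S1645Lift56.support_le_eight hI hI' (by omega) hz2 ht2 (htz := htz) (by omega)
  have h2 : (π ⟨t, htz⟩).support.card ≤ 8 :=
    Lib.S1645Lift56.support_le_eight hI' hI (by omega) ht2 hz2 (htz := hzt) (by omega)
  have h3 : n ≤ 11 := Lib.S1645Lift56.card_rest_le hI hI' (by omega) hz1 hz2 (htz := htz)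
    (by omega) (hzt := hzt) (by omega)
  have hkk : k = 1 := by omega
  subst hkk
  have h8 : 8 ≤ n := by
    have h := Finset.card_le_univ (π ⟨t, htz⟩).support
    rw [hk8, Fintype.card_fin] at h
    omega
  have hfused : Fused π := by
    rintro s ⟨-, hs, hsc⟩
    have hc : IsConj (⟨t, htz⟩ : ↥(centralizer ({z} : Set G))) ⟨s, hs⟩ :=
      S.cover.isConj_of_type hn (m := 4) (by omega) hk hsc
    exact (isConj_iff.2 ⟨g, ht.symm⟩ : IsConj z t).trans
      ((centralizer ({z} : Set G)).subtype.map_isConj hc)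
  rcases (show n = 8 ∨ n = 11 ∨ n = 9 ∨ n = 10 by omega) with h | h | h
  · exact Or.inl h
  · exact Or.inr (Or.inl h)
  · exact Or.inr (Or.inr ⟨h, hfused⟩)

end Cfsg.Agent.Lib.S1645
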