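import Cfsg.Prelude
import Mathlib

/-!
# S1645: interface

A simple group with an involution whose centraliser is a non-split double cover of `A_n` (route:
`notes/s1645_helper18.md`, `notes/s1645_helper25.md`).

Owner: helper25.
-/

set_option autoImplicit false

universe u v

namespace Cfsg.Agent.Lib.S1645

open Subgroup

/-- `π` makes `H` a non-split double cover of `A_n` with kernel `⟨z⟩`. -/
structure Cover {H : Type v} [Group H] (n : ℕ) (z : H) (π : H →* Equiv.Perm (Fin n)) : Prop where
  ord : orderOf z = 2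
  central : ∀ h, h * z = z * h
  map_z : π z = 1
  ker : ∀ h, π h = 1 → h = 1 ∨ h = z
  mem : ∀ h, π h ∈ alternatingGroup (Fin n)
  surj : ∀ σ ∈ alternatingGroup (Fin n), ∃ h, π h = σ
  nonsplit : ∀ M : Subgroup H, (∀ σ ∈ alternatingGroup (Fin n), ∃ h ∈ M, π h = σ) → z ∈ M

/-- The element `z` inside its centraliser. -/
def zC {G : Type u} [Group G] (z : G) : ↥(centralizer ({z} : Set G)) :=
  ⟨z, mem_centralizer_singleton_iff.2 rfl⟩

variable {G : Type u} [Group G] {n : ℕ} {z : G}

/-- The setting: the centraliser of `z` in the simple group `G` is a double cover of `A_n`. -/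
structure Setting (n : ℕ) (z : G) (π : ↥(centralizer ({z} : Set G)) →* Equiv.Perm (Fin n)) :
    Prop where
  simple : IsSimpleGroup G
  ord : orderOf z = 2
  cover : Cover n (zC z) π

/-- `t` is an involution of `C(z)` over a product of four transpositions. -/
def Type1 (π : ↥(centralizer ({z} : Set G)) →* Equiv.Perm (Fin n)) (t : G) : Prop :=
  orderOf t = 2 ∧ ∃ h : t ∈ centralizer ({z} : Set G),
    (π ⟨t, h⟩).cycleType = Multiset.replicate 4 2

/-- The involutions over four transpositions are conjugate to `z` in `G`. -/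
def Fused (π : ↥(centralizer ({z} : Set G)) →* Equiv.Perm (Fin n)) : Prop :=
  ∀ t : G, Type1 π t → IsConj z t

/-- The part of the note of helper18: only 8, 11, and fused 9, 10 remain. -/
def PropReduce : Prop :=
  ∀ (G : Type u) [Group G] [Finite G] (n : ℕ) (z : G)
    (π : ↥(centralizer ({z} : Set G)) →* Equiv.Perm (Fin n)), Setting n z π → 5 ≤ n →
      n = 8 ∨ n = 11 ∨ ((n = 9 ∨ n = 10) ∧ Fused π)

/-- The case `n = 9`. -/
def PropNine : Prop :=
  ∀ (G : Type u) [Group G] [Finite G] (z : G)
    (π : ↥(centralizer ({z} : Set G)) →* Equiv.Perm (Fin 9)), Setting 9 z π → Fused π → False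

/-- The case `n = 10`. -/
def PropTen : Prop :=
  ∀ (G : Type u) [Group G] [Finite G] (z : G)
    (π : ↥(centralizer ({z} : Set G)) →* Equiv.Perm (Fin 10)), Setting 10 z π → Fused π → False

/-- For `n = 10`: the centraliser `R` of an element over a product of two three-cycles. -/
structure TenLocal {R : Type u} [Group R] (z : R)
    (φ : ↥(centralizer ({z} : Set R)) →* Equiv.Perm (Fin 3)) : Prop where
  ord : orderOf z = 2
  card : Nat.card ↥(centralizer ({z} : Set R)) = 432
  two : ¬ 32 ∣ Nat.card R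
  three : ¬ 81 ∣ Nat.card R
  conj : ∀ v : R, orderOf v = 2 → IsConj z v
  surj : Function.Surjective φ
  ti : ∀ h k : ↥(centralizer ({z} : Set R)), orderOf (φ h) = 3 → orderOf (φ k) = 3 →
    ∀ g : R, g * (h : R) * g⁻¹ = k → g ∈ centralizer ({z} : Set R)
  pairs : Nat.card {p : ↥(centralizer ({z} : Set R)) × ↥(centralizer ({z} : Set R)) //
    orderOf p.1 = 2 ∧ orderOf p.2 = 2 ∧ orderOf (φ (p.1 * p.2)) = 3} = 864
  exp3 : ∀ u : R, u ^ 9 = 1 → u ^ 3 = 1
  cent3 : ∀ u : R, u ^ 3 = 1 → u ∈ Subgroup.center R ∨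
    ∃ v : R, orderOf v = 2 ∧ centralizer ({u} : Set R) ≤ centralizer ({v} : Set R)
  norm3 : ∀ P : Sylow 3 R, Nat.card ↥(normalizer ((P : Subgroup R) : Set R)) = 108

/-- No such group: one exceptional character and Sylow counting. -/
def PropTenLocal : Prop :=
  ∀ (R : Type u) [Group R] [Finite R] (z : R)
    (φ : ↥(centralizer ({z} : Set R)) →* Equiv.Perm (Fin 3)), TenLocal z φ → False

end Cfsg.Agent.Lib.S1645
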