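import Cfsg.Agent.Lib.ZStar.Elements
import Cfsg.Agent.Lib.ZStar.UniqueCase
import Cfsg.Agent.Lib.IsolatedInvolution.Basic
import Cfsg.Agent.Lib.OddTransp84.Core.Mean

/-!
# S1645: elementary lemmas on an involution which is the only one of its centraliser (helper2)
-/

set_option autoImplicit false
set_option linter.style.haveILetI false
set_option linter.unusedSectionVars false

universe u

namespace Cfsg.Agent.Lib.S1645

open Subgroup

variable {G : Type u} [Group G]

theorem sub_comm_mem {a b : G} : a ∈ centralizer ({b} : Set G) ↔ a * b = b * a :=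
  mem_centralizer_singleton_iff

theorem sq_one_of_order {z : G} (hz : orderOf z = 2) : z * z = 1 := by
  rw [← pow_two, ← hz, pow_orderOf_eq_one]

theorem order_two {u : G} (h : u * u = 1) (h1 : u ≠ 1) : orderOf u = 2 :=
  orderOf_eq_prime (by rw [pow_two, h]) h1

/-- Conjugation by an element. -/
theorem conj_mem_iff {z r : G} (hz : z * z = 1) : z * r * z⁻¹ = r⁻¹ ↔ z * r * z = r⁻¹ := by
  rw [inv_eq_of_mul_eq_one_right hz]

/-- The odd core of `Y`, in `G`. -/
noncomputable def ocore (Y : Subgroup G) : Subgroup G := (Cfsg.oddCore ↥Y).map Y.subtype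

theorem ocore_le (Y : Subgroup G) : ocore Y ≤ Y := map_subtype_le _

theorem ocore_normal {Y : Subgroup G} {y o : G} (hy : y ∈ Y) (ho : o ∈ ocore Y) :
    y * o * y⁻¹ ∈ ocore Y := by
  obtain ⟨o', ho', rfl⟩ := ho
  exact ⟨⟨y, hy⟩ * o' * ⟨y, hy⟩⁻¹,
    (Subgroup.normal_of_characteristic _).conj_mem o' ho' ⟨y, hy⟩, rfl⟩

/-- An element normalising `Y` normalises its odd core. -/
theorem ocore_conj {Y : Subgroup G} {g o : G} (hg : ∀ y ∈ Y, g * y * g⁻¹ ∈ Y)
    (hg' : ∀ y ∈ Y, g⁻¹ * y * g ∈ Y) (ho : o ∈ ocore Y) : g * o * g⁻¹ ∈ ocore Y := by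
  let φ : ↥Y ≃* ↥Y :=
    { toFun := fun y => ⟨g * y.1 * g⁻¹, hg _ y.2⟩
      invFun := fun y => ⟨g⁻¹ * y.1 * g, hg' _ y.2⟩
      left_inv := fun y => Subtype.ext (by group)
      right_inv := fun y => Subtype.ext (by group)
      map_mul' := fun a b => Subtype.ext (by simp [mul_assoc]) }
  obtain ⟨o', ho', rfl⟩ := ho
  refine ⟨φ o', ?_, rfl⟩
  have h : (Cfsg.oddCore ↥Y).comap φ.toMonoidHom = Cfsg.oddCore ↥Y :=
    (inferInstance : (Cfsg.oddCore ↥Y).Characteristic).fixed φ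
  rw [← h] at ho'
  exact ho'

variable [Finite G]

theorem ocore_odd (Y : Subgroup G) : Odd (Nat.card (ocore Y)) := by
  rw [ocore, Nat.card_congr (((Cfsg.oddCore ↥Y).equivMapOfInjective _ Y.subtype_injective).symm).toEquiv]
  exact Cfsg.Agent.Lib.ZStar.Elements.oddCore_odd

theorem odd_order_of_mem {K : Subgroup G} (hK : Odd (Nat.card K)) {k : G} (hk : k ∈ K) :
    Odd (orderOf k) :=
  hK.of_dvd_nat (Subgroup.orderOf_dvd_natCard K hk)

theorem le_ocore {Y N : Subgroup G} (hN : N ≤ Y) (hn : ∀ y ∈ Y, ∀ k ∈ N, y * k * y⁻¹ ∈ N)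
    (hodd : Odd (Nat.card N)) : N ≤ ocore Y := by
  haveI : (N.subgroupOf Y).Normal := ⟨fun k hk y => hn y.1 y.2 k.1 hk⟩
  have h := Cfsg.Agent.Lib.ZStar.Elements.le_oddCore (N := N.subgroupOf Y)
    (by rwa [Nat.card_congr (Subgroup.subgroupOfEquivOfLe hN).toEquiv])
  intro k hk
  exact ⟨⟨k, hN hk⟩, h hk, rfl⟩

/-- An element of odd order in the centre of `Y` lies in the odd core. -/
theorem central_mem_ocore {Y : Subgroup G} {c : G} (hc : c ∈ Y) (ho : Odd (orderOf c))
    (hcomm : ∀ y ∈ Y, y * c = c * y) : c ∈ ocore Y := by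
  refine le_ocore (N := zpowers c) (zpowers_le.2 hc) ?_ (by rwa [Nat.card_zpowers]) (mem_zpowers c)
  intro y hy k hk
  obtain ⟨i, rfl⟩ := mem_zpowers_iff.1 hk
  rw [((show Commute y c from hcomm y hy).zpow_right i).eq, mul_inv_cancel_right]
  exact zpow_mem (mem_zpowers c) i

/-- `z` is the only involution of `Y` commuting with `z`. -/
structure Solo (Y : Subgroup G) (z : G) : Prop where
  mem : z ∈ Y
  order : orderOf z = 2
  only : ∀ e ∈ Y, orderOf e = 2 → e * z = z * e → e = z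

namespace Solo

variable {Y : Subgroup G} {z : G}

theorem commutator_mem (h : Solo Y z) : ∀ g ∈ Y, z * g * z⁻¹ * g⁻¹ ∈ ocore Y := by
  classical
  haveI : Fact (Nat.Prime 2) := ⟨Nat.prime_two⟩
  set z' : ↥Y := ⟨z, h.mem⟩ with hz'
  have ho : orderOf z' = 2 := by rw [← Subgroup.orderOf_coe]; exact h.order
  have hp : IsPGroup 2 (zpowers z') :=
    IsPGroup.of_card (n := 1) (by rw [Nat.card_zpowers, ho, pow_one])
  obtain ⟨P, hzP⟩ := hp.exists_le_sylow
  have hzP' : z' ∈ (P : Subgroup Y) := hzP (mem_zpowers _)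
  haveI : Nontrivial (P : Subgroup Y) := ⟨⟨⟨z', hzP'⟩, 1, fun e => by
    have := congrArg (fun k => ((k : (P : Subgroup Y)) : ↥Y)) e
    simp only [OneMemClass.coe_one] at this
    rw [this, orderOf_one] at ho
    omega⟩⟩
  haveI := P.2.center_nontrivial
  obtain ⟨e, he⟩ : ∃ e : center (P : Subgroup Y), orderOf e = 2 := by
    obtain ⟨k, hk0, hk⟩ :=
      (P.2.to_subgroup (center (P : Subgroup Y))).nontrivial_iff_card.1 inferInstance
    exact exists_prime_orderOf_dvd_card' 2 (by rw [hk]; exact dvd_pow_self 2 hk0.ne')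
  have hec : ∀ p ∈ (P : Subgroup Y), p * (e.1 : ↥Y) = e.1 * p := fun p hp =>
    congrArg Subtype.val (mem_center_iff.1 e.2 ⟨p, hp⟩)
  have heq : ((e.1 : ↥Y) : G) = z := by
    refine h.only _ (e.1 : ↥Y).2 (by rw [Subgroup.orderOf_coe, Subgroup.orderOf_coe, Subgroup.orderOf_coe, he]) ?_
    exact (congrArg Subtype.val (hec z' hzP')).symm
  have hiso : ∀ g : ↥Y, g * z' * g⁻¹ ∈ P → g * z' * g⁻¹ = z' := by
    intro g hg
    refine Subtype.ext (h.only _ (g * z' * g⁻¹).2 ?_ ?_)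
    · rw [Subgroup.orderOf_coe, show g * z' * g⁻¹ = MulAut.conj g z' from rfl,
        (MulAut.conj g).orderOf_eq, ho]
    · have := congrArg Subtype.val (hec _ hg)
      simp only [Subgroup.coe_mul, heq] at this
      simpa using this
  obtain ⟨N, hN, hodd, hcomm⟩ := Cfsg.Agent.Lib.ZStar.UniqueCase.zstar P z' ho hzP' hiso
  haveI := hN
  intro g hg
  exact ⟨z' * ⟨g, hg⟩ * z'⁻¹ * ⟨g, hg⟩⁻¹,
    Cfsg.Agent.Lib.ZStar.Elements.le_oddCore hodd (hcomm ⟨g, hg⟩), rfl⟩

/-- An odd-order element inverted by `z` lies in the odd core. -/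
theorem inverted_mem (h : Solo Y z) {r : G} (hr : r ∈ Y) (ho : Odd (orderOf r))
    (hi : z * r * z⁻¹ = r⁻¹) : r ∈ ocore Y := by
  have h2 := h.commutator_mem r hr
  rw [hi] at h2
  obtain ⟨k, hk⟩ := ho
  have hrr : (r⁻¹ * r⁻¹) ^ k ∈ ocore Y := pow_mem h2 k
  have e : (r⁻¹ * r⁻¹) ^ k = r := by
    rw [← pow_two, ← pow_mul, inv_pow, inv_eq_iff_mul_eq_one, ← pow_succ, ← hk, pow_orderOf_eq_one]
  rwa [e] at hrr

/-- `Y = O(Y) C_Y(z)`. -/
theorem factor (h : Solo Y z) {g : G} (hg : g ∈ Y) :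
    ∃ o ∈ ocore Y, ∃ c ∈ Y, c * z = z * c ∧ g = o * c := by
  have hzz := sq_one_of_order h.order
  have hzi : z⁻¹ = z := inv_eq_of_mul_eq_one_right hzz
  set t := g * z * g⁻¹ with ht
  have htt : t * t = 1 := by
    rw [ht, show g * z * g⁻¹ * (g * z * g⁻¹) = g * (z * z) * g⁻¹ by group, hzz, mul_one,
      mul_inv_cancel]
  have hw : t * z ∈ ocore Y := by
    have h1 := inv_mem (h.commutator_mem g hg)
    have e : (z * g * z⁻¹ * g⁻¹)⁻¹ = t * z := by
      rw [ht, hzi]
      simp only [mul_inv_rev, inv_inv, hzi]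
      group
    rwa [e] at h1
  have hodd : Odd (orderOf (t * z)) := odd_order_of_mem (ocore_odd Y) hw
  set k := IsolatedInvolution.Basic.half t z with hk
  have hkO : k ∈ ocore Y :=
    zpowers_le.2 hw (IsolatedInvolution.Basic.half_mem_zpowers t z)
  refine ⟨k, hkO, k⁻¹ * g, mul_mem (inv_mem (ocore_le Y hkO)) hg, ?_, (mul_inv_cancel_left k g).symm⟩
  have hkc : k * z * k⁻¹ = g * z * g⁻¹ := IsolatedInvolution.Basic.half_conj htt hzz hodd
  calc k⁻¹ * g * z = k⁻¹ * (g * z * g⁻¹) * g := by group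
    _ = k⁻¹ * (k * z * k⁻¹) * g := by rw [hkc]
    _ = z * (k⁻¹ * g) := by group

end Solo

/-- The elements of `K` inverted by `z`. -/
def invSet (K : Subgroup G) (z : G) : Set G := {r | r ∈ K ∧ z * r * z⁻¹ = r⁻¹}

/-- `|K| = |C_K(z)| |inverted elements|` for `K` of odd order normalised by `z`. -/
theorem card_eq_mul_invSet {K : Subgroup G} (hK : Odd (Nat.card K)) {z : G} (hz : z * z = 1)
    (hzK : ∀ k ∈ K, z * k * z⁻¹ ∈ K) :
    Nat.card K = Nat.card ↥(K ⊓ centralizer ({z} : Set G)) * (invSet K z).ncard := by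
  have hS : OddTransp84.Core.SymSet (K : Set G) :=
    { odd := fun x hx => odd_order_of_mem hK hx
      inv := fun _ hx => inv_mem hx
      sqrt := fun _ hx => pow_mem hx _
      tri := fun _ hx _ hy => mul_mem (mul_mem hx hy) hx }
  have h := hS.ncard_eq (MulAut.conj z) (fun k hk => hzK k hk) (fun k _ => by
    show z * (z * k * z⁻¹) * z⁻¹ = k
    rw [inv_eq_of_mul_eq_one_right hz]
    simp only [mul_assoc, hz, mul_one]
    rw [← mul_assoc, hz, one_mul])
  rw [show Nat.card K = (K : Set G).ncard from Nat.card_coe_set_eq _, h]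
  congr 1
  refine (congrArg Set.ncard ?_).trans (Nat.card_coe_set_eq _).symm
  ext k
  simp only [Set.mem_ofPred_eq, SetLike.mem_coe, Subgroup.mem_inf, mem_centralizer_singleton_iff,
    MulAut.conj_apply, mul_inv_eq_iff_eq_mul]
  exact and_congr_right fun _ => eq_comm

/-- An element of order dividing three, cubing to one, is of odd order. -/
theorem odd_of_cube {r : G} (h : r ^ 3 = 1) : Odd (orderOf r) :=
  (by decide : Odd 3).of_dvd_nat (orderOf_dvd_of_pow_eq_one h)

end Cfsg.Agent.Lib.S1645
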