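import Cfsg.Agent.Lib.S1645.TenOrder

/-!
# S1645: the case `n = 10` (helper2)
-/

set_option autoImplicit false

universe u

namespace Cfsg.Agent.Lib.S1645

/-- The case `n = 10` does not occur. -/
theorem propTen : PropTen.{u} := by
  intro G _ _ z π S hF
  obtain ⟨F⟩ := Ten.exists_frame S hF
  obtain ⟨c⟩ := Ten.exists_conf F
  obtain ⟨r⟩ := Ten.exists_rot (c := c)
  exact r.contra

end Cfsg.Agent.Lib.S1645
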