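import Cfsg.Agent.Lib.S1645.Dict

/-!
# S1645, n = 10: the four-group, the element of order three in it and a rotation of it (helper2)
-/

set_option autoImplicit false
set_option linter.style.haveILetI false
set_option linter.unusedSectionVars false

universe u

namespace Cfsg.Agent.Lib.S1645.Ten

open Subgroup Equiv Equiv.Perm

/-- A permutation of ten points from its table and the table of its inverse. -/
def ofTable (f g : List (Fin 10)) (h1 : ∀ v : Fin 10, g.getD (f.getD v.val 0).val 0 = v := by decide +kernel)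
    (h2 : ∀ v : Fin 10, f.getD (g.getD v.val 0).val 0 = v := by decide +kernel) : Perm (Fin 10) :=
  ⟨fun v => f.getD v.val 0, fun v => g.getD v.val 0, h1, h2⟩

/-- The product of four transpositions. -/
def pT : Perm (Fin 10) :=
  ofTable [1, 0, 3, 2, 5, 4, 7, 6, 8, 9] [1, 0, 3, 2, 5, 4, 7, 6, 8, 9]
/-- A three-cycle. -/
def pY : Perm (Fin 10) :=
  ofTable [2, 1, 4, 3, 0, 5, 6, 7, 8, 9] [4, 1, 0, 3, 2, 5, 6, 7, 8, 9]
/-- A product of two three-cycles commuting with `pT`. -/
def pX : Perm (Fin 10) :=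
  ofTable [2, 3, 4, 5, 0, 1, 6, 7, 8, 9] [4, 5, 0, 1, 2, 3, 6, 7, 8, 9]
/-- A three-cycle on the remaining points. -/
def pD : Perm (Fin 10) :=
  ofTable [0, 1, 2, 3, 4, 5, 7, 8, 6, 9] [0, 1, 2, 3, 4, 5, 8, 6, 7, 9]
/-- A three-cycle on the remaining points. -/
def pD' : Perm (Fin 10) :=
  ofTable [0, 1, 2, 3, 4, 5, 7, 9, 8, 6] [0, 1, 2, 3, 4, 5, 9, 6, 8, 7]
/-- A double transposition on the remaining points. -/
def pS : Perm (Fin 10) :=
  ofTable [0, 1, 2, 3, 4, 5, 7, 6, 9, 8] [0, 1, 2, 3, 4, 5, 7, 6, 9, 8]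

theorem sign_facts : sign pT = 1 ∧ sign pY = 1 ∧ sign pX = 1 ∧ sign pD = 1 ∧ sign pD' = 1 ∧
    sign pS = 1 := by decide +kernel

theorem cube_facts : pY ^ 3 = 1 ∧ pX ^ 3 = 1 ∧ pD ^ 3 = 1 ∧ pD' ^ 3 = 1 := by decide +kernel

theorem comm_facts : pX * pT = pT * pX ∧ pY * pX = pX * pY ∧ pD * pY = pY * pD ∧
    pD * pX = pX * pD ∧ pS * pY = pY * pS ∧ pS * pX = pX * pS ∧ pS * pT = pT * pS := by
  decide +kernel

theorem type_T : pT.cycleType = Multiset.replicate 4 2 := by decide +kernel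

theorem type_X : pX.cycleType = {3, 3} := by decide +kernel

theorem odd_comm_X : sign (swap (6 : Fin 10) 7) = -1 ∧ swap (6 : Fin 10) 7 * pX = pX * swap 6 7 ∧
    swap (0 : Fin 10) 1 * pT = pT * swap 0 1 := by decide +kernel

/-- The centralisers in the alternating group. -/
theorem card_cent_X :
    Nat.card ↥(alternatingGroup (Fin 10) ⊓ centralizer ({pX} : Set (Perm (Fin 10)))) = 216 ∧
    Nat.card ↥(alternatingGroup (Fin 10) ⊓ centralizer ({pT} : Set (Perm (Fin 10)))) = 384 := by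
  have key : ∀ p e : Perm (Fin 10), sign e = -1 → e * p = p * e →
      Nat.card ↥(alternatingGroup (Fin 10) ⊓ centralizer ({p} : Set (Perm (Fin 10)))) * 2 =
        Nat.card ↥(centralizer ({p} : Set (Perm (Fin 10)))) := by
    intro p e he hep
    set C := centralizer ({p} : Set (Perm (Fin 10)))
    let f : ↥C →* ℤˣ := sign.comp C.subtype
    have hf : Function.Surjective f := by
      intro u
      rcases Int.units_eq_one_or u with rfl | rfl
      · exact ⟨1, map_one f⟩
      · exact ⟨⟨e, mem_centralizer_singleton_iff.2 hep⟩, he⟩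
    have h := f.ker.card_mul_index
    rw [index_ker, MonoidHom.range_eq_top.2 hf, card_top, Nat.card_eq_fintype_card (α := ℤˣ),
      Fintype.card_units_int] at h
    rw [← h]
    congr 1
    refine Nat.card_congr
      { toFun := fun q => ⟨⟨q.1, (mem_inf.1 q.2).2⟩, mem_alternatingGroup.1 (mem_inf.1 q.2).1⟩
        invFun := fun q => ⟨q.1.1, mem_inf.2 ⟨mem_alternatingGroup.2 q.2, q.1.2⟩⟩
        left_inv := fun q => rfl
        right_inv := fun q => rfl }
  constructor
  · have h := key pX _ odd_comm_X.1 odd_comm_X.2.1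
    rw [nat_card_centralizer, type_X] at h
    have e : ({3, 3} : Multiset ℕ).toFinset = {3} := by decide
    rw [e] at h
    generalize Nat.card ↥(alternatingGroup (Fin 10) ⊓ centralizer ({pX} : Set (Perm (Fin 10)))) = N at h ⊢
    norm_num [Nat.factorial] at h
    omega
  · have h := key pT (swap 0 1) (by decide +kernel) odd_comm_X.2.2
    rw [nat_card_centralizer, type_T] at h
    generalize Nat.card ↥(alternatingGroup (Fin 10) ⊓ centralizer ({pT} : Set (Perm (Fin 10)))) = N at h ⊢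
    norm_num [Nat.factorial] at h
    omega

/-- The data: `t`, the element `x` of order three centralised by `⟨z, t⟩`, and `g`. -/
structure Frame (G : Type u) [Group G] (z : G) where
  D : Dict G 10 z
  fused : ∀ {p : Perm (Fin 10)} {u : G}, D.R p u → orderOf u = 2 → u ≠ z → IsConj z u
  conjT : ∀ {p : Perm (Fin 10)} {u : G}, D.R p u → orderOf u = 2 → u ≠ z →
    ∀ {q : Perm (Fin 10)} {v : G}, D.R q v → orderOf v = 2 → v ≠ z →
      ∃ c, c * z = z * c ∧ c * u * c⁻¹ = v
  cardX : ∀ {x : G}, D.R pX x → Odd (orderOf x) →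
    Nat.card ↥(centralizer ({z} : Set G) ⊓ centralizer ({x} : Set G)) = 432
  cardT : ∀ {x : G}, D.R pT x →
    Nat.card ↥(centralizer ({z} : Set G) ⊓ centralizer ({x} : Set G)) = 384
  lift_T : ∀ {x : G}, D.R pT x → orderOf x = 2 ∧ x ≠ z

theorem exists_frame {G : Type u} [Group G] [Finite G] {z : G}
    {π : ↥(centralizer ({z} : Set G)) →* Perm (Fin 10)} (S : Setting 10 z π) (hF : Fused π) :
    Nonempty (Frame G z) := by
  obtain ⟨D, hR⟩ := exists_dict (by norm_num) S
  have hn : 5 ≤ 10 := by norm_num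
  have hsub : ∀ {p : Perm (Fin 10)} {u : G}, D.R p u → orderOf u = 2 → u ≠ z →
      p.cycleType = Multiset.replicate 4 2 := fun hu ho hne =>
    (D.involution_support (by norm_num) hu ho hne).1
  have hcardeq : ∀ {p : Perm (Fin 10)} {x : G} (hx : D.R p x),
      Nat.card ↥(centralizer ({z} : Set G) ⊓ centralizer ({x} : Set G)) =
      Nat.card ↥(centralizer ({(⟨x, ((hR p x).1 hx).1⟩ : ↥(centralizer ({z} : Set G)))} :
        Set ↥(centralizer ({z} : Set G)))) := by
    intro p x hx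
    refine Nat.card_congr
      { toFun := fun v => ⟨⟨v.1, (mem_inf.1 v.2).1⟩, ?_⟩
        invFun := fun v => ⟨v.1.1, mem_inf.2 ⟨v.1.2, ?_⟩⟩
        left_inv := fun v => rfl
        right_inv := fun v => rfl }
    · exact mem_centralizer_singleton_iff.2 (Subtype.ext (mem_centralizer_singleton_iff.1 (mem_inf.1 v.2).2))
    · exact mem_centralizer_singleton_iff.2 (congrArg Subtype.val (mem_centralizer_singleton_iff.1 v.2))
  refine ⟨{ D := D, fused := ?_, conjT := ?_, cardX := ?_, cardT := ?_, lift_T := ?_ }⟩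
  · intro p u hu ho hne
    obtain ⟨hm, he⟩ := (hR p u).1 hu
    exact hF u ⟨ho, hm, he ▸ hsub hu ho hne⟩
  · intro p u hu ho hne q v hv hvo hvne
    obtain ⟨hm, he⟩ := (hR p u).1 hu
    obtain ⟨hm', he'⟩ := (hR q v).1 hv
    obtain ⟨c, hc⟩ := isConj_iff.1 (S.cover.isConj_of_type hn (by norm_num : 2 ≤ 4)
      (x := ⟨u, hm⟩) (y := ⟨v, hm'⟩) (he ▸ hsub hu ho hne) (he' ▸ hsub hv hvo hvne))
    exact ⟨c.1, mem_centralizer_singleton_iff.1 c.2, congrArg Subtype.val hc⟩
  · intro x hx ho
    obtain ⟨hm, he⟩ := (hR pX x).1 hx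
    rw [hcardeq hx, S.cover.card_centralizer_of_odd hn
      (by rw [← Subgroup.orderOf_coe]; exact ho), he, card_cent_X.1]
  · intro x hx
    obtain ⟨hm, he⟩ := (hR pT x).1 hx
    rw [hcardeq hx, S.cover.card_centralizer_of_twist hn (by norm_num : 2 ≤ 4)
      (by rw [he, type_T]), he, card_cent_X.2]
  · intro x hx
    obtain ⟨hm, he⟩ := (hR pT x).1 hx
    obtain ⟨ho, hne⟩ := S.cover.orderOf_lift hn (g := ⟨x, hm⟩) (k := 1) le_rfl (by rw [he, type_T])
    exact ⟨by rw [← Subgroup.orderOf_coe] at ho; exact ho, fun h => hne (Subtype.ext h)⟩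

end Cfsg.Agent.Lib.S1645.Ten
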