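import Cfsg.Agent.Lib.S1645.TenBase

/-!
# S1645, n = 10: an element permuting `z`, `t`, `t z` cyclically and centralising `x` (helper2)
-/

set_option autoImplicit false
set_option linter.style.haveILetI false
set_option linter.unusedSectionVars false

universe u

namespace Cfsg.Agent.Lib.S1645.Ten

open Subgroup Equiv Equiv.Perm

variable {G : Type u} [Group G] [Finite G] {z : G}

/-- The chosen elements. -/
structure Conf (F : Frame G z) where
  t : G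
  x : G
  y : G
  d : G
  s : G
  g : G
  hT : F.D.R pT t
  hX : F.D.R pX x
  hY : F.D.R pY y
  hD : F.D.R pD d
  hS : F.D.R pS s
  x3 : x ^ 3 = 1
  y3 : y ^ 3 = 1
  d3 : d ^ 3 = 1
  t_sq : t * t = 1
  t_ne : t ≠ z
  s_t : s * t * s⁻¹ = t * z
  g_z : g * z * g⁻¹ = t
  g_t : g * t * g⁻¹ = t * z
  g_x : g * x = x * g

theorem conj_comm {a u v : G} (h : u * v = v * u) :
    a * u * a⁻¹ * (a * v * a⁻¹) = a * v * a⁻¹ * (a * u * a⁻¹) := by
  rw [show a * u * a⁻¹ * (a * v * a⁻¹) = a * (u * v) * a⁻¹ by group, h]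
  group

theorem orderOf_conj' (a u : G) : orderOf (a * u * a⁻¹) = orderOf u :=
  (MulAut.conj a).orderOf_eq u

theorem exists_conf (F : Frame G z) : Nonempty (Conf F) := by
  classical
  obtain ⟨hsT, hsY, hsX, hsD, -, hsS⟩ := sign_facts
  obtain ⟨hY3, hX3, hD3, -⟩ := cube_facts
  set D := F.D
  obtain ⟨x, hx, x3⟩ := D.exists_three hsX hX3
  obtain ⟨y, hy, y3⟩ := D.exists_three hsY hY3
  obtain ⟨d, hd, d3⟩ := D.exists_three hsD hD3
  obtain ⟨s, hs⟩ := D.surj hsS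
  obtain ⟨t, ht⟩ := D.surj hsT
  obtain ⟨hto, htz⟩ := F.lift_T ht
  have ht2 : t * t = 1 := sq_one_of_order hto
  have htzc : t * z = z * t := D.cen ht
  -- `s t s⁻¹ = t z`
  have hst : s * t * s⁻¹ = t * z := by
    obtain ⟨A, hA⟩ := D.surj (p := swap 0 1 * swap 2 3) (by decide +kernel)
    obtain ⟨B, hB⟩ := D.surj (p := swap 4 5 * swap 6 7) (by decide +kernel)
    have h1 : s * A = A * s := D.disj hs hA (by
      rw [disjoint_iff_disjoint_support]; decide +kernel)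
    have h2 : s * B * s⁻¹ = B * z := D.anti hB hs (by decide +kernel) (by decide +kernel)
      (by decide +kernel) (by decide +kernel)
    have h3 : s * (A * B) * s⁻¹ = A * B * z := by
      calc s * (A * B) * s⁻¹ = (s * A) * s⁻¹ * (s * B * s⁻¹) := by group
        _ = A * (B * z) := by rw [h1, h2, mul_inv_cancel_right]
        _ = A * B * z := (mul_assoc _ _ _).symm
    rcases D.eq_or (x := A * B) (y := t) (by
        have := D.mul hA hB
        rwa [show (swap 0 1 * swap 2 3 * (swap 4 5 * swap 6 7) : Perm (Fin 10)) = pT by decide +kernel] at this)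
      ht with e | e
    · rw [e, h3]
    · rw [e, show s * (A * B * z) * s⁻¹ = s * (A * B) * (z * s⁻¹) by group, ← D.cen (D.inv hs),
        show s * (A * B) * (s⁻¹ * z) = s * (A * B) * s⁻¹ * z by group, h3]
  -- swap `z` and `t`
  obtain ⟨h, hh⟩ := isConj_iff.1 (F.fused ht hto htz)
  -- h z h⁻¹ = t
  set t1 := h⁻¹ * z * h with ht1
  have ht1o : orderOf t1 = 2 := by
    rw [ht1, show h⁻¹ * z * h = h⁻¹ * z * (h⁻¹)⁻¹ by rw [inv_inv], orderOf_conj', D.orderOf_z]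
  have ht1c : t1 * z = z * t1 := by
    have hz : z = h⁻¹ * t * (h⁻¹)⁻¹ := by rw [← hh]; group
    conv_lhs => arg 2; rw [hz]
    conv_rhs => arg 1; rw [hz]
    rw [ht1, show h⁻¹ * z * h = h⁻¹ * z * (h⁻¹)⁻¹ by rw [inv_inv]]
    exact conj_comm (a := h⁻¹) htzc.symm
  have ht1z : t1 ≠ z := fun e => htz (by
    rw [← hh]
    conv_lhs => rw [← e]
    rw [ht1]; group)
  obtain ⟨p1, hp1⟩ := D.total ht1c
  obtain ⟨c, hcz, hc⟩ := F.conjT hp1 ht1o ht1z ht hto htz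
  set σ := c * h⁻¹ with hσ
  have hσt : σ * t * σ⁻¹ = z := by
    rw [hσ, show c * h⁻¹ * t * (c * h⁻¹)⁻¹ = c * (h⁻¹ * t * h) * c⁻¹ by group, ← hh,
      show c * (h⁻¹ * (h * z * h⁻¹) * h) * c⁻¹ = c * z * c⁻¹ by group, hcz, mul_inv_cancel_right]
  have hσz : σ * z * σ⁻¹ = t := by
    rw [hσ, show c * h⁻¹ * z * (c * h⁻¹)⁻¹ = c * (h⁻¹ * z * h) * c⁻¹ by group, ← ht1, hc]
  have hsz : s * z * s⁻¹ = z := by rw [D.cen hs, mul_inv_cancel_right]
  set g0 := σ * s with hg0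
  have hg0z : g0 * z * g0⁻¹ = t := by
    rw [hg0, show σ * s * z * (σ * s)⁻¹ = σ * (s * z * s⁻¹) * σ⁻¹ by group, hsz, hσz]
  have hg0t : g0 * t * g0⁻¹ = t * z := by
    rw [hg0, show σ * s * t * (σ * s)⁻¹ = σ * (s * t * s⁻¹) * σ⁻¹ by group, hst,
      show σ * (t * z) * σ⁻¹ = σ * t * σ⁻¹ * (σ * z * σ⁻¹) by group, hσt, hσz, htzc]
  have hxt : x * t = t * x := (D.odd_comm hx ht (odd_of_cube x3) comm_facts.1.symm).symm
  set CE := centralizer ({z} : Set G) ⊓ centralizer ({t} : Set G) with hCE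
  have hCEcard : Nat.card CE = 384 := F.cardT ht
  have hxCE : x ∈ CE :=
    mem_inf.2 ⟨mem_centralizer_singleton_iff.2 (D.cen hx), mem_centralizer_singleton_iff.2 hxt⟩
  have hzt : g0 * (t * z) * g0⁻¹ = z := by
    rw [show g0 * (t * z) * g0⁻¹ = g0 * t * g0⁻¹ * (g0 * z * g0⁻¹) by group, hg0t, hg0z, htzc,
      mul_assoc, ht2, mul_one]
  have hconjCE : g0 * x * g0⁻¹ ∈ CE := by
    obtain ⟨h1, h2⟩ := mem_inf.1 hxCE
    have e1 := mem_centralizer_singleton_iff.1 h1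
    have e2 := mem_centralizer_singleton_iff.1 h2
    have e3 : x * (t * z) = t * z * x := by rw [← mul_assoc, e2, mul_assoc, e1, ← mul_assoc]
    refine mem_inf.2 ⟨mem_centralizer_singleton_iff.2 ?_, mem_centralizer_singleton_iff.2 ?_⟩
    · conv_lhs => arg 2; rw [← hzt]
      conv_rhs => arg 1; rw [← hzt]
      exact conj_comm e3
    · rw [← hg0z]; exact conj_comm e1
  haveI : Fact (Nat.Prime 3) := ⟨Nat.prime_three⟩
  have hx1 : x ≠ 1 := fun e => by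
    have h1 : pX = 1 := D.func hx (e ▸ D.one)
    exact absurd h1 (by decide +kernel)
  have hfac : (384 : ℕ).factorization 3 = 1 := by
    rw [show (384 : ℕ) = 3 * 128 by norm_num, Nat.factorization_mul (by norm_num) (by norm_num),
      Finsupp.add_apply, Nat.prime_three.factorization_self,
      Nat.factorization_eq_zero_of_not_dvd (by norm_num : ¬ 3 ∣ 128)]
  have syl : ∀ u : CE, orderOf u = 3 → ∃ P : Sylow 3 CE, (P : Subgroup CE) = zpowers u := by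
    intro u hu
    exact ⟨Sylow.ofCard (zpowers u) (by rw [Nat.card_zpowers, hu, hCEcard, hfac, pow_one]), rfl⟩
  have ho3 : orderOf x = 3 := orderOf_eq_prime x3 hx1
  obtain ⟨P, hP⟩ := syl ⟨x, hxCE⟩ (by rw [← Subgroup.orderOf_coe]; exact ho3)
  obtain ⟨Q, hQ⟩ := syl ⟨_, hconjCE⟩ (by
    rw [← Subgroup.orderOf_coe]; exact (orderOf_conj' g0 x).trans ho3)
  obtain ⟨c', hc'⟩ := MulAction.exists_smul_eq CE Q P
  have hmem : (c'.1 * (g0 * x * g0⁻¹) * c'.1⁻¹) ∈ zpowers x := by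
    have h1 : MulAut.conj c' • (⟨_, hconjCE⟩ : CE) ∈ (P : Subgroup CE) := by
      rw [← hc', Sylow.coe_subgroup_smul]
      exact Subgroup.smul_mem_pointwise_smul _ _ _ (by rw [hQ]; exact mem_zpowers _)
    rw [hP] at h1
    obtain ⟨i, hi⟩ := mem_zpowers_iff.1 h1
    exact mem_zpowers_iff.2 ⟨i, congrArg Subtype.val hi⟩
  set g1 := c'.1 * g0 with hg1
  obtain ⟨hcz', hct'⟩ := mem_inf.1 c'.2
  have hfix : ∀ u, c'.1 * u = u * c'.1 → c'.1 * u * c'.1⁻¹ = u := fun u e => by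
    rw [e, mul_inv_cancel_right]
  have hg1z : g1 * z * g1⁻¹ = t := by
    rw [hg1, show c'.1 * g0 * z * (c'.1 * g0)⁻¹ = c'.1 * (g0 * z * g0⁻¹) * c'.1⁻¹ by group, hg0z]
    exact hfix _ (mem_centralizer_singleton_iff.1 hct')
  have hg1t : g1 * t * g1⁻¹ = t * z := by
    rw [hg1, show c'.1 * g0 * t * (c'.1 * g0)⁻¹ = c'.1 * (g0 * t * g0⁻¹) * c'.1⁻¹ by group, hg0t]
    refine hfix _ ?_
    rw [← mul_assoc, mem_centralizer_singleton_iff.1 hct', mul_assoc,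
      mem_centralizer_singleton_iff.1 hcz', ← mul_assoc]
  have hg1x : g1 * x * g1⁻¹ = x ∨ g1 * x * g1⁻¹ = x⁻¹ := by
    have hm : g1 * x * g1⁻¹ ∈ zpowers x := by
      rw [hg1, show c'.1 * g0 * x * (c'.1 * g0)⁻¹ = c'.1 * (g0 * x * g0⁻¹) * c'.1⁻¹ by group]
      exact hmem
    obtain ⟨i, hi⟩ := mem_zpowers_iff.1 hm
    have hne : g1 * x * g1⁻¹ ≠ 1 := fun e => hx1 (conj_eq_one_iff.1 e)
    rw [← zpow_mod_orderOf, ho3] at hi
    rcases (show i % (3 : ℕ) = 0 ∨ i % (3 : ℕ) = 1 ∨ i % (3 : ℕ) = 2 by omega) with e | e | e <;>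
      rw [e] at hi
    · exact absurd hi.symm (by simpa using hne)
    · exact Or.inl (by simpa using hi.symm)
    · refine Or.inr ?_
      rw [← hi, show (2 : ℤ) = ((2 : ℕ) : ℤ) from rfl, zpow_natCast, eq_comm]
      exact inv_eq_of_mul_eq_one_right (by rw [← pow_succ']; exact x3)
  have hg1tz : g1 * (t * z) * g1⁻¹ = z := by
    rw [show g1 * (t * z) * g1⁻¹ = g1 * t * g1⁻¹ * (g1 * z * g1⁻¹) by group, hg1t, hg1z, htzc,
      mul_assoc, ht2, mul_one]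
  refine ⟨⟨t, x, y, d, s, g1 * g1 * (g1 * g1), ht, hx, hy, hd, hs, x3, y3, d3, ht2, htz, hst, ?_, ?_, ?_⟩⟩
  · rw [show g1 * g1 * (g1 * g1) * z * (g1 * g1 * (g1 * g1))⁻¹ =
      g1 * (g1 * (g1 * (g1 * z * g1⁻¹) * g1⁻¹) * g1⁻¹) * g1⁻¹ by group, hg1z, hg1t, hg1tz, hg1z]
  · rw [show g1 * g1 * (g1 * g1) * t * (g1 * g1 * (g1 * g1))⁻¹ =
      g1 * (g1 * (g1 * (g1 * t * g1⁻¹) * g1⁻¹) * g1⁻¹) * g1⁻¹ by group, hg1t, hg1tz, hg1z, hg1t]
  · have h2 : g1 * (g1 * x * g1⁻¹) * g1⁻¹ = x := by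
      rcases hg1x with e | e
      · rw [e, e]
      · rw [e, show g1 * x⁻¹ * g1⁻¹ = (g1 * x * g1⁻¹)⁻¹ by group, e, inv_inv]
    refine mul_inv_eq_iff_eq_mul.1 ?_
    rw [show g1 * g1 * (g1 * g1) * x * (g1 * g1 * (g1 * g1))⁻¹ =
      g1 * (g1 * (g1 * (g1 * x * g1⁻¹) * g1⁻¹) * g1⁻¹) * g1⁻¹ by group, h2, h2]

end Cfsg.Agent.Lib.S1645.Ten
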