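import Cfsg.Agent.Lib.S1645.TenBase

/-!
# S1645, n = 10: facts on permutations of ten points (helper2)
-/

set_option autoImplicit false
set_option linter.style.haveILetI false
set_option linter.unusedSectionVars false
set_option maxHeartbeats 2000000

namespace Cfsg.Agent.Lib.S1645.Ten

open Equiv Equiv.Perm

/-- A three-cycle; `pX = pY * pC`. -/
def pC : Perm (Fin 10) :=
  ofTable [0, 3, 2, 5, 4, 1, 6, 7, 8, 9] [0, 5, 2, 1, 4, 3, 6, 7, 8, 9]
/-- A double transposition on the remaining points. -/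
def pJ : Perm (Fin 10) :=
  ofTable [0, 1, 2, 3, 4, 5, 8, 9, 6, 7] [0, 1, 2, 3, 4, 5, 8, 9, 6, 7]
/-- A transposition on the remaining points. -/
def pW : Perm (Fin 10) :=
  ofTable [0, 1, 2, 3, 4, 5, 7, 6, 8, 9] [0, 1, 2, 3, 4, 5, 7, 6, 8, 9]
/-- The double transpositions and three-cycles on the remaining points. -/
def rlist : List (Perm (Fin 10)) :=
  [1, pS, pJ, pS * pJ, pD, pS * pD, pJ * pD, pS * pJ * pD,
    pD * pD, pS * (pD * pD), pJ * (pD * pD), pS * pJ * (pD * pD)]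
/-- Conjugates `pC` to another three-cycle fixing `0, 2, 4`. -/
def pQ : Perm (Fin 10) :=
  ofTable [0, 1, 2, 3, 4, 6, 5, 8, 7, 9] [0, 1, 2, 3, 4, 6, 5, 8, 7, 9]
/-- Inverts `pX * pY⁻¹` and `pD`. -/
def pE : Perm (Fin 10) :=
  ofTable [0, 1, 2, 5, 4, 3, 6, 8, 7, 9] [0, 1, 2, 5, 4, 3, 6, 8, 7, 9]
/-- Four transpositions, inverting `pY`. -/
def pT' : Perm (Fin 10) :=
  ofTable [2, 3, 0, 1, 4, 6, 5, 8, 7, 9] [2, 3, 0, 1, 4, 6, 5, 8, 7, 9]

theorem apply_comm {p q : Perm (Fin 10)} (h : q * p = p * q) (a : Fin 10) : q (p a) = p (q a) :=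
  congrArg (fun r : Perm (Fin 10) => r a) h

theorem point_facts :
    (∀ v : Fin 10, pY v ≠ v → ∃ i : Fin 3, (pY ^ (i : ℕ)) 0 = v) ∧
    (∀ v : Fin 10, pX v ≠ v → pY v = v → ∃ j : Fin 3, (pC ^ (j : ℕ)) 1 = v) ∧
    (∀ v : Fin 10, pY v = v → pX v = v → ∃ k : Fin 4, v = ⟨6 + k, by omega⟩) := by decide +kernel

theorem forall_get {α : Type*} {l : List α} {P : α → Prop} (h : ∀ k : Fin l.length, P (l.get k)) :
    ∀ r ∈ l, P r := fun r hr => by
  obtain ⟨k, rfl⟩ := List.mem_iff_get.1 hr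
  exact h k

theorem rlist_all : ∀ v6 v7 v8 v9 : Fin 4,
    [v6, v7, v8, v9].Nodup → ∃ k : Fin (rlist ++ rlist.map (· * pW)).length,
      (rlist ++ rlist.map (· * pW)).get k 6 = ⟨6 + v6, by omega⟩ ∧
      (rlist ++ rlist.map (· * pW)).get k 7 = ⟨6 + v7, by omega⟩ ∧
      (rlist ++ rlist.map (· * pW)).get k 8 = ⟨6 + v8, by omega⟩ ∧
      (rlist ++ rlist.map (· * pW)).get k 9 = ⟨6 + v9, by omega⟩ := by
  decide +kernel

theorem gen_facts : ∀ g ∈ [pS, pJ, pD, pW],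
    g * pY = pY * g ∧ g * pC = pC * g ∧ g 0 = 0 ∧ g 1 = 1 :=
  forall_get (by decide +kernel)

theorem gen_sign : sign pS = 1 ∧ sign pJ = 1 ∧ sign pD = 1 ∧ sign (pW) = -1 := by
  decide +kernel

theorem r_facts : ∀ r ∈ rlist ++ rlist.map (· * pW),
    (r ∈ rlist ∨ sign r = -1) ∧ r * pY = pY * r ∧ r * pC = pC * r ∧ r 0 = 0 ∧ r 1 = 1 := by
  obtain ⟨sS, sJ, sD, sW⟩ := gen_sign
  let P : Perm (Fin 10) → Prop := fun r => r * pY = pY * r ∧ r * pC = pC * r ∧ r 0 = 0 ∧ r 1 = 1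
  have hmul : ∀ a b, P a → P b → P (a * b) := by
    rintro a b ⟨a1, a2, a3, a4⟩ ⟨b1, b2, b3, b4⟩
    exact ⟨((show Commute a pY from a1).mul_left b1).eq, ((show Commute a pC from a2).mul_left b2).eq,
      by rw [Perm.mul_apply, b3, a3], by rw [Perm.mul_apply, b4, a4]⟩
  have hS : P pS := gen_facts _ (by simp)
  have hJ : P pJ := gen_facts _ (by simp)
  have hD : P pD := gen_facts _ (by simp)
  have hW : P pW := gen_facts _ (by simp)
  have h1 : P 1 := ⟨rfl, rfl, rfl, rfl⟩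
  have key : ∀ r ∈ rlist, sign r = 1 ∧ P r := by
    intro r hr
    simp only [rlist, List.mem_cons, List.not_mem_nil, or_false] at hr
    rcases hr with rfl | rfl | rfl | rfl | rfl | rfl | rfl | rfl | rfl | rfl | rfl | rfl
    all_goals refine ⟨by simp [sS, sJ, sD], ?_⟩
    all_goals repeat' (first | exact h1 | exact hS | exact hJ | exact hD | apply hmul)
  intro r hr
  rcases List.mem_append.1 hr with h | h
  · exact ⟨Or.inl h, (key r h).2⟩
  · obtain ⟨r', hr', rfl⟩ := List.mem_map.1 h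
    exact ⟨Or.inr (by rw [map_mul, (key r' hr').1, sW, one_mul]), hmul _ _ (key r' hr').2 hW⟩

theorem c_facts : pC * pY = pY * pC ∧ pX = pY * pC ∧
    (∀ i j : Fin 3, (pY ^ (i : ℕ) * pC ^ (j : ℕ)) 0 = (pY ^ (i : ℕ)) 0 ∧
      (pY ^ (i : ℕ) * pC ^ (j : ℕ)) 1 = (pC ^ (j : ℕ)) 1 ∧
      (∀ k : Fin 4, (pY ^ (i : ℕ) * pC ^ (j : ℕ)) ⟨6 + k, by omega⟩ = ⟨6 + k, by omega⟩)) := by
  decide +kernel

theorem build_facts (i j : Fin 3) {r : Perm (Fin 10)}
    (hr : r ∈ rlist ++ rlist.map (· * pW)) {v6 v7 v8 v9 : Fin 4}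
    (r6 : r 6 = ⟨6 + v6, by omega⟩) (r7 : r 7 = ⟨6 + v7, by omega⟩)
    (r8 : r 8 = ⟨6 + v8, by omega⟩) (r9 : r 9 = ⟨6 + v9, by omega⟩) :
    let P := pY ^ (i : ℕ) * pC ^ (j : ℕ) * r
    (r ∈ rlist ∨ sign P = -1) ∧ P * pY = pY * P ∧ P * pX = pX * P ∧
      P 0 = (pY ^ (i : ℕ)) 0 ∧ P 1 = (pC ^ (j : ℕ)) 1 ∧
      P 6 = ⟨6 + v6, by omega⟩ ∧ P 7 = ⟨6 + v7, by omega⟩ ∧
      P 8 = ⟨6 + v8, by omega⟩ ∧ P 9 = ⟨6 + v9, by omega⟩ := by
  obtain ⟨hs, hY, hC, h0, h1⟩ := r_facts r hr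
  obtain ⟨hCY, hX, hc⟩ := c_facts
  have cY : Commute (pY ^ (i : ℕ) * pC ^ (j : ℕ) * r) pY :=
    (((Commute.refl pY).pow_left _).mul_left ((show Commute pC pY from hCY).pow_left _)).mul_left hY
  have cC : Commute (pY ^ (i : ℕ) * pC ^ (j : ℕ) * r) pC :=
    (((show Commute pY pC from hCY.symm).pow_left _).mul_left ((Commute.refl pC).pow_left _)).mul_left hC
  obtain ⟨k0, k1, k6⟩ := hc i j
  refine ⟨hs.imp_right fun e => ?_, cY.eq, by rw [hX]; exact (cY.mul_right cC).eq, ?_, ?_, ?_, ?_, ?_, ?_⟩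
  · obtain ⟨sY, sC⟩ : sign pY = 1 ∧ sign pC = 1 := by decide +kernel
    rw [map_mul, map_mul, map_pow, map_pow, sY, sC, e, one_pow, one_pow, one_mul, one_mul]
  · rw [Perm.mul_apply, h0, k0]
  · rw [Perm.mul_apply, h1, k1]
  · rw [Perm.mul_apply, r6, k6]
  · rw [Perm.mul_apply, r7, k6]
  · rw [Perm.mul_apply, r8, k6]
  · rw [Perm.mul_apply, r9, k6]

/-- The even permutations commuting with `pY` and `pX`. -/
theorem cent_two {q : Perm (Fin 10)} (hs : sign q = 1) (hy : q * pY = pY * q)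
    (hx : q * pX = pX * q) :
    ∃ i j : Fin 3, ∃ r ∈ rlist, q = pY ^ (i : ℕ) * pC ^ (j : ℕ) * r := by
  obtain ⟨h0, h1, h6⟩ := point_facts
  have fY : ∀ a, pY (q a) = q a ↔ pY a = a := fun a => by
    rw [← apply_comm hy a, q.injective.eq_iff]
  have fX : ∀ a, pX (q a) = q a ↔ pX a = a := fun a => by
    rw [← apply_comm hx a, q.injective.eq_iff]
  obtain ⟨i, hi⟩ := h0 (q 0) (fun e => absurd ((fY 0).1 e) (by decide +kernel))
  obtain ⟨j, hj⟩ := h1 (q 1) (fun e => absurd ((fX 1).1 e) (by decide +kernel))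
    ((fY 1).2 (by decide +kernel))
  obtain ⟨v6, e6⟩ := h6 (q 6) ((fY 6).2 (by decide +kernel)) ((fX 6).2 (by decide +kernel))
  obtain ⟨v7, e7⟩ := h6 (q 7) ((fY 7).2 (by decide +kernel)) ((fX 7).2 (by decide +kernel))
  obtain ⟨v8, e8⟩ := h6 (q 8) ((fY 8).2 (by decide +kernel)) ((fX 8).2 (by decide +kernel))
  obtain ⟨v9, e9⟩ := h6 (q 9) ((fY 9).2 (by decide +kernel)) ((fX 9).2 (by decide +kernel))
  have hne : ∀ {a b : Fin 10} {u v : Fin 4}, q a = ⟨6 + u, by omega⟩ → q b = ⟨6 + v, by omega⟩ →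
      a ≠ b → u ≠ v := fun ha hb hab e => hab (q.injective (by rw [ha, hb, e]))
  have hnd : [v6, v7, v8, v9].Nodup := by
    simp only [List.nodup_cons, List.mem_cons, List.not_mem_nil, List.nodup_nil, or_false,
      not_or, and_true, not_false_eq_true]
    exact ⟨⟨hne e6 e7 (by decide), hne e6 e8 (by decide), hne e6 e9 (by decide)⟩,
      ⟨hne e7 e8 (by decide), hne e7 e9 (by decide)⟩, hne e8 e9 (by decide)⟩
  obtain ⟨k, r6, r7, r8, r9⟩ := rlist_all v6 v7 v8 v9 hnd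
  obtain ⟨r, hrdef⟩ : ∃ r, r = (rlist ++ rlist.map (· * pW)).get k := ⟨_, rfl⟩
  have hr : r ∈ rlist ++ rlist.map (· * pW) := hrdef ▸ List.get_mem _ _
  rw [← hrdef] at r6 r7 r8 r9
  obtain ⟨hsgn, cY, cX, p0, p1, p6, p7, p8, p9⟩ := build_facts i j hr r6 r7 r8 r9
  set P := pY ^ (i : ℕ) * pC ^ (j : ℕ) * r with hP
  have b0 : P 0 = q 0 := by rw [p0, hi]
  have b1 : P 1 = q 1 := by rw [p1, hj]
  have step : ∀ {p : Perm (Fin 10)}, q * p = p * q → P * p = p * P → ∀ {a b : Fin 10},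
      p a = b → P a = q a → P b = q b := by
    intro p hq hP' a b hab ha
    rw [← hab, apply_comm hP', apply_comm hq, ha]
  have b2 : P 2 = q 2 := step hy cY (show pY 0 = 2 by decide +kernel) b0
  have b4 : P 4 = q 4 := step hy cY (show pY 2 = 4 by decide +kernel) b2
  have b3 : P 3 = q 3 := step hx cX (show pX 1 = 3 by decide +kernel) b1
  have b5 : P 5 = q 5 := step hx cX (show pX 3 = 5 by decide +kernel) b3
  have hPq : q = P := by
    refine Equiv.ext fun a => ?_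
    fin_cases a
    · exact b0.symm
    · exact b1.symm
    · exact b2.symm
    · exact b3.symm
    · exact b4.symm
    · exact b5.symm
    · exact (p6.trans e6.symm).symm
    · exact (p7.trans e7.symm).symm
    · exact (p8.trans e8.symm).symm
    · exact (p9.trans e9.symm).symm
  refine ⟨i, j, r, hsgn.resolve_right fun e => ?_, hPq⟩
  rw [← hPq, hs] at e
  exact absurd e (by decide)

theorem c_grid : ∀ i j : Fin 3,
    ∃ a b : Fin 3, pY ^ (i : ℕ) * pC ^ (j : ℕ) = pX ^ (a : ℕ) * pY ^ (b : ℕ) := by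
  decide +kernel

theorem small_facts : pS * pY = pY * pS ∧ pS * pC = pC * pS ∧ pY ^ 3 = 1 ∧ pC ^ 3 = 1 ∧
    pD * pY = pY * pD ∧ pD * pC = pC * pD := by
  decide +kernel

theorem r_core : ∀ r ∈ rlist, r = 1 ∨ (r ^ 6 = 1 ∧ r ^ 3 ≠ 1) ∨
    (pS * r * pS⁻¹ * r⁻¹ ≠ 1 ∧ (pS * r * pS⁻¹ * r⁻¹) ^ 2 = 1) :=
  forall_get (by decide +kernel)

theorem r_comm_D : ∀ r ∈ rlist, r * pD = pD * r → ∃ k : Fin 3, r = pD ^ (k : ℕ) :=
  forall_get (by decide +kernel)

theorem rlist_comm {r : Perm (Fin 10)} (hr : r ∈ rlist) (i j : Fin 3) :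
    Commute (pY ^ (i : ℕ) * pC ^ (j : ℕ)) r := by
  obtain ⟨-, hY, hC, -, -⟩ := r_facts r (List.mem_append_left _ hr)
  exact ((show Commute pY r from hY.symm).pow_left _).mul_left
    ((show Commute pC r from hC.symm).pow_left _)

/-- An element of odd order with commutator of odd order lies in `⟨pX, pY⟩`. -/
theorem core_facts (i j : Fin 3) {r : Perm (Fin 10)} (hr : r ∈ rlist) :
    let q := pY ^ (i : ℕ) * pC ^ (j : ℕ) * r
    (∃ a b : Fin 3, q = pX ^ (a : ℕ) * pY ^ (b : ℕ)) ∨ (q ^ 6 = 1 ∧ q ^ 3 ≠ 1) ∨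
      (pS * q * pS⁻¹ * q⁻¹ ≠ 1 ∧ (pS * q * pS⁻¹ * q⁻¹) ^ 2 = 1) := by
  have hgrid := c_grid
  have hr' := r_core
  obtain ⟨sY, sC, y3, c3, -, -⟩ := small_facts
  set c := pY ^ (i : ℕ) * pC ^ (j : ℕ) with hc
  have hcr : Commute c r := rlist_comm hr i j
  have hSc : Commute pS c := ((show Commute pS pY from sY).pow_right _).mul_right
    ((show Commute pS pC from sC).pow_right _)
  have c3' : c ^ 3 = 1 := by
    rw [hc, ((show Commute pY pC from c_facts.1.symm).pow_pow _ _).mul_pow, ← pow_mul, ← pow_mul,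
      mul_comm (i : ℕ), mul_comm (j : ℕ), pow_mul, pow_mul, y3, c3, one_pow, one_pow, one_mul]
  show _ ∨ ((c * r) ^ 6 = 1 ∧ (c * r) ^ 3 ≠ 1) ∨ _
  rcases hr' r hr with rfl | ⟨h6, h3⟩ | h
  · obtain ⟨a, b, e⟩ := hgrid i j
    exact Or.inl ⟨a, b, by rw [mul_one]; exact e⟩
  · refine Or.inr (Or.inl ?_)
    rw [hcr.mul_pow, hcr.mul_pow, show 6 = 3 * 2 by norm_num, pow_mul c, c3', one_pow, one_mul,
      one_mul]
    exact ⟨h6, h3⟩
  · refine Or.inr (Or.inr ?_)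
    have e : pS * (c * r) * pS⁻¹ * (c * r)⁻¹ = pS * r * pS⁻¹ * r⁻¹ := by
      calc pS * (c * r) * pS⁻¹ * (c * r)⁻¹ = pS * c * r * pS⁻¹ * r⁻¹ * c⁻¹ := by group
        _ = c * (pS * r * pS⁻¹ * r⁻¹) * c⁻¹ := by rw [hSc.eq]; group
        _ = _ := by
          have : Commute c (pS * r * pS⁻¹ * r⁻¹) :=
            ((hSc.symm.mul_right hcr).mul_right hSc.symm.inv_right).mul_right hcr.inv_right
          rw [this.eq, mul_inv_cancel_right]
    rw [e]
    exact h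

/-- The only even involution commuting with `pY`, `pX`, `pD` is trivial. -/
theorem cent_three (i j : Fin 3) {r : Perm (Fin 10)} (hr : r ∈ rlist)
    (hd : (pY ^ (i : ℕ) * pC ^ (j : ℕ) * r) * pD = pD * (pY ^ (i : ℕ) * pC ^ (j : ℕ) * r))
    (h2 : (pY ^ (i : ℕ) * pC ^ (j : ℕ) * r) * (pY ^ (i : ℕ) * pC ^ (j : ℕ) * r) = 1) :
    pY ^ (i : ℕ) * pC ^ (j : ℕ) * r = 1 := by
  have hrD := r_comm_D
  obtain ⟨-, -, y3, c3, dY, dC⟩ := small_facts
  set c := pY ^ (i : ℕ) * pC ^ (j : ℕ) with hc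
  have hDc : Commute pD c := ((show Commute pD pY from dY).pow_right _).mul_right
    ((show Commute pD pC from dC).pow_right _)
  obtain ⟨k, rfl⟩ := hrD r hr (by
    have e : c * (r * pD) = c * (pD * r) := by
      rw [← mul_assoc, hd, ← mul_assoc, hDc.eq, mul_assoc]
    exact mul_left_cancel e)
  have hcr : Commute c (pD ^ (k : ℕ)) := hDc.symm.pow_right _
  have c3' : c ^ 3 = 1 := by
    rw [hc, ((show Commute pY pC from c_facts.1.symm).pow_pow _ _).mul_pow, ← pow_mul, ← pow_mul,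
      mul_comm (i : ℕ), mul_comm (j : ℕ), pow_mul, pow_mul, y3, c3, one_pow, one_pow, one_mul]
  have d3 : (pD ^ (k : ℕ)) ^ 3 = 1 := by
    rw [← pow_mul, mul_comm, pow_mul, cube_facts.2.2.1, one_pow]
  have h3 : (c * pD ^ (k : ℕ)) ^ 3 = 1 := by rw [hcr.mul_pow, c3', d3, one_mul]
  rw [pow_succ, pow_two, h2, one_mul] at h3
  exact h3

theorem grid_facts :
    (∀ a b a' b' : Fin 3, pX ^ (a : ℕ) * pY ^ (b : ℕ) = pX ^ (a' : ℕ) * pY ^ (b' : ℕ) →
      a = a' ∧ b = b') ∧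
    (∀ a b : Fin 3, pX ^ (a : ℕ) * pY ^ (b : ℕ) * pT = pT * (pX ^ (a : ℕ) * pY ^ (b : ℕ)) → b = 0) ∧
    (∀ a b a' b' c c' : Fin 3, pX ^ (a : ℕ) * pY ^ (b : ℕ) * pD ^ (c : ℕ) =
      pX ^ (a' : ℕ) * pY ^ (b' : ℕ) * pD ^ (c' : ℕ) → (a, b, c) = (a', b', c')) := by
  decide +kernel

theorem misc_facts :
    sign pC = 1 ∧ sign pJ = 1 ∧ sign pQ = 1 ∧ sign pE = 1 ∧ sign pT' = 1 ∧
    pS.cycleType = {2, 2} ∧ pJ.cycleType = {2, 2} ∧ (pS * pJ).cycleType = {2, 2} ∧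
    pE.cycleType = {2, 2} ∧ pJ * pY = pY * pJ ∧ pQ * pY = pY * pQ ∧ pE * pY = pY * pE ∧
    pT'.cycleType = Multiset.replicate 4 2 ∧ pT' * pY * pT'⁻¹ = pY⁻¹ ∧
    pE * pX * pE⁻¹ = pY ^ 2 * pX⁻¹ ∧ pE * pD * pE⁻¹ = pD⁻¹ ∧
    (pD * (pS * pD * pS⁻¹)⁻¹).cycleType = {2, 2} ∧
    ((pX * (pQ * pX * pQ⁻¹)) ^ 3).cycleType = {2, 2} ∧
    ((pX * pY ^ 2) * (pQ * (pX * pY ^ 2) * pQ⁻¹)).cycleType = {2, 2} := by
  decide +kernel

/-- A permutation commuting with `pY` and an involution fixed-point-free on `6, 7, 8, 9`: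
its square commutes with `pC`. -/
theorem sq_comm_pC {q p : Perm (Fin 10)} (hp : ∀ v : Fin 10, (pY v = v ∧ p v = v) ↔ pC v ≠ v)
    (hy : q * pY = pY * q) (hq : q * p = p * q) : q * q * pC = pC * (q * q) := by
  have hpres : ∀ v, pC (q v) ≠ q v ↔ pC v ≠ v := by
    intro v
    rw [← hp, ← hp, ← apply_comm hy v, ← apply_comm hq v, q.injective.eq_iff, q.injective.eq_iff]
  have small : ∀ a b c : Fin 3, a ≠ b → a ≠ c → b ≠ c → ∀ i : Fin 3,
      (![a, b, c] : Fin 3 → Fin 3) ((![a, b, c] : Fin 3 → Fin 3) (i + 1)) =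
        (![a, b, c] : Fin 3 → Fin 3) ((![a, b, c] : Fin 3 → Fin 3) i) + 1 := by decide +kernel
  have pick : ∀ v : Fin 10, pC v ≠ v → ∃ a : Fin 3, (![1, 3, 5] : Fin 3 → Fin 10) a = v := by
    decide +kernel
  have hcyc : ∀ a : Fin 3, pC ((![1, 3, 5] : Fin 3 → Fin 10) a) =
      (![1, 3, 5] : Fin 3 → Fin 10) (a + 1) := by decide +kernel
  have hinj : ∀ a b : Fin 3, (![1, 3, 5] : Fin 3 → Fin 10) a = (![1, 3, 5] : Fin 3 → Fin 10) b → a = b := by
    decide +kernel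
  have hmoved : ∀ a : Fin 3, pC ((![1, 3, 5] : Fin 3 → Fin 10) a) ≠ (![1, 3, 5] : Fin 3 → Fin 10) a := by
    decide +kernel
  choose f hf using fun a : Fin 3 => pick _ ((hpres _).2 (hmoved a))
  have hfi : ∀ {a b : Fin 3}, a ≠ b → f a ≠ f b := fun hab e => hab (hinj _ _ (q.injective (by
    rw [← hf, ← hf, e])))
  have hfun : ∀ i, f i = (![f 0, f 1, f 2] : Fin 3 → Fin 3) i := by intro i; fin_cases i <;> rfl
  refine Equiv.ext fun v => ?_
  show q (q (pC v)) = pC (q (q v))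
  by_cases hv : pC v = v
  · rw [hv]
    by_contra hne
    exact (hpres v).1 ((hpres (q v)).1 (Ne.symm hne)) hv
  · obtain ⟨a, rfl⟩ := pick v hv
    rw [hcyc, ← hf, ← hf, ← hf a, ← hf (f a), hcyc]
    congr 1
    have := small (f 0) (f 1) (f 2) (hfi (by decide)) (hfi (by decide)) (hfi (by decide)) a
    rw [← hfun, ← hfun, ← hfun, ← hfun] at this
    exact this

theorem fix_facts :
    (∀ v : Fin 10, (pY v = v ∧ pS v = v) ↔ pC v ≠ v) ∧
    (∀ v : Fin 10, (pY v = v ∧ pJ v = v) ↔ pC v ≠ v) ∧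
    (∀ v : Fin 10, (pY v = v ∧ (pS * pJ) v = v) ↔ pC v ≠ v) ∧ pC = pX * pY⁻¹ := by
  decide +kernel

/-- An involution commuting with `pY` fixes its three points. -/
theorem support_le {p : Perm (Fin 10)} (hp : p * p = 1) (hy : p * pY = pY * p) :
    p.support.card ≤ 7 := by
  have h2 : ∀ a, p (p a) = a := fun a => congrArg (fun r : Perm (Fin 10) => r a) hp
  have hcases : ∀ v : Fin 10, pY v ≠ v → v = 0 ∨ v = 2 ∨ v = 4 := by decide +kernel
  have key : ∀ a b : Fin 10, pY a ≠ a → pY b ≠ b → b = a ∨ b = pY a ∨ b = pY (pY a) := by decide +kernel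
  have hne3 : ∀ a : Fin 10, pY a ≠ a → pY (pY a) ≠ a ∧ pY (pY (pY (pY a))) ≠ a := by decide +kernel
  have hfix : ∀ a : Fin 10, pY a ≠ a → p a = a := by
    intro a ha
    have hpa : pY (p a) ≠ p a := by rw [← apply_comm hy a]; exact fun e => ha (p.injective e)
    rcases key a (p a) ha hpa with e | e | e
    · exact e
    · exfalso
      refine (hne3 a ha).1 ?_
      conv_rhs => rw [← h2 a, e, apply_comm hy a, e]
    · exfalso
      refine (hne3 a ha).2 ?_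
      conv_rhs => rw [← h2 a, e, apply_comm hy, apply_comm hy, e]
  have hsub : p.support ⊆ ({1, 3, 5, 6, 7, 8, 9} : Finset (Fin 10)) := by
    intro a ha
    have hne : pY a = a := by_contra fun h => (mem_support.1 ha) (hfix a h)
    revert hne
    fin_cases a <;> decide +kernel
  exact (Finset.card_le_card hsub).trans (by decide)

end Cfsg.Agent.Lib.S1645.Ten
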