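import Cfsg.Agent.Lib.S1645.TenConf
import Cfsg.Agent.Lib.S1645.TenPerm
import Cfsg.Agent.Lib.Goldschmidt53.RankTwoBadBW

/-!
# S1645, n = 10: the odd core of the centraliser of a three-cycle (helper2)
-/

set_option autoImplicit false
set_option linter.style.haveILetI false
set_option linter.unusedSectionVars false

universe u

namespace Cfsg.Agent.Lib.S1645.Ten

open Subgroup Equiv Equiv.Perm

variable {G : Type u} [Group G] [Finite G] {z : G} {F : Frame G z} (c : Conf F)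

namespace Conf

/-- The odd core of `C(y)`. -/
noncomputable def K : Subgroup G := ocore (centralizer ({c.y} : Set G))

theorem yx : c.y * c.x = c.x * c.y :=
  F.D.odd_comm c.hX c.hY (odd_of_cube c.x3) comm_facts.2.1

theorem xz : c.x * z = z * c.x := F.D.cen c.hX

theorem yz : c.y * z = z * c.y := F.D.cen c.hY

theorem y_mem : c.y ∈ centralizer ({c.y} : Set G) := mem_centralizer_singleton_iff.2 rfl

theorem comm_of_mem {k : G} (hk : k ∈ c.K) : k * c.y = c.y * k :=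
  mem_centralizer_singleton_iff.1 (ocore_le _ hk)

theorem solo : Solo (centralizer ({c.y} : Set G)) z where
  mem := mem_centralizer_singleton_iff.2 c.yz.symm
  order := F.D.orderOf_z
  only e he ho hez := by
    by_contra hne
    obtain ⟨p, hp⟩ := F.D.total hez
    have h8 := (F.D.involution_support (by norm_num) hp ho hne).2
    have h7 := support_le (F.D.perm_sq hp (sq_one_of_order ho))
      (F.D.lift_comm hp c.hY (mem_centralizer_singleton_iff.1 he))
    omega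

theorem K_conj {a k : G} (ha : a * c.y = c.y * a) (hk : k ∈ c.K) : a * k * a⁻¹ ∈ c.K :=
  ocore_normal (mem_centralizer_singleton_iff.2 ha) hk

theorem K_odd : Odd (Nat.card c.K) := ocore_odd _

theorem y_mem_K : c.y ∈ c.K :=
  central_mem_ocore c.y_mem (odd_of_cube c.y3) fun _ h => mem_centralizer_singleton_iff.1 h

/-- An element of `C(z)` of odd order centralising `x` and `y`, with odd commutator with `s`. -/
theorem grid {u : G} (huz : u * z = z * u) (hux : u * c.x = c.x * u) (huy : u * c.y = c.y * u)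
    (ho : Odd (orderOf u)) (hcomm : Odd (orderOf (c.s * u * c.s⁻¹ * u⁻¹))) :
    ∃ a b : Fin 3, u = c.x ^ (a : ℕ) * c.y ^ (b : ℕ) := by
  obtain ⟨q, hq⟩ := F.D.total huz
  obtain ⟨i, j, r, hr, rfl⟩ := cent_two (F.D.even hq) (F.D.lift_comm hq c.hY huy)
    (F.D.lift_comm hq c.hX hux)
  have hodd : ∀ {p : Perm (Fin 10)} {v : G}, F.D.R p v → Odd (orderOf v) →
      ∀ k : ℕ, p ^ (2 * k) = 1 → p ^ k = 1 := by
    intro p v hv hv' k hk
    obtain ⟨m, hm⟩ := hv'
    have h1 : p ^ (2 * m + 1) = 1 := F.D.perm_pow_eq_one hv (by rw [← hm, pow_orderOf_eq_one])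
    have h2 : (p ^ k) ^ (2 * m + 1) = 1 := by rw [← pow_mul, mul_comm, pow_mul, h1, one_pow]
    rw [pow_succ, pow_mul, ← pow_mul p, mul_comm k 2, hk, one_pow, one_mul] at h2
    exact h2
  rcases core_facts i j hr with ⟨a, b, e⟩ | ⟨e6, e3⟩ | ⟨hne, hsq⟩
  · refine ⟨a, b, ?_⟩
    have hc : Commute c.x c.y := c.yx.symm
    refine F.D.odd_eq (x := c.x ^ (a : ℕ) * c.y ^ (b : ℕ)) (p := _) ?_ hq ?_ ho
    · rw [e]; exact F.D.mul (F.D.pow c.hX _) (F.D.pow c.hY _)
    · refine odd_of_cube ?_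
      rw [(hc.pow_pow _ _).mul_pow, ← pow_mul, ← pow_mul, mul_comm (a : ℕ), mul_comm (b : ℕ),
        pow_mul, pow_mul, c.x3, c.y3, one_pow, one_pow, one_mul]
  · exact absurd (hodd hq ho 3 e6) e3
  · exact absurd (by
      have := hodd (F.D.mul (F.D.mul (F.D.mul c.hS hq) (F.D.inv c.hS)) (F.D.inv hq)) hcomm 1
        (by rw [mul_one]; exact hsq)
      rwa [pow_one] at this) hne

/-- `C_K(z) ∩ C(x) = ⟨y⟩`. -/
theorem K_cent_x {k : G} (hk : k ∈ c.K) (hkz : k * z = z * k) (hkx : k * c.x = c.x * k) :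
    k ∈ zpowers c.y := by
  have hs : c.s * k * c.s⁻¹ * k⁻¹ ∈ c.K :=
    mul_mem (c.K_conj (F.D.odd_comm c.hY c.hS (odd_of_cube c.y3) comm_facts.2.2.2.2.1) hk) (inv_mem hk)
  obtain ⟨a, b, e⟩ := c.grid hkz hkx (c.comm_of_mem hk) (odd_order_of_mem c.K_odd hk)
    (odd_order_of_mem c.K_odd hs)
  by_cases ha : a = 0
  · rw [e, ha]
    simp [pow_mem (mem_zpowers c.y)]
  exfalso
  -- otherwise a lift of a double transposition lies in `K`
  have hxK : c.x ∈ c.K := by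
    have h1 : c.x ^ (a : ℕ) ∈ c.K := by
      have h2 := mul_mem hk (inv_mem (pow_mem c.y_mem_K (b : ℕ)))
      rwa [e, mul_inv_cancel_right] at h2
    have h2 := pow_mem h1 (a : ℕ)
    have hx1 : (c.x ^ (a : ℕ)) ^ (a : ℕ) = c.x := by
      rw [← pow_mul]
      have : a = 1 ∨ a = 2 :=
        (by decide : ∀ x : Fin 3, x ≠ 0 → x = 1 ∨ x = 2) a ha
      rcases this with rfl | rfl
      · simp
      · show c.x ^ (2 * 2) = c.x
        rw [show 2 * 2 = 3 + 1 by norm_num, pow_add, c.x3, one_mul, pow_one]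
    rwa [hx1] at h2
  obtain ⟨Q, hQ⟩ := F.D.surj misc_facts.2.2.1
  set w := c.x * c.y ^ 2 with hw
  have hwK : w ∈ c.K := mul_mem hxK (pow_mem c.y_mem_K 2)
  have hQy : Q * c.y = c.y * Q :=
    F.D.odd_comm c.hY hQ (odd_of_cube c.y3) misc_facts.2.2.2.2.2.2.2.2.2.2.1
  have hR := F.D.mul (F.D.mul c.hX (F.D.pow c.hY 2))
    (F.D.mul (F.D.mul hQ (F.D.mul c.hX (F.D.pow c.hY 2))) (F.D.inv hQ))
  have hmem : w * (Q * w * Q⁻¹) ∈ c.K := mul_mem hwK (c.K_conj hQy hwK)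
  have hsq := F.D.sq22 hR misc_facts.2.2.2.2.2.2.2.2.2.2.2.2.2.2.2.2.2.2
  have hz : z ∈ c.K := by
    have h2 := mul_mem hmem hmem
    simp only [hw] at h2
    simp only [hsq] at h2
    exact h2
  have := odd_order_of_mem c.K_odd hz
  rw [F.D.orderOf_z] at this
  exact absurd this (by decide)

/-- Two commuting automorphisms of order two of a group of odd order. -/
theorem fixed_of_klein {N : Subgroup G} (hN : Odd (Nat.card N)) {i j : G}
    (hiN : ∀ k ∈ N, i * k * i⁻¹ ∈ N) (hjN : ∀ k ∈ N, j * k * j⁻¹ ∈ N)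
    (hii : ∀ k ∈ N, i * i * k = k * (i * i)) (hjj : ∀ k ∈ N, j * j * k = k * (j * j))
    (hij : ∀ k ∈ N, i * j * k * (i * j)⁻¹ = j * i * k * (j * i)⁻¹)
    (h2 : ∀ k ∈ N, j * k * j⁻¹ = k → i * k * i⁻¹ = k)
    (h3 : ∀ k ∈ N, i * j * k * (i * j)⁻¹ = k → i * k * i⁻¹ = k) :
    ∀ k ∈ N, i * k * i⁻¹ = k := by
  have hS : OddTransp84.Core.SymSet (N : Set G) :=
    { odd := fun x hx => odd_order_of_mem hN hx
      inv := fun _ hx => inv_mem hx
      sqrt := fun _ hx => pow_mem hx _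
      tri := fun _ hx _ hy => mul_mem (mul_mem hx hy) hx }
  have inv_fix : ∀ k ∈ N, i * k * i⁻¹ = k → i * k * i⁻¹ = k⁻¹ → k = 1 := by
    intro k hk e1 e2
    rw [e1] at e2
    obtain ⟨m, hm⟩ := odd_order_of_mem hN hk
    have hk2 : k ^ 2 = 1 := by
      rw [pow_two]; nth_rw 1 [e2]; exact inv_mul_cancel k
    have := pow_orderOf_eq_one k
    rw [hm, pow_succ, pow_mul, hk2, one_pow, one_mul] at this
    exact this
  have hσσ : ∀ k ∈ (N : Set G), MulAut.conj i (MulAut.conj i k) = k := fun k hk => by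
    show i * (i * k * i⁻¹) * i⁻¹ = k
    rw [show i * (i * k * i⁻¹) * i⁻¹ = i * i * k * (i * i)⁻¹ by group, hii k hk, mul_inv_cancel_right]
  have hcount := hS.ncard_eq (MulAut.conj i) (fun k hk => hiN k hk) hσσ
  set J := {x | x ∈ (N : Set G) ∧ MulAut.conj i x = x⁻¹} with hJ
  have hτJ : ∀ k ∈ J, MulAut.conj j k ∈ J := by
    rintro k ⟨hk, e⟩
    refine ⟨hjN k hk, ?_⟩
    show i * (j * k * j⁻¹) * i⁻¹ = (j * k * j⁻¹)⁻¹
    rw [show i * (j * k * j⁻¹) * i⁻¹ = i * j * k * (i * j)⁻¹ by group, hij k hk,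
      show j * i * k * (j * i)⁻¹ = j * (i * k * i⁻¹) * j⁻¹ by group,
      show i * k * i⁻¹ = k⁻¹ from e]
    group
  have hττ : ∀ k ∈ J, MulAut.conj j (MulAut.conj j k) = k := fun k hk => by
    show j * (j * k * j⁻¹) * j⁻¹ = k
    rw [show j * (j * k * j⁻¹) * j⁻¹ = j * j * k * (j * j)⁻¹ by group, hjj k hk.1,
      mul_inv_cancel_right]
  have hJcount := (hS.inverted (MulAut.conj i)).ncard_eq (MulAut.conj j) hτJ hττ
  rw [← hJ] at hJcount
  have e1 : {x | x ∈ J ∧ MulAut.conj j x = x} = {1} := by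
    refine Set.eq_singleton_iff_unique_mem.2 ⟨⟨⟨one_mem N, by simp⟩, by simp⟩, ?_⟩
    rintro k ⟨⟨hk, e⟩, e'⟩
    exact inv_fix k hk (h2 k hk e') e
  have e2 : {x | x ∈ J ∧ MulAut.conj j x = x⁻¹} = {1} := by
    refine Set.eq_singleton_iff_unique_mem.2 ⟨⟨⟨one_mem N, by simp⟩, by simp⟩, ?_⟩
    rintro k ⟨⟨hk, e⟩, e'⟩
    refine inv_fix k hk (h3 k hk ?_) e
    rw [show i * j * k * (i * j)⁻¹ = i * (j * k * j⁻¹) * i⁻¹ by group,
      show j * k * j⁻¹ = k⁻¹ from e',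
      show i * k⁻¹ * i⁻¹ = (i * k * i⁻¹)⁻¹ by group, show i * k * i⁻¹ = k⁻¹ from e, inv_inv]
  rw [e1, e2, Set.ncard_singleton, mul_one] at hJcount
  rw [hJcount, mul_one] at hcount
  intro k hk
  have hfix : {x | x ∈ (N : Set G) ∧ MulAut.conj i x = x} = (N : Set G) :=
    Set.eq_of_subset_of_ncard_le (fun x hx => hx.1) hcount.le (Set.toFinite _)
  exact (hfix.ge hk).2

/-- `C_K(z) = ⟨y⟩`. -/
theorem K_cent {k : G} (hk : k ∈ c.K) (hkz : k * z = z * k) : k ∈ zpowers c.y := by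
  obtain ⟨-, sJ, -, -, -, tS, tJ, tSJ, -, cJY, -, -, -, -, -, -, -, -, -⟩ := misc_facts
  obtain ⟨J, hJ⟩ := F.D.surj sJ
  set I := c.s with hI
  set N := c.K ⊓ centralizer ({z} : Set G) with hN
  have hNodd : Odd (Nat.card N) := c.K_odd.of_dvd_nat (card_dvd_of_le inf_le_left)
  have hconjN : ∀ {p : Perm (Fin 10)} {a : G}, F.D.R p a → p * pY = pY * p → ∀ v ∈ N, a * v * a⁻¹ ∈ N := by
    intro p a ha hp v hv
    obtain ⟨h1, h2⟩ := mem_inf.1 hv
    refine mem_inf.2 ⟨c.K_conj (F.D.odd_comm c.hY ha (odd_of_cube c.y3) hp) h1,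
      mem_centralizer_singleton_iff.2 ?_⟩
    have hz : a * z * a⁻¹ = z := by rw [F.D.cen ha, mul_inv_cancel_right]
    conv_lhs => arg 2; rw [← hz]
    conv_rhs => arg 1; rw [← hz]
    exact conj_comm (mem_centralizer_singleton_iff.1 h2)
  have key : ∀ {p : Perm (Fin 10)} {a : G}, F.D.R p a →
      (∀ v : Fin 10, (pY v = v ∧ p v = v) ↔ pC v ≠ v) → ∀ v ∈ N, a * v * a⁻¹ = v →
      v ∈ zpowers c.y := by
    intro p a ha hp v hv hfix
    obtain ⟨h1, h2⟩ := mem_inf.1 hv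
    obtain ⟨q, hq⟩ := F.D.total (mem_centralizer_singleton_iff.1 h2)
    have hq2 := sq_comm_pC hp (F.D.lift_comm hq c.hY (c.comm_of_mem h1))
      (F.D.lift_comm hq ha (mul_inv_eq_iff_eq_mul.1 hfix).symm)
    obtain ⟨m, hm⟩ := odd_order_of_mem hNodd hv
    have hqn : q ^ (2 * m + 1) = 1 := F.D.perm_pow_eq_one hq (by rw [← hm, pow_orderOf_eq_one])
    have hqC : q * pC = pC * q := by
      have e : q = (q * q) ^ (m + 1) := by
        rw [← pow_two, ← pow_mul, show 2 * (m + 1) = 2 * m + 1 + 1 by ring, pow_succ, hqn, one_mul]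
      rw [e]; exact ((show Commute (q * q) pC from hq2).pow_left _).eq
    have hqX : q * pX = pX * q := by
      rw [c_facts.2.1]
      exact ((show Commute q pY from F.D.lift_comm hq c.hY (c.comm_of_mem h1)).mul_right hqC).eq
    exact c.K_cent_x h1 (mem_centralizer_singleton_iff.1 h2)
      (F.D.odd_comm c.hX hq (odd_of_cube c.x3) hqX)
  have hy_fix : ∀ {p : Perm (Fin 10)} {a : G}, F.D.R p a → p * pY = pY * p →
      ∀ v ∈ zpowers c.y, a * v * a⁻¹ = v := by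
    intro p a ha hp v hv
    obtain ⟨i, rfl⟩ := mem_zpowers_iff.1 hv
    rw [((show Commute a c.y from F.D.odd_comm c.hY ha (odd_of_cube c.y3) hp).zpow_right i).eq,
      mul_inv_cancel_right]
  have cSY : pS * pY = pY * pS := comm_facts.2.2.2.2.1
  obtain ⟨f1, f2, f3, -⟩ := fix_facts
  have hsq : ∀ {p : Perm (Fin 10)} {a : G}, F.D.R p a → p.cycleType = {2, 2} →
      ∀ v ∈ N, a * a * v = v * (a * a) := by
    intro p a ha hp v hv
    rw [F.D.sq22 ha hp]
    exact (mem_centralizer_singleton_iff.1 (mem_inf.1 hv).2).symm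
  have hall : ∀ v ∈ N, I * v * I⁻¹ = v := by
    refine fixed_of_klein hNodd (hconjN c.hS cSY) (hconjN hJ cJY) (hsq c.hS tS) (hsq hJ tJ) ?_ ?_ ?_
    · intro v hv
      have e := F.D.anti hJ c.hS tJ tS (by
        rw [show pJ * pS = pS * pJ by decide +kernel]; exact tSJ) (by decide +kernel)
      -- `I J = J I z`
      have e' : I * J = J * z * I := by rw [← e, hI]; group
      have hzJ : J * z * I = J * I * z := by rw [mul_assoc, ← F.D.cen c.hS, ← mul_assoc]
      rw [e', hzJ, show J * I * z * v * (J * I * z)⁻¹ = J * I * (z * v * z⁻¹) * (J * I)⁻¹ by group,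
        ← mem_centralizer_singleton_iff.1 (mem_inf.1 hv).2, mul_inv_cancel_right]
    · intro v hv e
      exact hy_fix c.hS cSY v (key hJ f2 v hv e)
    · intro v hv e
      exact hy_fix c.hS cSY v (key (F.D.mul c.hS hJ) f3 v hv e)
  have hkN : k ∈ N := mem_inf.2 ⟨hk, mem_centralizer_singleton_iff.2 hkz⟩
  exact key c.hS f1 k hkN (hall k hkN)

theorem y_ne_one : c.y ≠ 1 := fun e => by
  have h : pY = 1 := F.D.func c.hY (e ▸ F.D.one)
  exact absurd h (by decide +kernel)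

theorem card_y : Nat.card (zpowers c.y) = 3 := by
  rw [Nat.card_zpowers]
  exact orderOf_eq_prime c.y3 c.y_ne_one

theorem K_conj_z {k : G} (hk : k ∈ c.K) : z * k * z⁻¹ ∈ c.K := c.K_conj c.yz.symm hk

theorem y_zpow_z {e : G} (he : e ∈ zpowers c.y) : z * e * z⁻¹ = e := by
  obtain ⟨i, rfl⟩ := mem_zpowers_iff.1 he
  rw [((show Commute z c.y from c.yz.symm).zpow_right i).eq, mul_inv_cancel_right]

theorem y_zpow_comm {e k : G} (he : e ∈ zpowers c.y) (hk : k * c.y = c.y * k) : k * e = e * k := by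
  obtain ⟨i, rfl⟩ := mem_zpowers_iff.1 he
  exact ((show Commute k c.y from hk).zpow_right i).eq

/-- Every element of `K` is an inverted element times a power of `y`. -/
theorem split {k : G} (hk : k ∈ c.K) :
    ∃ m ∈ c.K, z * m * z⁻¹ = m⁻¹ ∧ ∃ e ∈ zpowers c.y, k = m * e := by
  have hzz := F.D.z_sq
  set u := k * z * k⁻¹ with hu
  have huu : u * u = 1 := by
    rw [hu, show k * z * k⁻¹ * (k * z * k⁻¹) = k * (z * z) * k⁻¹ by group, hzz, mul_one, mul_inv_cancel]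
  have hw : u * z ∈ c.K := by
    have h1 := mul_mem hk (c.K_conj_z (inv_mem hk))
    rwa [show k * (z * k⁻¹ * z⁻¹) = k * z * k⁻¹ * z⁻¹ by group, F.D.z_inv] at h1
  have hodd : Odd (orderOf (u * z)) := odd_order_of_mem c.K_odd hw
  set m := IsolatedInvolution.Basic.half u z with hm
  have hmK : m ∈ c.K := zpowers_le.2 hw (IsolatedInvolution.Basic.half_mem_zpowers u z)
  refine ⟨m, hmK, IsolatedInvolution.Basic.half_inverted huu hzz, m⁻¹ * k, ?_, (mul_inv_cancel_left m k).symm⟩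
  refine c.K_cent (mul_mem (inv_mem hmK) hk) ?_
  have hmc : m * z * m⁻¹ = k * z * k⁻¹ := IsolatedInvolution.Basic.half_conj huu hzz hodd
  calc m⁻¹ * k * z = m⁻¹ * (k * z * k⁻¹) * k := by group
    _ = m⁻¹ * (m * z * m⁻¹) * k := by rw [hmc]
    _ = z * (m⁻¹ * k) := by group

theorem sq_eq_one_of_y {e : G} (he : e ∈ zpowers c.y) (h : e * e = 1) : e = 1 := by
  obtain ⟨m, hm⟩ : Odd (orderOf e) := odd_order_of_mem c.K_odd (zpowers_le.2 c.y_mem_K he)
  have := pow_orderOf_eq_one e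
  rw [hm, pow_succ, pow_mul, pow_two, h, one_pow, one_mul] at this
  exact this

/-- The derived group of `K` lies in `⟨y⟩`. -/
theorem commutator_K {a b : G} (ha : a ∈ c.K) (hb : b ∈ c.K) :
    a * b * a⁻¹ * b⁻¹ ∈ zpowers c.y := by
  obtain ⟨m, hm, hmi, e, he, rfl⟩ := c.split ha
  obtain ⟨n, hn, hni, f, hf, rfl⟩ := c.split hb
  obtain ⟨w, hw, hwi, g, hg, hmn⟩ := c.split (mul_mem hm hn)
  have hgw : w * g = g * w := c.y_zpow_comm hg (c.comm_of_mem hw)
  have h1 : m⁻¹ * n⁻¹ = w⁻¹ * g := by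
    calc m⁻¹ * n⁻¹ = z * m * z⁻¹ * (z * n * z⁻¹) := by rw [hmi, hni]
      _ = z * (w * g) * z⁻¹ := by rw [← hmn]; group
      _ = z * w * z⁻¹ * (z * g * z⁻¹) := by group
      _ = w⁻¹ * g := by rw [hwi, c.y_zpow_z hg]
  have h2 : m * n * m⁻¹ * n⁻¹ = g * g := by
    rw [mul_assoc (m * n), h1, hmn, hgw]
    group
  have hem : ∀ v ∈ c.K, e * v = v * e := fun v hv => (c.y_zpow_comm he (c.comm_of_mem hv)).symm
  have hfm : ∀ v ∈ c.K, f * v = v * f := fun v hv => (c.y_zpow_comm hf (c.comm_of_mem hv)).symm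
  have hef : e * f = f * e := hem f (zpowers_le.2 c.y_mem_K hf)
  have : m * e * (n * f) * (m * e)⁻¹ * (n * f)⁻¹ = m * n * m⁻¹ * n⁻¹ := by
    calc m * e * (n * f) * (m * e)⁻¹ * (n * f)⁻¹
        = m * (e * n) * (f * e⁻¹) * m⁻¹ * f⁻¹ * n⁻¹ := by group
      _ = m * n * (e * f * e⁻¹) * m⁻¹ * f⁻¹ * n⁻¹ := by rw [hem n hn]; group
      _ = m * n * (f * m⁻¹) * f⁻¹ * n⁻¹ := by rw [hef, mul_inv_cancel_right]; group
      _ = m * n * m⁻¹ * n⁻¹ := by rw [hfm _ (inv_mem hm)]; group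
  rw [this, h2]
  exact mul_mem hg hg

/-- For `t'` inverting `y`, `C_K(t')` is inverted by `z`. -/
theorem inverted_of_centralize {t' k : G} (ht : t' * z = z * t') (hty : t' * c.y * t'⁻¹ = c.y⁻¹)
    (hk : k ∈ c.K) (hkt : k * t' = t' * k) : z * k * z⁻¹ = k⁻¹ := by
  obtain ⟨m, hm, hmi, e, he, rfl⟩ := c.split hk
  have hte : t' * e * t'⁻¹ = e⁻¹ := by
    obtain ⟨i, rfl⟩ := mem_zpowers_iff.1 he
    rw [← conj_zpow, hty, inv_zpow]
  set m' := t' * m * t'⁻¹ with hm'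
  have hmi' : z * m' * z⁻¹ = m'⁻¹ := by
    rw [hm', show z * (t' * m * t'⁻¹) * z⁻¹ = (z * t') * m * (z * t')⁻¹ by group, ← ht,
      show t' * z * m * (t' * z)⁻¹ = t' * (z * m * z⁻¹) * t'⁻¹ by group, hmi]
    group
  have h1 : m' * e⁻¹ = m * e := by
    rw [hm', ← hte, show t' * m * t'⁻¹ * (t' * e * t'⁻¹) = t' * (m * e) * t'⁻¹ by group, ← hkt,
      mul_inv_cancel_right]
  have hem : m * e = e * m := c.y_zpow_comm he (c.comm_of_mem hm)
  have h2 : m' = m * (e * e) := by rw [← mul_assoc, ← h1, inv_mul_cancel_right]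
  have h3 : e * e = 1 := by
    refine c.sq_eq_one_of_y (mul_mem he he) ?_
    have hz : z * (e * e) * z⁻¹ = e * e := c.y_zpow_z (mul_mem he he)
    have hc : m * (e * e) = e * e * m := by rw [← mul_assoc, hem, mul_assoc, hem, ← mul_assoc]
    have h4 := hmi'
    rw [h2, show z * (m * (e * e)) * z⁻¹ = z * m * z⁻¹ * (z * (e * e) * z⁻¹) by group, hmi, hz] at h4
    calc e * e * (e * e) = e * e * m * (m⁻¹ * (e * e)) := by group
      _ = 1 := by rw [h4, ← hc]; group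
  rw [c.sq_eq_one_of_y he h3, mul_one]
  exact hmi

end Conf

end Cfsg.Agent.Lib.S1645.Ten
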