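import Cfsg.Agent.Lib.S1645.TenPerm

/-!
# S1645, n = 10: Sylow 3-subgroups of `S₁₀` are not commutative (helper2)
-/

set_option autoImplicit false
set_option linter.style.haveILetI false
set_option linter.unusedSectionVars false

namespace Cfsg.Agent.Lib.S1645.Ten

open Subgroup Equiv Equiv.Perm

/-- Permutes the three three-cycles. -/
def pσ : Perm (Fin 10) := ofTable [1, 6, 3, 7, 5, 8, 0, 2, 4, 9] [6, 0, 7, 2, 8, 4, 1, 3, 5, 9]

theorem sigma_facts : pσ * pY * pσ⁻¹ = pC ∧ pσ * pC * pσ⁻¹ = pD ∧ pσ * pD * pσ⁻¹ = pY ∧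
    pσ ^ 3 = 1 ∧ pσ * pY ≠ pY * pσ ∧ pY * pC = pC * pY ∧ pY * pD = pD * pY ∧ pC * pD = pD * pC ∧
    pY ^ 3 = 1 ∧ pC ^ 3 = 1 ∧ pD ^ 3 = 1 := by decide +kernel

theorem not_dvd_of_comm (P : Subgroup (Perm (Fin 10)))
    (hP : ∀ a ∈ P, ∀ b ∈ P, a * b = b * a) : ¬ 81 ∣ Nat.card P := by
  classical
  intro h81
  haveI : Fact (Nat.Prime 3) := ⟨Nat.prime_three⟩
  obtain ⟨S₀, hS₀⟩ := Sylow.exists_subgroup_card_pow_prime (G := P) 3 (n := 4) h81
  set S₁ := S₀.map P.subtype with hS₁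
  have hS₁c : Nat.card S₁ = 81 := by
    rw [hS₁, Nat.card_congr (S₀.equivMapOfInjective _ P.subtype_injective).symm.toEquiv, hS₀]
    norm_num
  have hfac : (Nat.card (Perm (Fin 10))).factorization 3 = 4 := by
    rw [Nat.card_perm, Nat.card_fin, show Nat.factorial 10 = 3 ^ 4 * 44800 by decide +kernel,
      Nat.factorization_mul (by norm_num) (by norm_num), Finsupp.add_apply,
      Nat.prime_three.factorization_pow, Finsupp.single_eq_same,
      Nat.factorization_eq_zero_of_not_dvd (by norm_num : ¬ 3 ∣ 44800)]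
  let Q : Sylow 3 (Perm (Fin 10)) := Sylow.ofCard S₁ (by rw [hS₁c, hfac]; norm_num)
  have hQcomm : ∀ a ∈ (Q : Subgroup (Perm (Fin 10))), ∀ b ∈ (Q : Subgroup (Perm (Fin 10))),
      a * b = b * a := fun a ha b hb =>
    hP a (map_subtype_le _ ha) b (map_subtype_le _ hb)
  obtain ⟨h1, h2, h3, hσ3, hne, yc, yd, cd, y3, c3, d3⟩ := sigma_facts
  set T := closure ({pY, pC, pD} : Set (Perm (Fin 10))) with hT
  haveI hTc : IsMulCommutative T := isMulCommutative_closure (by
    rintro a (rfl | rfl | rfl) b (rfl | rfl | rfl) <;>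
      first | rfl | exact yc | exact yc.symm | exact yd | exact yd.symm | exact cd | exact cd.symm)
  have hTp : IsPGroup 3 T := by
    intro a
    refine ⟨1, Subtype.ext ?_⟩
    rw [pow_one, Subgroup.coe_pow, OneMemClass.coe_one]
    obtain ⟨a, ha⟩ := a
    induction ha using closure_induction with
    | mem a ha => rcases ha with rfl | rfl | rfl <;> assumption
    | one => exact one_pow 3
    | mul a b ha hb iha ihb =>
      have hab : Commute a b := congrArg Subtype.val (hTc.is_comm.comm ⟨a, ha⟩ ⟨b, hb⟩)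
      rw [hab.mul_pow, iha, ihb, one_mul]
    | inv a _ iha => rw [inv_pow, iha, inv_one]
  have hnorm : zpowers pσ ≤ normalizer (T : Set (Perm (Fin 10))) := by
    rw [zpowers_le]
    have hle : T ≤ T.comap (MulAut.conj pσ).toMonoidHom := by
      rw [hT, closure_le]
      rintro a (rfl | rfl | rfl)
      · show pσ * pY * pσ⁻¹ ∈ T; rw [h1]; exact subset_closure (by simp)
      · show pσ * pC * pσ⁻¹ ∈ T; rw [h2]; exact subset_closure (by simp)
      · show pσ * pD * pσ⁻¹ ∈ T; rw [h3]; exact subset_closure (by simp)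
    exact mem_normalizer_fintype fun a ha => hle ha
  have hσp : IsPGroup 3 (zpowers pσ) := IsPGroup.of_card (n := 1) (by
    rw [Nat.card_zpowers, pow_one]
    exact orderOf_eq_prime hσ3 fun e => hne (by rw [e, one_mul, mul_one]))
  obtain ⟨R, hR⟩ := (hσp.to_sup_of_normal_right' hTp hnorm).exists_le_sylow
  obtain ⟨g, hg⟩ := MulAction.exists_smul_eq (Perm (Fin 10)) R Q
  have mem : ∀ a ∈ zpowers pσ ⊔ T, g * a * g⁻¹ ∈ (Q : Subgroup (Perm (Fin 10))) := by
    intro a ha
    rw [← hg, Sylow.coe_subgroup_smul]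
    exact smul_mem_pointwise_smul a _ _ (hR ha)
  have hcm := hQcomm _ (mem pσ (mem_sup_left (mem_zpowers _))) _
    (mem pY (mem_sup_right (subset_closure (by simp))))
  refine hne (mul_left_cancel (a := g) (mul_right_cancel (b := g⁻¹) ?_))
  calc g * (pσ * pY) * g⁻¹ = g * pσ * g⁻¹ * (g * pY * g⁻¹) := by group
    _ = g * pY * g⁻¹ * (g * pσ * g⁻¹) := hcm
    _ = g * (pY * pσ) * g⁻¹ := by group

end Cfsg.Agent.Lib.S1645.Ten
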