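import Cfsg.Agent.Lib.S1645.TenCore
import Cfsg.Agent.Lib.S1645.TenSylow

/-!
# S1645, n = 10: `C(x) ∩ C(y) ≤ C(z)` and a Sylow 3-subgroup of `C(x)` (helper2)
-/

set_option autoImplicit false
set_option linter.style.haveILetI false
set_option linter.unusedSectionVars false

universe u

namespace Cfsg.Agent.Lib.S1645.Ten

open Subgroup Equiv Equiv.Perm

theorem dvd_mul_eight {a b : ℕ} (h : 3 ^ 8 ∣ a * b) (ha : ¬ 81 ∣ a) (hb : ¬ 81 ∣ b) : False := by
  rcases eq_or_ne a 0 with rfl | ha0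
  · exact ha (dvd_zero _)
  rcases eq_or_ne b 0 with rfl | hb0
  · exact hb (dvd_zero _)
  have h8 := (Nat.prime_three.pow_dvd_iff_le_factorization (mul_ne_zero ha0 hb0)).1 h
  rw [Nat.factorization_mul ha0 hb0, Finsupp.add_apply] at h8
  have h1 : ¬ 4 ≤ a.factorization 3 := fun h4 =>
    ha ((Nat.prime_three.pow_dvd_iff_le_factorization ha0).2 h4)
  have h2 : ¬ 4 ≤ b.factorization 3 := fun h4 =>
    hb ((Nat.prime_three.pow_dvd_iff_le_factorization hb0).2 h4)
  omega

theorem card_normal_mul {W : Type u} [Group W] [Finite W] (A B : Subgroup W) [A.Normal] :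
    Nat.card ↥(B ⊔ A : Subgroup W) * Nat.card ↥(A ⊓ B : Subgroup W) = Nat.card A * Nat.card B := by
  have h1 : Nat.card A * A.relIndex (B ⊔ A) = Nat.card ↥(B ⊔ A : Subgroup W) := by
    rw [← relIndex_bot_left, ← relIndex_bot_left, relIndex_mul_relIndex ⊥ A (B ⊔ A) bot_le le_sup_right]
  have h2 : Nat.card ↥(A ⊓ B : Subgroup W) * A.relIndex B = Nat.card B := by
    rw [← inf_relIndex_right A B, ← relIndex_bot_left, ← relIndex_bot_left,
      relIndex_mul_relIndex ⊥ (A ⊓ B) B bot_le inf_le_right]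
  rw [← h1, relIndex_sup_right, mul_assoc, mul_comm (A.relIndex B), h2]

variable {G : Type u} [Group G] [Finite G] {z : G} {F : Frame G z} (c : Conf F)

namespace Conf

theorem x_ne_one : c.x ≠ 1 := fun e => by
  have h : pX = 1 := F.D.func c.hX (e ▸ F.D.one)
  exact absurd h (by decide +kernel)

theorem card_x : Nat.card (zpowers c.x) = 3 := by
  rw [Nat.card_zpowers]
  exact orderOf_eq_prime c.x3 c.x_ne_one

theorem xt : c.x * c.t = c.t * c.x :=
  (F.D.odd_comm c.hX c.hT (odd_of_cube c.x3) comm_facts.1.symm).symm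

theorem tz : c.t * z = z * c.t := F.D.cen c.hT

theorem g_inv_z : c.g⁻¹ * c.t * c.g = z := by rw [← c.g_z]; group

/-- `|C(t) ∩ C(x)| = 432`. -/
theorem card_tx : Nat.card ↥(centralizer ({c.t} : Set G) ⊓ centralizer ({c.x} : Set G)) = 432 := by
  rw [← F.cardX c.hX (odd_of_cube c.x3)]
  have hx : c.g * c.x * c.g⁻¹ = c.x := by rw [c.g_x, mul_inv_cancel_right]
  have hx' : c.g⁻¹ * c.x * c.g = c.x := by rw [mul_assoc, ← c.g_x, inv_mul_cancel_left]
  have hz' : c.g⁻¹ * c.t * (c.g⁻¹)⁻¹ = z := by rw [inv_inv]; exact c.g_inv_z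
  refine Nat.card_congr
    { toFun := fun v => ⟨c.g⁻¹ * v.1 * c.g, ?_⟩
      invFun := fun v => ⟨c.g * v.1 * c.g⁻¹, ?_⟩
      left_inv := fun v => Subtype.ext (by group)
      right_inv := fun v => Subtype.ext (by group) }
  · obtain ⟨h1, h2⟩ := mem_inf.1 v.2
    refine mem_inf.2 ⟨mem_centralizer_singleton_iff.2 ?_, mem_centralizer_singleton_iff.2 ?_⟩
    · have := conj_comm (a := c.g⁻¹) (mem_centralizer_singleton_iff.1 h1)
      rw [hz', inv_inv] at this
      exact this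
    · have := conj_comm (a := c.g⁻¹) (mem_centralizer_singleton_iff.1 h2)
      rw [inv_inv, hx'] at this
      exact this
  · obtain ⟨h1, h2⟩ := mem_inf.1 v.2
    refine mem_inf.2 ⟨mem_centralizer_singleton_iff.2 ?_, mem_centralizer_singleton_iff.2 ?_⟩
    · have := conj_comm (a := c.g) (mem_centralizer_singleton_iff.1 h1)
      rw [c.g_z] at this
      exact this
    · have := conj_comm (a := c.g) (mem_centralizer_singleton_iff.1 h2)
      rw [hx] at this
      exact this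

/-- `C(x) ∩ C(y)`. -/
def Y : Subgroup G := centralizer ({c.x} : Set G) ⊓ centralizer ({c.y} : Set G)

theorem mem_Y {u : G} : u ∈ c.Y ↔ u * c.x = c.x * u ∧ u * c.y = c.y * u := by
  rw [Y, mem_inf, mem_centralizer_singleton_iff, mem_centralizer_singleton_iff]

theorem solo_Y : Solo c.Y z where
  mem := c.mem_Y.2 ⟨c.xz.symm, c.yz.symm⟩
  order := F.D.orderOf_z
  only e he ho hez :=
    c.solo.only e (mem_centralizer_singleton_iff.2 (c.mem_Y.1 he).2) ho hez

theorem s_mem : c.s ∈ c.Y :=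
  c.mem_Y.2 ⟨F.D.odd_comm c.hX c.hS (odd_of_cube c.x3) comm_facts.2.2.2.2.2.1,
    F.D.odd_comm c.hY c.hS (odd_of_cube c.y3) comm_facts.2.2.2.2.1⟩

theorem x_mem_O : c.x ∈ ocore c.Y :=
  central_mem_ocore (c.mem_Y.2 ⟨rfl, c.yx.symm⟩) (odd_of_cube c.x3) fun _ h => (c.mem_Y.1 h).1

theorem y_mem_O : c.y ∈ ocore c.Y :=
  central_mem_ocore (c.mem_Y.2 ⟨c.yx, rfl⟩) (odd_of_cube c.y3) fun _ h => (c.mem_Y.1 h).2

theorem grid_of_O {u : G} (hu : u ∈ ocore c.Y) (huz : u * z = z * u) :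
    ∃ a b : Fin 3, u = c.x ^ (a : ℕ) * c.y ^ (b : ℕ) :=
  c.grid huz (c.mem_Y.1 (ocore_le _ hu)).1 (c.mem_Y.1 (ocore_le _ hu)).2
    (odd_order_of_mem (ocore_odd _) hu)
    (odd_order_of_mem (ocore_odd _) (mul_mem (ocore_normal c.s_mem hu) (inv_mem hu)))

theorem card_O_z : Nat.card ↥(ocore c.Y ⊓ centralizer ({z} : Set G)) = 9 := by
  have hc : ∀ p : Fin 3 × Fin 3, c.x ^ (p.1 : ℕ) * c.y ^ (p.2 : ℕ) ∈ ocore c.Y ⊓ centralizer ({z} : Set G) :=
    fun p => mem_inf.2 ⟨mul_mem (pow_mem c.x_mem_O _) (pow_mem c.y_mem_O _),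
      mem_centralizer_singleton_iff.2 (F.D.cen (F.D.mul (F.D.pow c.hX _) (F.D.pow c.hY _)))⟩
  rw [← Nat.card_eq_of_bijective (fun p : Fin 3 × Fin 3 => (⟨_, hc p⟩ : ↥(ocore c.Y ⊓ centralizer ({z} : Set G)))) ?_]
  · simp
  constructor
  · intro p p' e
    have h1 := congrArg Subtype.val e
    simp only at h1
    obtain ⟨e1, e2⟩ := grid_facts.1 _ _ _ _ (F.D.func (F.D.mul (F.D.pow c.hX _) (F.D.pow c.hY _))
      (h1 ▸ F.D.mul (F.D.pow c.hX _) (F.D.pow c.hY _)))
    first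
      | exact Prod.ext e1 e2
      | exact Prod.ext e1.symm e2.symm
  · rintro ⟨u, hu⟩
    obtain ⟨a, b, rfl⟩ := c.grid_of_O (mem_inf.1 hu).1 (mem_centralizer_singleton_iff.1 (mem_inf.1 hu).2)
    exact ⟨(a, b), rfl⟩

theorem card_O_zt :
    Nat.card ↥(ocore c.Y ⊓ centralizer ({z} : Set G) ⊓ centralizer ({c.t} : Set G)) = 3 := by
  rw [← c.card_x]
  congr 1
  suffices h : ocore c.Y ⊓ centralizer ({z} : Set G) ⊓ centralizer ({c.t} : Set G) = zpowers c.x by
    rw [h]
  refine le_antisymm ?_ (zpowers_le.2 (mem_inf.2 ⟨mem_inf.2 ⟨c.x_mem_O,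
    mem_centralizer_singleton_iff.2 c.xz⟩, mem_centralizer_singleton_iff.2 c.xt⟩))
  intro u hu
  obtain ⟨h12, h3⟩ := mem_inf.1 hu
  obtain ⟨h1, h2⟩ := mem_inf.1 h12
  obtain ⟨a, b, rfl⟩ := c.grid_of_O h1 (mem_centralizer_singleton_iff.1 h2)
  have hb := grid_facts.2.1 a b (F.D.lift_comm (F.D.mul (F.D.pow c.hX _) (F.D.pow c.hY _)) c.hT
    (mem_centralizer_singleton_iff.1 h3))
  rw [hb]
  simp [pow_mem (mem_zpowers c.x)]

/-- `C_K(x)`. -/
noncomputable def H : Subgroup G := c.K ⊓ centralizer ({c.x} : Set G)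

theorem mem_H {u : G} : u ∈ c.H ↔ u ∈ c.K ∧ u * c.x = c.x * u := by
  rw [H, mem_inf, mem_centralizer_singleton_iff]

theorem H_conj_z {k : G} (hk : k ∈ c.H) : z * k * z⁻¹ ∈ c.H := by
  obtain ⟨h1, h2⟩ := c.mem_H.1 hk
  refine c.mem_H.2 ⟨c.K_conj_z h1, ?_⟩
  have := conj_comm (a := z) h2
  rwa [show z * c.x * z⁻¹ = c.x by rw [← c.xz, mul_inv_cancel_right]] at this

theorem y_mem_H : c.y ∈ c.H := c.mem_H.2 ⟨c.y_mem_K, c.yx⟩

theorem H_z : c.H ⊓ centralizer ({z} : Set G) = zpowers c.y := by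
  refine le_antisymm ?_ (zpowers_le.2 (mem_inf.2 ⟨c.y_mem_H, mem_centralizer_singleton_iff.2 c.yz⟩))
  intro u hu
  obtain ⟨h1, h2⟩ := mem_inf.1 hu
  exact c.K_cent (c.mem_H.1 h1).1 (mem_centralizer_singleton_iff.1 h2)

theorem invSet_eq : invSet c.H z = invSet (ocore c.Y) z := by
  ext r
  constructor
  · rintro ⟨hr, hi⟩
    obtain ⟨h1, h2⟩ := c.mem_H.1 hr
    exact ⟨c.solo_Y.inverted_mem (c.mem_Y.2 ⟨h2, c.comm_of_mem h1⟩) (odd_order_of_mem c.K_odd h1) hi, hi⟩
  · rintro ⟨hr, hi⟩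
    obtain ⟨h1, h2⟩ := c.mem_Y.1 (ocore_le _ hr)
    exact ⟨c.mem_H.2 ⟨c.solo.inverted_mem (mem_centralizer_singleton_iff.2 h2)
      (odd_order_of_mem (ocore_odd _) hr) hi, h1⟩, hi⟩

theorem card_H : Nat.card c.H = 3 * (invSet c.H z).ncard := by
  rw [card_eq_mul_invSet (K := c.H) (c.K_odd.of_dvd_nat (card_dvd_of_le inf_le_left)) F.D.z_sq
    (fun k hk => c.H_conj_z hk), c.H_z, c.card_y]

/-- The number of inverted elements is `m² / 9`. -/
theorem count : ∃ m, m ∣ 27 ∧ 9 * (invSet c.H z).ncard = m * m := by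
  set O := ocore c.Y with hO
  have hzO : ∀ k ∈ O, z * k * z⁻¹ ∈ O := fun k hk => ocore_normal c.solo_Y.mem hk
  have htY : ∀ u ∈ c.Y, c.t * u * c.t⁻¹ ∈ c.Y := by
    intro u hu
    obtain ⟨h1, h2⟩ := c.mem_Y.1 hu
    have htx : c.t * c.x * c.t⁻¹ = c.x := by rw [← c.xt, mul_inv_cancel_right]
    have hty : c.t * c.y * c.t⁻¹ = c.x * c.y⁻¹ := by
      refine F.D.odd_conj c.hY (F.D.mul c.hX (F.D.inv c.hY)) c.hT (odd_of_cube c.y3) ?_ (by decide +kernel)
      refine odd_of_cube ?_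
      rw [(show Commute c.x c.y⁻¹ from (Commute.inv_right c.yx.symm)).mul_pow, c.x3, inv_pow, c.y3]
      simp
    refine c.mem_Y.2 ⟨?_, ?_⟩
    · have := conj_comm (a := c.t) h1; rwa [htx] at this
    · have h3 := conj_comm (a := c.t) h2
      rw [hty] at h3
      have h4 : Commute (c.t * u * c.t⁻¹) c.x := by
        have := conj_comm (a := c.t) h1; rwa [htx] at this
      have h5 : Commute (c.t * u * c.t⁻¹) (c.x * c.y⁻¹) := h3
      have h6 := (h5.inv_right.mul_right h4)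
      rw [mul_inv_rev, inv_inv, inv_mul_cancel_right] at h6
      exact h6.eq
  have htinv : c.t⁻¹ = c.t := inv_eq_of_mul_eq_one_right c.t_sq
  have htO : ∀ k ∈ O, c.t * k * c.t⁻¹ ∈ O := fun k hk =>
    ocore_conj htY (fun u hu => by
      have := htY u hu
      rwa [htinv] at this ⊢) hk
  have hbw := Goldschmidt53.RankTwoBad.brauer_wielandt O (ocore_odd _) F.D.z_sq c.t_sq c.tz.symm hzO htO
  rw [c.card_O_z, c.card_O_zt] at hbw
  have hsO : ∀ k ∈ O, c.s * k * c.s⁻¹ ∈ O := fun k hk => ocore_normal c.s_mem hk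
  have hst : c.s * c.t * c.s⁻¹ = z * c.t := by rw [c.s_t, c.tz]
  have heq : Nat.card ↥(O ⊓ centralizer ({z * c.t} : Set G)) = Nat.card ↥(O ⊓ centralizer ({c.t} : Set G)) := by
    refine Nat.card_congr
      { toFun := fun v => ⟨c.s⁻¹ * v.1 * c.s, ?_⟩
        invFun := fun v => ⟨c.s * v.1 * c.s⁻¹, ?_⟩
        left_inv := fun v => Subtype.ext (by group)
        right_inv := fun v => Subtype.ext (by group) }
    · obtain ⟨h1, h2⟩ := mem_inf.1 v.2
      refine mem_inf.2 ⟨?_, mem_centralizer_singleton_iff.2 ?_⟩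
      · simpa using ocore_normal (inv_mem c.s_mem) h1
      · have := conj_comm (a := c.s⁻¹) (mem_centralizer_singleton_iff.1 h2)
        have hs2 : c.s⁻¹ * (z * c.t) * c.s = c.t := by rw [← hst]; group
        rwa [inv_inv, hs2] at this
    · obtain ⟨h1, h2⟩ := mem_inf.1 v.2
      refine mem_inf.2 ⟨hsO _ h1, mem_centralizer_singleton_iff.2 ?_⟩
      have := conj_comm (a := c.s) (mem_centralizer_singleton_iff.1 h2)
      rwa [hst] at this
  rw [heq] at hbw
  set m := Nat.card ↥(O ⊓ centralizer ({c.t} : Set G)) with hm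
  refine ⟨m, ?_, ?_⟩
  · have h1 : m ∣ 432 := by
      rw [hm, ← c.card_tx]
      refine card_dvd_of_le fun u hu => ?_
      obtain ⟨h1, h2⟩ := mem_inf.1 hu
      exact mem_inf.2 ⟨h2, (mem_inf.1 (ocore_le _ h1)).1⟩
    have hmodd : Odd m := (ocore_odd c.Y).of_dvd_nat (card_dvd_of_le inf_le_left)
    have hco : Nat.Coprime m 16 := by
      rw [show (16 : ℕ) = 2 ^ 4 by norm_num]
      exact (Nat.coprime_two_right.2 hmodd).pow_right 4
    exact hco.dvd_of_dvd_mul_right (show m ∣ 27 * 16 by norm_num; exact h1)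
  · have h2 := card_eq_mul_invSet (ocore_odd c.Y) F.D.z_sq hzO
    rw [c.card_O_z, ← c.invSet_eq] at h2
    rw [← h2]
    have h3 : Nat.card O * 9 = m * m * 9 := by
      rw [show (9 : ℕ) = 3 ^ 2 by norm_num, hbw]; ring
    exact Nat.eq_of_mul_eq_mul_right (by norm_num) h3

/-- The abelian bound. -/
theorem not_dvd_inverted {p : Perm (Fin 10)} {t' : G} (ht : F.D.R p t') (hto : orderOf t' = 2)
    (htz : t' ≠ z) (hty : t' * c.y * t'⁻¹ = c.y⁻¹) :
    ¬ 81 ∣ Nat.card ↥(c.K ⊓ centralizer ({t'} : Set G)) := by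
  set X := c.K ⊓ centralizer ({t'} : Set G) with hX
  have hcomm : ∀ a ∈ X, ∀ b ∈ X, a * b = b * a := by
    intro a ha b hb
    have hi : ∀ k ∈ X, z * k * z⁻¹ = k⁻¹ := fun k hk =>
      c.inverted_of_centralize (F.D.cen ht) hty (mem_inf.1 hk).1
        (mem_centralizer_singleton_iff.1 (mem_inf.1 hk).2)
    have h1 := hi _ (mul_mem ha hb)
    rw [show z * (a * b) * z⁻¹ = z * a * z⁻¹ * (z * b * z⁻¹) by group, hi a ha, hi b hb, mul_inv_rev] at h1
    calc a * b = (b⁻¹ * a⁻¹)⁻¹ := by group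
      _ = (a⁻¹ * b⁻¹)⁻¹ := by rw [h1]
      _ = b * a := by group
  obtain ⟨h, hh⟩ := isConj_iff.1 (F.fused ht hto htz)
  have hconj : ∀ k ∈ X, h⁻¹ * k * h * z = z * (h⁻¹ * k * h) := by
    intro k hk
    have := conj_comm (a := h⁻¹) (mem_centralizer_singleton_iff.1 (mem_inf.1 hk).2)
    rwa [← hh, inv_inv, show h⁻¹ * (h * z * h⁻¹) * h = z by group] at this
  let P : Subgroup (Perm (Fin 10)) :=
    { carrier := {q | ∃ k ∈ X, F.D.R q (h⁻¹ * k * h)}
      one_mem' := ⟨1, one_mem X, by simpa using F.D.one⟩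
      mul_mem' := by
        rintro q r ⟨k, hk, hq⟩ ⟨l, hl, hr⟩
        exact ⟨k * l, mul_mem hk hl, by
          rw [show h⁻¹ * (k * l) * h = h⁻¹ * k * h * (h⁻¹ * l * h) by group]; exact F.D.mul hq hr⟩
      inv_mem' := by
        rintro q ⟨k, hk, hq⟩
        exact ⟨k⁻¹, inv_mem hk, by
          rw [show h⁻¹ * k⁻¹ * h = (h⁻¹ * k * h)⁻¹ by group]; exact F.D.inv hq⟩ }
  have hPc : ∀ a ∈ P, ∀ b ∈ P, a * b = b * a := by
    rintro a ⟨k, hk, ha⟩ b ⟨l, hl, hb⟩
    refine F.D.lift_comm ha hb ?_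
    rw [show h⁻¹ * k * h * (h⁻¹ * l * h) = h⁻¹ * (k * l) * h by group, hcomm k hk l hl]
    group
  choose f hf using fun k : X => F.D.total (hconj k.1 k.2)
  have hodd : ∀ k : X, Odd (orderOf (h⁻¹ * (k : G) * h)) := fun k => by
    rw [show h⁻¹ * (k : G) * h = h⁻¹ * k * (h⁻¹)⁻¹ by rw [inv_inv], orderOf_conj']
    exact odd_order_of_mem c.K_odd (mem_inf.1 k.2).1
  have hcard : Nat.card P = Nat.card X := by
    refine (Nat.card_eq_of_bijective (fun k : X => (⟨f k, k.1, k.2, hf k⟩ : P)) ⟨?_, ?_⟩).symm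
    · intro k l e
      have e' : f k = f l := congrArg Subtype.val e
      have := F.D.odd_eq (hf k) (e' ▸ hf l) (hodd k) (hodd l)
      exact Subtype.ext (mul_left_cancel (a := h⁻¹) (mul_right_cancel (b := h) this.symm))
    · rintro ⟨q, k, hk, hq⟩
      exact ⟨⟨k, hk⟩, Subtype.ext (F.D.func (hf ⟨k, hk⟩) hq)⟩
  rw [← hcard]
  exact not_dvd_of_comm P hPc

/-- `invSet H` has at most nine elements. -/
theorem count_ne : (invSet c.H z).ncard ≠ 81 := by
  intro hn
  obtain ⟨-, -, sQ, -, sT', -, -, -, -, -, cQY, -, tT', tTY, -, -, -, tu, -⟩ := misc_facts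
  obtain ⟨t', ht'⟩ := F.D.surj sT'
  obtain ⟨Q, hQ⟩ := F.D.surj sQ
  have hto : orderOf t' = 2 ∧ t' ≠ z := by
    have h1 : t' * t' = 1 := by
      have hp : pT' * pT' = 1 := by decide +kernel
      rcases F.D.ker (hp ▸ F.D.mul ht' ht') with e | e
      · exact e
      exfalso
      -- a lift of four transpositions is an involution: compare with `t`
      obtain ⟨d, hd⟩ := isConj_iff.1 (isConj_iff_cycleType_eq.2 (type_T.trans tT'.symm))
      obtain ⟨q, hq, hqc⟩ : ∃ q, sign q = 1 ∧ q * pT * q⁻¹ = pT' := by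
        rcases Int.units_eq_one_or (sign d) with hs | hs
        · exact ⟨d, hs, hd⟩
        · refine ⟨d * swap 0 1, by rw [map_mul, hs, sign_swap (by decide)]; rfl, ?_⟩
          rw [show d * swap 0 1 * pT * (d * swap 0 1)⁻¹ = d * (swap 0 1 * pT * (swap 0 1)⁻¹) * d⁻¹ by group,
            odd_comm_X.2.2, mul_inv_cancel_right, hd]
      obtain ⟨w, hw⟩ := F.D.surj hq
      have hR := hqc ▸ F.D.mul (F.D.mul hw c.hT) (F.D.inv hw)
      have hsq : w * c.t * w⁻¹ * (w * c.t * w⁻¹) = 1 := by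
        rw [show w * c.t * w⁻¹ * (w * c.t * w⁻¹) = w * (c.t * c.t) * w⁻¹ by group, c.t_sq, mul_one,
          mul_inv_cancel]
      rcases F.D.eq_or hR ht' with e' | e'
      · rw [e', hsq] at e; exact F.D.z_ne e.symm
      · have hc : Commute (w * c.t * w⁻¹) z := F.D.cen hR
        rw [e', hc.symm.mul_mul_mul_comm, hsq, F.D.z_sq, mul_one] at e
        exact F.D.z_ne e.symm
    refine ⟨order_two h1 fun e => ?_, fun e => ?_⟩
    · have := F.D.func ht' (e ▸ F.D.one); exact absurd this (by decide +kernel)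
    · have := F.D.func ht' (by rw [e]; exact F.D.one_z)
      exact absurd this (by decide +kernel)
  have hty : t' * c.y * t'⁻¹ = c.y⁻¹ :=
    F.D.odd_conj c.hY (F.D.inv c.hY) ht' (odd_of_cube c.y3) (by rw [orderOf_inv]; exact odd_of_cube c.y3) tTY
  have ht'z : t' * z = z * t' := F.D.cen ht'
  have ht2 : t' * t' = 1 := sq_one_of_order hto.1
  -- `|K| = 3 |C_K(t')| |C_K(z t')|`
  have ht'K : ∀ k ∈ c.K, t' * k * t'⁻¹ ∈ c.K := by
    have hN : ∀ u ∈ centralizer ({c.y} : Set G), t' * u * t'⁻¹ ∈ centralizer ({c.y} : Set G) := by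
      intro u hu
      refine mem_centralizer_singleton_iff.2 ?_
      have h1 : Commute (t' * u * t'⁻¹) c.y⁻¹ := by
        have := conj_comm (a := t') (mem_centralizer_singleton_iff.1 hu)
        rwa [hty] at this
      simpa using h1.inv_right.eq
    exact fun k hk => ocore_conj hN (fun u hu => by
      have := hN u hu
      rwa [inv_eq_of_mul_eq_one_right ht2] at this ⊢) hk
  have hzt' : z * t' ≠ z := fun e => by
    have := hto.1
    rw [show t' = 1 from mul_left_cancel (e.trans (mul_one z).symm), orderOf_one] at this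
    omega
  have hzt'o : orderOf (z * t') = 2 := by
    refine order_two ?_ fun e => hto.2 ?_
    · rw [(show Commute t' z from ht'z).mul_mul_mul_comm, F.D.z_sq, ht2, mul_one]
    · calc t' = z * (z * t') := by rw [← mul_assoc, F.D.z_sq, one_mul]
        _ = z := by rw [e, mul_one]
  have hzty : z * t' * c.y * (z * t')⁻¹ = c.y⁻¹ := by
    rw [show z * t' * c.y * (z * t')⁻¹ = z * (t' * c.y * t'⁻¹) * z⁻¹ by group, hty,
      ((show Commute z c.y from c.yz.symm).inv_right).eq, mul_inv_cancel_right]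
  have hKzt : Nat.card ↥(c.K ⊓ centralizer ({z} : Set G) ⊓ centralizer ({t'} : Set G)) = 1 := by
    rw [Subgroup.card_eq_one, eq_bot_iff]
    intro u hu
    obtain ⟨h12, h3⟩ := mem_inf.1 hu
    obtain ⟨h1, h2⟩ := mem_inf.1 h12
    have hu' := c.K_cent h1 (mem_centralizer_singleton_iff.1 h2)
    have he : t' * u * t'⁻¹ = u⁻¹ := by
      obtain ⟨i, rfl⟩ := mem_zpowers_iff.1 hu'
      rw [← conj_zpow, hty, inv_zpow]
    rw [← mem_centralizer_singleton_iff.1 h3, mul_inv_cancel_right] at he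
    exact mem_bot.2 (c.sq_eq_one_of_y hu' (by nth_rw 1 [he]; exact inv_mul_cancel u))
  have hKz : Nat.card ↥(c.K ⊓ centralizer ({z} : Set G)) = 3 := by
    rw [← c.card_y]
    congr 1
    suffices h : c.K ⊓ centralizer ({z} : Set G) = zpowers c.y by rw [h]
    exact le_antisymm (fun u hu => c.K_cent (mem_inf.1 hu).1 (mem_centralizer_singleton_iff.1 (mem_inf.1 hu).2))
      (zpowers_le.2 (mem_inf.2 ⟨c.y_mem_K, mem_centralizer_singleton_iff.2 c.yz⟩))
  have hbw := Goldschmidt53.RankTwoBad.brauer_wielandt c.K c.K_odd F.D.z_sq ht2 ht'z.symm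
    (fun k hk => c.K_conj_z hk) ht'K
  rw [hKzt, hKz, one_pow, mul_one] at hbw
  -- the two subgroups `H` and its conjugate by `Q`
  have hQy : Q * c.y = c.y * Q := F.D.odd_comm c.hY hQ (odd_of_cube c.y3) cQY
  have hQy' : Q⁻¹ * c.y = c.y * Q⁻¹ := (Commute.inv_left hQy).eq
  set x' := Q * c.x * Q⁻¹ with hx'
  set H' := c.K ⊓ centralizer ({x'} : Set G) with hH'
  have hH'card : Nat.card H' = Nat.card c.H := by
    refine Nat.card_congr
      { toFun := fun v => ⟨Q⁻¹ * v.1 * Q, ?_⟩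
        invFun := fun v => ⟨Q * v.1 * Q⁻¹, ?_⟩
        left_inv := fun v => Subtype.ext (by group)
        right_inv := fun v => Subtype.ext (by group) }
    · obtain ⟨h1, h2⟩ := mem_inf.1 v.2
      refine c.mem_H.2 ⟨by simpa using c.K_conj hQy' h1, ?_⟩
      have := conj_comm (a := Q⁻¹) (mem_centralizer_singleton_iff.1 h2)
      rwa [hx', inv_inv, show Q⁻¹ * (Q * c.x * Q⁻¹) * Q = c.x by group] at this
    · obtain ⟨h1, h2⟩ := c.mem_H.1 v.2
      exact mem_inf.2 ⟨c.K_conj hQy h1, mem_centralizer_singleton_iff.2 (conj_comm (a := Q) h2)⟩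
  have hHle : c.H ≤ c.K := inf_le_left
  have hH'le : H' ≤ c.K := inf_le_left
  haveI : (c.H.subgroupOf c.K).Normal := ⟨fun h hh a => by
    have h1 := c.commutator_K a.2 h.2
    have h2 : (a : G) * h * (a : G)⁻¹ * (h : G)⁻¹ ∈ c.H := zpowers_le.2 c.y_mem_H h1
    have h3 := mul_mem h2 (show (h : G) ∈ c.H from hh)
    rw [inv_mul_cancel_right] at h3
    exact h3⟩
  have hinter : c.H ⊓ H' = zpowers c.y := by
    refine le_antisymm ?_ (zpowers_le.2 (mem_inf.2 ⟨c.y_mem_H, mem_inf.2 ⟨c.y_mem_K,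
      mem_centralizer_singleton_iff.2 ?_⟩⟩))
    · intro k hk
      obtain ⟨h1, h2⟩ := mem_inf.1 hk
      obtain ⟨hK, hx⟩ := c.mem_H.1 h1
      have hk' : Commute k x' := mem_centralizer_singleton_iff.1 (mem_inf.1 h2).2
      have hR := F.D.pow (F.D.mul c.hX (F.D.mul (F.D.mul hQ c.hX) (F.D.inv hQ))) 3
      have hz := F.D.sq22 hR tu
      refine c.K_cent hK ?_
      have hc : Commute k ((c.x * x') ^ 3) := ((show Commute k c.x from hx).mul_right hk').pow_right 3
      have := (hc.mul_right hc).eq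
      rwa [hz] at this
    · have := conj_comm (a := Q) c.yx
      rwa [show Q * c.y * Q⁻¹ = c.y by rw [hQy, mul_inv_cancel_right]] at this
  have hcnt := card_normal_mul (c.H.subgroupOf c.K) (H'.subgroupOf c.K)
  rw [Nat.card_congr (subgroupOfEquivOfLe hHle).toEquiv, Nat.card_congr (subgroupOfEquivOfLe hH'le).toEquiv,
    hH'card] at hcnt
  have hinf : c.H.subgroupOf c.K ⊓ H'.subgroupOf c.K = (c.H ⊓ H').subgroupOf c.K := rfl
  rw [hinf, Nat.card_congr (subgroupOfEquivOfLe (inf_le_left.trans hHle : c.H ⊓ H' ≤ c.K)).toEquiv,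
    hinter, c.card_y, c.card_H, hn] at hcnt
  have hdvd : Nat.card ↥(H'.subgroupOf c.K ⊔ c.H.subgroupOf c.K) ∣ Nat.card c.K :=
    Subgroup.card_subgroup_dvd_card _
  have hN : Nat.card ↥(H'.subgroupOf c.K ⊔ c.H.subgroupOf c.K) = 3 * 3 ^ 8 := by omega
  rw [hN] at hdvd
  have h8 : 3 ^ 8 ∣ Nat.card ↥(c.K ⊓ centralizer ({t'} : Set G)) *
      Nat.card ↥(c.K ⊓ centralizer ({z * t'} : Set G)) := by
    rw [hbw, mul_assoc] at hdvd
    exact Nat.dvd_of_mul_dvd_mul_left (by norm_num) hdvd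
  exact dvd_mul_eight h8 (c.not_dvd_inverted ht' hto.1 hto.2 hty)
    (c.not_dvd_inverted (F.D.mul F.D.one_z ht') hzt'o hzt' hzty)

theorem count_ne_nine : (invSet c.H z).ncard ≠ 9 := by
  classical
  intro hn
  obtain ⟨-, -, -, sE, -, tS, -, -, tE, -, -, cEY, -, -, eX, eD, tDD, -, -⟩ := misc_facts
  set H := c.H with hH
  have hcard : Nat.card H = 27 := by rw [c.card_H, hn]
  have hdy : c.d * c.y = c.y * c.d := F.D.odd_comm c.hY c.hD (odd_of_cube c.y3) comm_facts.2.2.1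
  have hdx : c.d * c.x = c.x * c.d := F.D.odd_comm c.hX c.hD (odd_of_cube c.x3) comm_facts.2.2.2.1
  have hdz : c.d * z * c.d⁻¹ = z := by rw [F.D.cen c.hD, mul_inv_cancel_right]
  have hzd : z * c.d = c.d * z := (F.D.cen c.hD).symm
  -- a map of the inverted elements
  have hHconj : ∀ {a : G}, a * c.y = c.y * a → a * c.x * a⁻¹ = c.x → ∀ k ∈ H, a * k * a⁻¹ ∈ H := by
    intro a hay hax k hk
    obtain ⟨h1, h2⟩ := c.mem_H.1 hk
    refine c.mem_H.2 ⟨c.K_conj hay h1, ?_⟩
    have := conj_comm (a := a) h2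
    rwa [hax] at this
  have hdH := hHconj hdy (by rw [hdx, mul_inv_cancel_right])
  have hinv : ∀ {a : G}, a * z = z * a → ∀ k : G, z * k * z⁻¹ = k⁻¹ →
      z * (a * k * a⁻¹) * z⁻¹ = (a * k * a⁻¹)⁻¹ := by
    intro a ha k hk
    rw [show z * (a * k * a⁻¹) * z⁻¹ = (z * a) * k * (z * a)⁻¹ by group, ← ha,
      show a * z * k * (a * z)⁻¹ = a * (z * k * z⁻¹) * a⁻¹ by group, hk]
    group
  haveI : Fintype ↥(invSet H z) := Fintype.ofFinite _
  haveI : Fact (Nat.Prime 3) := ⟨Nat.prime_three⟩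
  have hd3 : ∀ k : G, c.d * (c.d * (c.d * k * c.d⁻¹) * c.d⁻¹) * c.d⁻¹ = k := fun k => by
    rw [show c.d * (c.d * (c.d * k * c.d⁻¹) * c.d⁻¹) * c.d⁻¹ = c.d * c.d * c.d * k * (c.d * c.d * c.d)⁻¹ by group,
      show c.d * c.d * c.d = 1 by rw [← pow_two, ← pow_succ, c.d3], one_mul, inv_one, mul_one]
  let f : ↥(invSet H z) → ↥(invSet H z) := fun k =>
    ⟨c.d * k.1 * c.d⁻¹, hdH _ k.2.1, hinv hzd.symm _ k.2.2⟩
  have hf3 : ∀ k, f (f (f k)) = k := fun k => Subtype.ext (hd3 k.1)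
  let σ : Perm ↥(invSet H z) :=
    ⟨f, fun k => f (f k), fun k => hf3 k, fun k => hf3 k⟩
  have hone : (1 : G) ∈ invSet H z := ⟨one_mem _, by simp⟩
  obtain ⟨i, hi, hi1⟩ := exists_fixed_point_of_prime' (p := 3) (n := 1) (σ := σ) (a := ⟨1, hone⟩)
    (by rw [← Nat.card_eq_fintype_card, Nat.card_coe_set_eq, hn]; norm_num)
    (by
      refine Equiv.ext fun k => ?_
      show σ (σ (σ k)) = k
      exact hf3 k)
    (Subtype.ext (show c.d * 1 * c.d⁻¹ = 1 by group))
  have hid : c.d * i.1 * c.d⁻¹ = i.1 := congrArg Subtype.val hi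
  have hine : i.1 ≠ 1 := fun e => hi1 (Subtype.ext e)
  have hiH : i.1 ∈ H := i.2.1
  have hiz : z * i.1 * z⁻¹ = i.1⁻¹ := i.2.2
  have hi2 : i.1 ≠ i.1⁻¹ := by
    intro e
    obtain ⟨m, hm⟩ := odd_order_of_mem c.K_odd (c.mem_H.1 hiH).1
    have h2 : i.1 ^ 2 = 1 := by rw [pow_two]; nth_rw 1 [e]; exact inv_mul_cancel _
    have := pow_orderOf_eq_one i.1
    rw [hm, pow_succ, pow_mul, h2, one_pow, one_mul] at this
    exact hine this
  have contra : ¬ (i.1 * z = z * i.1) := fun e => hi2 (by rw [← hiz, ← e, mul_inv_cancel_right])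
  set Fd := H ⊓ centralizer ({c.d} : Set G) with hFd
  have hFdz : ∀ k ∈ Fd, z * k * z⁻¹ ∈ Fd := by
    intro k hk
    obtain ⟨h1, h2⟩ := mem_inf.1 hk
    refine mem_inf.2 ⟨c.H_conj_z h1, mem_centralizer_singleton_iff.2 ?_⟩
    have := conj_comm (a := z) (mem_centralizer_singleton_iff.1 h2)
    rwa [show z * c.d * z⁻¹ = c.d by rw [hzd, mul_inv_cancel_right]] at this
  have hFz : Fd ⊓ centralizer ({z} : Set G) = zpowers c.y := by
    refine le_antisymm ?_ (zpowers_le.2 (mem_inf.2 ⟨mem_inf.2 ⟨c.y_mem_H,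
      mem_centralizer_singleton_iff.2 hdy.symm⟩, mem_centralizer_singleton_iff.2 c.yz⟩))
    intro u hu
    rw [← c.H_z]
    exact mem_inf.2 ⟨(mem_inf.1 (mem_inf.1 hu).1).1, (mem_inf.1 hu).2⟩
  have hFcard := card_eq_mul_invSet (K := Fd)
    (c.K_odd.of_dvd_nat ((card_dvd_of_le inf_le_left).trans (card_dvd_of_le inf_le_left))) F.D.z_sq hFdz
  rw [hFz, c.card_y] at hFcard
  have hd27 : Nat.card Fd ∣ 27 := hcard ▸ card_dvd_of_le inf_le_left
  by_cases htop : Nat.card Fd = 27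
  · -- `d` centralises `H`
    have heq : Fd = H := eq_of_le_of_card_ge inf_le_left (by rw [htop, hcard])
    have hdc : Commute i.1 c.d :=
      mem_centralizer_singleton_iff.1 (mem_inf.1 (heq.symm ▸ hiH : i.1 ∈ Fd)).2
    have hsx : c.s * c.x * c.s⁻¹ = c.x := by
      rw [(c.mem_Y.1 c.s_mem).1, mul_inv_cancel_right]
    have hs' : c.s⁻¹ * i.1 * c.s ∈ H := by
      have := hHconj (a := c.s⁻¹) (Commute.inv_left (c.mem_Y.1 c.s_mem).2).eq
        (by rw [(Commute.inv_left (c.mem_Y.1 c.s_mem).1).eq, mul_inv_cancel_right]) _ hiH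
      simpa using this
    have hdc' : Commute i.1 (c.s * c.d * c.s⁻¹) := by
      have h1 := mem_centralizer_singleton_iff.1 (mem_inf.1 (heq.symm ▸ hs' : c.s⁻¹ * i.1 * c.s ∈ Fd)).2
      have := conj_comm (a := c.s) h1
      rwa [show c.s * (c.s⁻¹ * i.1 * c.s) * c.s⁻¹ = i.1 by group] at this
    have hR := F.D.mul c.hD (F.D.inv (F.D.mul (F.D.mul c.hS c.hD) (F.D.inv c.hS)))
    have hz := F.D.sq22 hR tDD
    have hcu := hdc.mul_right hdc'.inv_right
    have := (hcu.mul_right hcu).eq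
    rw [hz] at this
    exact contra this
  · -- `e` permutes the three elements fixed by `d`
    have hle : Nat.card Fd ≤ 9 := by
      have : Nat.card Fd ∈ Nat.divisors 27 := Nat.mem_divisors.2 ⟨hd27, by norm_num⟩
      rw [show Nat.divisors 27 = {1, 3, 9, 27} by decide] at this
      simp only [Finset.mem_insert, Finset.mem_singleton] at this
      omega
    have hfle : (invSet Fd z).ncard ≤ 3 := by omega
    have hiF : i.1 ∈ Fd := mem_inf.2 ⟨hiH, mem_centralizer_singleton_iff.2 (mul_inv_eq_iff_eq_mul.1 hid).symm⟩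
    have hset : invSet Fd z = {1, i.1, i.1⁻¹} := by
      symm
      refine Set.eq_of_subset_of_ncard_le ?_ ?_ (Set.toFinite _)
      · rintro k (rfl | rfl | rfl)
        · exact ⟨one_mem _, by simp⟩
        · exact ⟨hiF, hiz⟩
        · exact ⟨inv_mem hiF, by rw [show z * i.1⁻¹ * z⁻¹ = (z * i.1 * z⁻¹)⁻¹ by group, hiz]⟩
      · refine hfle.trans ?_
        rw [Set.ncard_insert_of_notMem, Set.ncard_pair hi2]
        simp only [Set.mem_insert_iff, Set.mem_singleton_iff, not_or]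
        exact ⟨Ne.symm hine, fun e => hine (inv_eq_one.1 e.symm)⟩
    obtain ⟨e, he⟩ := F.D.surj sE
    have hey : e * c.y = c.y * e := F.D.odd_comm c.hY he (odd_of_cube c.y3) cEY
    have hex : e * c.x * e⁻¹ = c.y ^ 2 * c.x⁻¹ := by
      refine F.D.odd_conj c.hX (F.D.mul (F.D.pow c.hY 2) (F.D.inv c.hX)) he (odd_of_cube c.x3) ?_ eX
      refine odd_of_cube ?_
      rw [((show Commute c.y c.x from c.yx).pow_left 2).inv_right.mul_pow, ← pow_mul, inv_pow, c.x3,
        mul_comm 2, pow_mul, c.y3]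
      simp
    have hed : e * c.d * e⁻¹ = c.d⁻¹ :=
      F.D.odd_conj c.hD (F.D.inv c.hD) he (odd_of_cube c.d3) (by rw [orderOf_inv]; exact odd_of_cube c.d3) eD
    have hei : e * i.1 * e⁻¹ ∈ invSet Fd z := by
      obtain ⟨h1, h2⟩ := c.mem_H.1 hiH
      refine ⟨mem_inf.2 ⟨c.mem_H.2 ⟨c.K_conj hey h1, ?_⟩, mem_centralizer_singleton_iff.2 ?_⟩,
        hinv (F.D.cen he) _ hiz⟩
      · have h3 : Commute (e * i.1 * e⁻¹) (c.y ^ 2 * c.x⁻¹) := by
          have := conj_comm (a := e) h2; rwa [hex] at this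
        have h4 : Commute (e * i.1 * e⁻¹) c.y := c.comm_of_mem (c.K_conj hey h1)
        have h5 := ((h4.pow_right 2).inv_right.mul_right h3).inv_right
        rw [inv_mul_cancel_left, inv_inv] at h5
        exact h5.eq
      · have h3 : Commute (e * i.1 * e⁻¹) c.d⁻¹ := by
          have := conj_comm (a := e) (mem_centralizer_singleton_iff.1 (mem_inf.1 hiF).2)
          rwa [hed] at this
        simpa using h3.inv_right.eq
    have he2 : e * e = z := F.D.sq22 he tE
    have hfix : e * (e * i.1 * e⁻¹) * e⁻¹ = i.1 := by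
      rw [hset] at hei
      rcases hei with h | h | h
      · exact absurd (conj_eq_one_iff.1 h) hine
      · rw [h, h]
      · rw [Set.mem_singleton_iff] at h
        rw [h, show e * i.1⁻¹ * e⁻¹ = (e * i.1 * e⁻¹)⁻¹ by group, h, inv_inv]
    rw [show e * (e * i.1 * e⁻¹) * e⁻¹ = e * e * i.1 * (e * e)⁻¹ by group] at hfix
    simp only [he2] at hfix
    exact hi2 (hfix.symm.trans hiz)

/-- `C(x) ∩ C(y) ≤ C(z)`. -/
theorem Y_le : ∀ u ∈ c.Y, u * z = z * u := by
  obtain ⟨m, hm, hn⟩ := c.count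
  have h1 : (invSet c.H z).ncard = 1 := by
    have := c.count_ne
    have := c.count_ne_nine
    have : m ∈ Nat.divisors 27 := Nat.mem_divisors.2 ⟨hm, by norm_num⟩
    rw [show Nat.divisors 27 = {1, 3, 9, 27} by decide] at this
    simp only [Finset.mem_insert, Finset.mem_singleton] at this
    rcases this with rfl | rfl | rfl | rfl <;> omega
  rw [c.invSet_eq] at h1
  have hO : ocore c.Y ≤ centralizer ({z} : Set G) := by
    have h2 := card_eq_mul_invSet (ocore_odd c.Y) F.D.z_sq (fun k hk => ocore_normal c.solo_Y.mem hk)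
    rw [h1, mul_one] at h2
    exact fun k hk => (mem_inf.1 ((eq_of_le_of_card_ge inf_le_left h2.le).ge hk)).2
  intro u hu
  obtain ⟨o, ho, v, -, hv, rfl⟩ := c.solo_Y.factor hu
  exact ((show Commute o z from mem_centralizer_singleton_iff.1 (hO ho)).mul_left hv).eq

/-- A Sylow 3-subgroup of `C(x)` has order 27. -/
theorem not_dvd_cent : ¬ 81 ∣ Nat.card ↥(centralizer ({c.x} : Set G)) := by
  classical
  intro h81
  haveI : Fact (Nat.Prime 3) := ⟨Nat.prime_three⟩
  set L := centralizer ({c.x} : Set G) with hL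
  have hdy : c.d * c.y = c.y * c.d := F.D.odd_comm c.hY c.hD (odd_of_cube c.y3) comm_facts.2.2.1
  have hdx : c.d * c.x = c.x * c.d := F.D.odd_comm c.hX c.hD (odd_of_cube c.x3) comm_facts.2.2.2.1
  set xL : L := ⟨c.x, mem_centralizer_singleton_iff.2 rfl⟩
  set yL : L := ⟨c.y, mem_centralizer_singleton_iff.2 c.yx⟩
  set dL : L := ⟨c.d, mem_centralizer_singleton_iff.2 hdx⟩
  set A := closure ({xL, yL, dL} : Set L) with hA
  haveI hAc : IsMulCommutative A := isMulCommutative_closure (by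
    rintro a (rfl | rfl | rfl) b (rfl | rfl | rfl) <;> refine Subtype.ext ?_ <;>
      first
        | rfl | exact c.yx.symm | exact c.yx | exact hdx.symm | exact hdx
        | exact hdy.symm | exact hdy)
  have hA3 : ∀ a ∈ A, a ^ 3 = 1 := by
    intro a ha
    induction ha using closure_induction with
    | mem a ha =>
      rcases ha with rfl | rfl | rfl <;> refine Subtype.ext ?_
      · exact c.x3
      · exact c.y3
      · exact c.d3
    | one => exact one_pow 3
    | mul a b ha hb iha ihb =>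
      have hab : Commute a b := congrArg Subtype.val (hAc.is_comm.comm ⟨a, ha⟩ ⟨b, hb⟩)
      rw [hab.mul_pow, iha, ihb, one_mul]
    | inv a _ iha => rw [inv_pow, iha, inv_one]
  have hAp : IsPGroup 3 A := fun a => ⟨1, Subtype.ext (by
    rw [pow_one, Subgroup.coe_pow]; exact hA3 a.1 a.2)⟩
  -- `A` has at least 27 elements
  have h27 : 27 ≤ Nat.card A := by
    let φ : Fin 3 × Fin 3 × Fin 3 → A := fun p =>
      ⟨xL ^ (p.1 : ℕ) * yL ^ (p.2.1 : ℕ) * dL ^ (p.2.2 : ℕ),
        mul_mem (mul_mem (pow_mem (subset_closure (by simp)) _) (pow_mem (subset_closure (by simp)) _))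
          (pow_mem (subset_closure (by simp)) _)⟩
    have hφ : Function.Injective φ := by
      intro p q e
      have e1 := congrArg (fun a : A => ((a : L) : G)) e
      simp only [φ, Subgroup.coe_mul, Subgroup.coe_pow, xL, yL, dL] at e1
      have hR := fun r : Fin 3 × Fin 3 × Fin 3 => F.D.mul (F.D.mul (F.D.pow c.hX (r.1 : ℕ))
        (F.D.pow c.hY (r.2.1 : ℕ))) (F.D.pow c.hD (r.2.2 : ℕ))
      exact grid_facts.2.2 _ _ _ _ _ _ (F.D.func (hR p) (e1.symm ▸ hR q))
    calc 27 = Nat.card (Fin 3 × Fin 3 × Fin 3) := by simp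
      _ ≤ Nat.card A := Nat.card_le_card_of_injective φ hφ
  obtain ⟨P, hAP⟩ := hAp.exists_le_sylow
  have hzmem : (⟨z, mem_centralizer_singleton_iff.2 c.xz.symm⟩ : L) ∈ centralizer (A : Set L) := by
    rw [hA, centralizer_closure, mem_centralizer_iff]
    rintro a (rfl | rfl | rfl) <;> refine Subtype.ext ?_
    · exact c.xz
    · exact c.yz
    · exact F.D.cen c.hD
  -- the normaliser of `A` centralises `z`
  have hN : ∀ a ∈ normalizer (A : Set L), (a : G) * z = z * (a : G) := by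
    intro a ha
    set z' : G := a.1 * z * a.1⁻¹ with hz'
    have hcommA : ∀ b ∈ A, z' * (b : G) = b * z' := by
      intro b hb
      have hb' : a⁻¹ * b * a ∈ A := (mem_normalizer_iff''.1 ha b).1 hb
      have := conj_comm (a := a.1) (congrArg Subtype.val ((mem_centralizer_iff.1 hzmem _ hb')).symm)
      simp only [Subgroup.coe_mul, InvMemClass.coe_inv] at this
      rwa [show a.1 * (a.1⁻¹ * (b : G) * a.1) * a.1⁻¹ = b by group] at this
    have hx' : z' * c.x = c.x * z' := hcommA xL (subset_closure (by simp))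
    have hy' : z' * c.y = c.y * z' := hcommA yL (subset_closure (by simp))
    have hd' : z' * c.d = c.d * z' := hcommA dL (subset_closure (by simp))
    have hzc := c.Y_le z' (c.mem_Y.2 ⟨hx', hy'⟩)
    have hzo : orderOf z' = 2 := by rw [hz', orderOf_conj', F.D.orderOf_z]
    have heq : z' = z := by
      obtain ⟨q, hq⟩ := F.D.total hzc
      obtain ⟨i, j, r, hr, rfl⟩ := cent_two (F.D.even hq) (F.D.lift_comm hq c.hY hy') (F.D.lift_comm hq c.hX hx')
      have h1 := cent_three i j hr (F.D.lift_comm hq c.hD hd') (F.D.perm_sq hq (sq_one_of_order hzo))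
      rcases F.D.ker (h1 ▸ hq) with e | e
      · rw [e, orderOf_one] at hzo; omega
      · exact e
    exact mul_inv_eq_iff_eq_mul.1 heq
  set W := (P : Subgroup L) ⊓ normalizer (A : Set L) with hW
  have hWdvd : Nat.card W ∣ 432 := by
    rw [← F.cardX c.hX (odd_of_cube c.x3), ← card_map_of_injective L.subtype_injective]
    refine card_dvd_of_le ?_
    rintro _ ⟨w, hw, rfl⟩
    exact mem_inf.2 ⟨mem_centralizer_singleton_iff.2 (hN w (mem_inf.1 hw).2), w.2⟩
  obtain ⟨k, hk⟩ := (P.2.to_le (inf_le_left : W ≤ (P : Subgroup L))).exists_card_eq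
  have hk3 : k ≤ 3 := by
    have h : 3 ^ k ∣ 432 := hk ▸ hWdvd
    by_contra hk4
    have h81' : 3 ^ 4 ∣ 432 := (pow_dvd_pow 3 (by omega)).trans h
    norm_num at h81'
  have hWA : Nat.card W ≤ 27 := by
    rw [hk]; exact (Nat.pow_le_pow_right (by norm_num) hk3).trans (by norm_num)
  have hPA : ¬ (P : Subgroup L) ≤ A := by
    intro hle
    have h1 : 81 ∣ Nat.card (P : Subgroup L) :=
      P.pow_dvd_card_of_pow_dvd_card (n := 4) h81
    have h3 : Nat.card A ∣ Nat.card W :=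
      card_dvd_of_le (le_inf hAP le_normalizer)
    have := Nat.le_of_dvd Nat.card_pos (h1.trans ((card_dvd_of_le hle).trans h3))
    omega
  haveI : Finite (P : Subgroup L) := inferInstance
  have hlt : A.subgroupOf P < ⊤ := lt_top_iff_ne_top.2 fun e => hPA (subgroupOf_eq_top.1 e)
  obtain ⟨w, hwN, hwA⟩ := SetLike.exists_of_lt
    (haveI := P.2.isNilpotent; Group.normalizerCondition_of_isNilpotent (A.subgroupOf P) hlt)
  have hwN' : (w : L) ∈ normalizer (A : Set L) := by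
    rw [mem_normalizer_iff]
    intro a
    constructor
    · intro ha
      exact (mem_normalizer_iff.1 hwN ⟨a, hAP ha⟩).1 ha
    · intro ha
      have haP : a ∈ (P : Subgroup L) := by
        have := mul_mem (mul_mem (inv_mem w.2) (hAP ha)) w.2
        simpa [mul_assoc] using this
      exact (mem_normalizer_iff.1 hwN ⟨a, haP⟩).2 ha
  have hlt' : A < W := lt_of_le_of_ne (le_inf hAP le_normalizer) fun e => hwA (by
    show (w : L) ∈ A
    rw [e]; exact mem_inf.2 ⟨w.2, hwN'⟩)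
  have hcl : Nat.card A < Nat.card W := by
    rcases lt_or_ge (Nat.card A) (Nat.card W) with h | h
    · exact h
    · exact absurd (eq_of_le_of_card_ge hlt'.le h) hlt'.ne
  omega

end Conf

end Cfsg.Agent.Lib.S1645.Ten
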