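import Cfsg.Agent.Lib.S1645.TenRot
import Cfsg.Agent.Lib.SDBlock25.Main

/-!
# S1645, n = 10: the order of `C(x)` by the semidihedral order formula (helper2)
-/

set_option autoImplicit false
set_option linter.style.haveILetI false
set_option linter.unusedSectionVars false
set_option maxHeartbeats 1000000

universe u

namespace Cfsg.Agent.Lib.S1645.Ten

open Subgroup Equiv Equiv.Perm

theorem order_facts : pT * pT = 1 ∧ pR * pY ≠ pY * pR ∧ pJ * pY = pY * pJ ∧ pJ * pC = pC * pJ ∧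
    pJ * pX = pX * pJ ∧ (∀ a : Fin 3, (pX ^ (a : ℕ)) * pU = pU * pX ^ (a : ℕ)) := by
  decide +kernel

theorem sgn_three : SDBlock25.ZColumn.sgn 3 = 1 := rfl

/-- The degrees leave only orders divisible by 81. -/
theorem arith {N : ℕ} {A C : ℤ} (_hN : 0 < N) (hA : Odd A) (hC : Odd C) (h4 : ¬ 4 ∣ A + 1)
    (e1 : (A + 9) * C = -9 * (A + 1)) (e2 : (N : ℤ) * (A + 3) ^ 2 = 373248 * (A * (A + 1))) :
    81 ∣ N := by
  have hd : A + 9 ∣ 72 := ⟨C + 9, by rw [mul_add, e1]; ring⟩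
  have hne : A + 9 ≠ 0 := fun e => by rw [e, zero_mul] at e1; omega
  have hm : (A + 9).natAbs ∈ Nat.divisors 72 :=
    Nat.mem_divisors.2 ⟨Int.natAbs_dvd_natAbs.2 hd, by norm_num⟩
  rw [show Nat.divisors 72 = {1, 2, 3, 4, 6, 8, 9, 12, 18, 24, 36, 72} by decide] at hm
  obtain ⟨a, rfl⟩ := hA
  obtain ⟨b, rfl⟩ := hC
  simp only [Finset.mem_insert, Finset.mem_singleton] at hm
  rcases hm with h | h | h | h | h | h | h | h | h | h | h | h <;>
    rcases Int.natAbs_eq (2 * a + 1 + 9) with e | e <;> rw [h] at e <;>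
    first
      | omega
      | (have ha : a = (2 * a + 1 + 9 - 10) / 2 := by omega
         rw [e] at ha
         norm_num at ha
         subst ha
         norm_num at e1 e2 <;> omega)

variable {G : Type u} [Group G] [Finite G] {z : G} {F : Frame G z} {c : Conf F} (r : Rot c)

namespace Rot

theorem σ_notMem_Y : r.σ ∉ c.Y := fun h =>
  order_facts.2.1 (F.D.lift_comm r.hσ c.hY (c.mem_Y.1 h).2)

theorem v_comm_ne : r.v * r.σ ≠ r.σ * r.v := by
  intro e
  have h := r.vσ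
  rw [e, mul_inv_cancel_right] at h
  have h2 : r.σ ^ 2 = 1 := by
    refine mul_left_cancel (a := r.σ) ?_
    rw [mul_one, ← pow_succ']
    exact h.symm
  have := orderOf_dvd_of_pow_eq_one h2
  rw [r.orderσ] at this
  omega

theorem commute_z {a : G} (h : Commute a (r.σ * r.σ)) : Commute a z := by
  rw [← r.σ4, show r.σ ^ 4 = r.σ * r.σ * (r.σ * r.σ) by simp [pow_succ, mul_assoc]]
  exact h.mul_right h

/-- An involution commuting with `σ` and centralising `x` is `z`. -/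
theorem eq_z {e : G} (ho : orderOf e = 2) (hx : e * c.x = c.x * e) (hσ : e * r.σ = r.σ * e) :
    e = z := by
  by_contra hne
  have hz : e * z = z * e := by
    rw [← r.σ4]; exact ((show Commute e r.σ from hσ).pow_right 4).eq
  obtain ⟨q, hq⟩ := F.D.total hz
  obtain ⟨-, hsupp⟩ := F.D.involution_support (by norm_num) hq ho hne
  have hqq := F.D.perm_sq hq (sq_one_of_order ho)
  have hqX := F.D.lift_comm hq c.hX hx
  have hqR := F.D.lift_comm hq r.hσ hσ
  by_cases hY : q * pY = pY * q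
  · have := support_le hqq hY
    omega
  have hpY : (pT * q) * pY = pY * (pT * q) := by
    by_contra h
    exact hY ((cent_X hqX).2 h)
  have hpX : (pT * q) * pX = pX * (pT * q) :=
    ((show Commute pT pX from rot_facts.2.2.2.2.2.2.2).mul_left hqX).eq
  obtain ⟨i, j, ρ, hρ, he⟩ := cent_two (by rw [map_mul, sign_facts.1, F.D.even hq, one_mul]) hpY hpX
  obtain rfl : q = pT * (pY ^ (i : ℕ) * pC ^ (j : ℕ) * ρ) := by
    rw [← he, ← mul_assoc, order_facts.1, one_mul]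
  exact cent_rot ρ hρ i j hqR hqq

/-- The elements of odd order commuting with `σ²` and `x`. -/
theorem grid_of_comm {a : G} (ho : Odd (orderOf a)) (hx : a * c.x = c.x * a)
    (hσ : Commute a (r.σ * r.σ)) : ∃ i j : Fin 3, a = c.x ^ (i : ℕ) * c.y ^ (j : ℕ) := by
  have hz := r.commute_z hσ
  obtain ⟨q, hq⟩ := F.D.total hz.eq
  have hqX := F.D.lift_comm hq c.hX hx
  have hqY : q * pY = pY * q := by
    by_contra hY
    have hpY : (pT * q) * pY = pY * (pT * q) := by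
      by_contra h
      exact hY ((cent_X hqX).2 h)
    -- the parity of the parts
    have hodd : ∀ k : ℕ, (pT * q) * pY = pY * (pT * q) → Odd k → ¬ (q ^ k * pY = pY * q ^ k) := by
      intro k _ hk hc
      obtain ⟨l, rfl⟩ := hk
      have h2 : (q * q) * pY = pY * (q * q) := by
        by_contra h
        have hqqX : (q * q) * pX = pX * (q * q) := ((show Commute q pX from hqX).mul_left hqX).eq
        have h' : (pT * (q * q)) * pY = pY * (pT * (q * q)) := by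
          by_contra h''
          exact h ((cent_X hqqX).2 h'')
        have e : Commute (q) pY := by
          have e2 := (show Commute (pT * (q * q)) pY from h').inv_left.mul_left hpY
          have e3 : (pT * (q * q))⁻¹ * (pT * q) = q⁻¹ := by group
          rw [e3] at e2
          simpa using e2.inv_left
        exact hY e.eq
      refine hY ?_
      rw [pow_succ, pow_mul, pow_two] at hc
      have e := (show Commute (q * q) pY from h2).pow_left l
      have e2 := e.inv_left.mul_left (show Commute ((q * q) ^ l * q) pY from hc)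
      rw [inv_mul_cancel_left] at e2
      exact e2.eq
    refine hodd _ hpY ho ?_
    rw [F.D.perm_pow_eq_one hq (pow_orderOf_eq_one a), one_mul, mul_one]
  obtain ⟨i, j, ρ, hρ, hqe⟩ := cent_two (F.D.even hq) hqY hqX
  have hJ : F.D.R pJ (r.σ * r.σ) := rot_facts.2.2.2.2.1 ▸ F.D.mul r.hσ r.hσ
  have hqJ := F.D.lift_comm hq hJ hσ.eq
  set q0 := pY ^ (i : ℕ) * pC ^ (j : ℕ) with hq0
  have h0J : Commute q0 pJ :=
    ((show Commute pY pJ from order_facts.2.2.1.symm).pow_left _).mul_left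
      ((show Commute pC pJ from order_facts.2.2.2.1.symm).pow_left _)
  have hρJ : ρ * pJ = pJ * ρ := by
    have h := h0J.inv_left.mul_left (show Commute q pJ from hqJ)
    rw [hqe, inv_mul_cancel_left] at h
    exact h.eq
  have hρ2 := r_rot ρ hρ hρJ
  have hcomm : Commute q0 ρ := rlist_comm hρ i j
  obtain ⟨a', b', hab⟩ := c_grid i j
  have h03 : q0 ^ 3 = 1 := by
    rw [hq0, hab, ((show Commute pX pY from comm_facts.2.1.symm).pow_pow _ _).mul_pow, ← pow_mul,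
      ← pow_mul, mul_comm (a' : ℕ), mul_comm (b' : ℕ), pow_mul, pow_mul, cube_facts.1,
      cube_facts.2.1, one_pow, one_pow, one_mul]
  have hρ1 : ρ = 1 := by
    have h1 : (q0 * ρ) ^ orderOf a = 1 := hqe ▸ F.D.perm_pow_eq_one hq (pow_orderOf_eq_one a)
    obtain ⟨l, hl⟩ := ho
    rw [hcomm.mul_pow, hl, pow_succ ρ, pow_mul ρ, pow_two, hρ2, one_pow, one_mul, ← hl] at h1
    have h3 : ρ ^ 3 = 1 := by
      rw [eq_inv_of_mul_eq_one_right h1, inv_pow, ← pow_mul, mul_comm, pow_mul, h03, one_pow,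
        inv_one]
    rw [pow_succ, pow_two, hρ2, one_mul] at h3
    exact h3
  refine ⟨a', b', F.D.odd_eq (F.D.mul (F.D.pow c.hX _) (F.D.pow c.hY _))
    (by rw [hq0, hab] at hqe; rw [hqe, hρ1, mul_one] at hq; exact hq) ?_ ho⟩
  refine odd_of_cube ?_
  rw [((show Commute c.x c.y from c.yx.symm).pow_pow _ _).mul_pow, ← pow_mul, ← pow_mul,
    mul_comm (a' : ℕ), mul_comm (b' : ℕ), pow_mul, pow_mul, c.x3, c.y3, one_pow, one_pow, one_mul]

/-- `C(x)`. -/
abbrev C (_r : Rot c) : Subgroup G := centralizer ({c.x} : Set G)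

/-- `z` in `C(x)`. -/
def zL : ↥r.C := ⟨z, mem_centralizer_singleton_iff.2 c.xz.symm⟩
/-- `σ` in `C(x)`. -/
def σL : ↥r.C := ⟨r.σ, mem_centralizer_singleton_iff.2 r.σx⟩
/-- `v` in `C(x)`. -/
def vL : ↥r.C := ⟨r.v, mem_centralizer_singleton_iff.2 r.vx⟩
/-- `t` in `C(x)`. -/
def tL : ↥r.C := ⟨c.t, mem_centralizer_singleton_iff.2 c.xt.symm⟩

theorem mem_C (a : ↥r.C) : (a : G) * c.x = c.x * (a : G) := mem_centralizer_singleton_iff.1 a.2

theorem σL4 : r.σL ^ 4 = r.zL := Subtype.ext r.σ4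

theorem orderσL : orderOf r.σL = 8 := by rw [σL, Subgroup.orderOf_mk, r.orderσ]

theorem vL2 : r.vL * r.vL = 1 := Subtype.ext r.v2

theorem vσL : r.vL * r.σL * r.vL⁻¹ = r.σL ^ 3 := Subtype.ext r.vσ

theorem vL_notMem : r.vL ∉ zpowers r.σL := fun h => by
  obtain ⟨i, hi⟩ := mem_zpowers_iff.1 h
  exact r.v_comm_ne (congrArg Subtype.val
    (show r.vL * r.σL = r.σL * r.vL by rw [← hi]; exact (Commute.zpow_self _ i).eq))

theorem card_Cz : Nat.card ↥(centralizer ({r.zL} : Set ↥r.C)) = 432 := by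
  rw [← F.cardX c.hX (odd_of_cube c.x3)]
  refine Nat.card_congr
    { toFun := fun a => ⟨a.1.1, mem_inf.2 ⟨mem_centralizer_singleton_iff.2 ?_, a.1.2⟩⟩
      invFun := fun a => ⟨⟨a.1, (mem_inf.1 a.2).2⟩, mem_centralizer_singleton_iff.2 (Subtype.ext ?_)⟩
      left_inv := fun a => rfl
      right_inv := fun a => rfl }
  · exact congrArg Subtype.val (mem_centralizer_singleton_iff.1 a.2)
  · exact mem_centralizer_singleton_iff.1 (mem_inf.1 a.2).1

/-- The Sylow 2-subgroup. -/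
theorem exists_sylow : ∃ P : Sylow 2 ↥r.C, r.σL ∈ (P : Subgroup ↥r.C) ∧ r.vL ∈ (P : Subgroup ↥r.C) ∧
    Nat.card (P : Subgroup ↥r.C) = 16 := by
  haveI : Fact (Nat.Prime 2) := ⟨Nat.prime_two⟩
  set S := zpowers r.σL
  set V := zpowers r.vL
  have hS : IsPGroup 2 S := IsPGroup.of_card (n := 3) (by rw [Nat.card_zpowers, r.orderσL]; norm_num)
  have hV : IsPGroup 2 V := IsPGroup.of_card (n := 1) (by
    rw [Nat.card_zpowers, order_two r.vL2 fun e => r.vL_notMem (e ▸ one_mem _), pow_one])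
  have hVS : V ≤ normalizer (S : Set ↥r.C) := by
    rw [zpowers_le, mem_normalizer_iff]
    have hin : ∀ a ∈ S, r.vL * a * r.vL⁻¹ ∈ S := by
      intro a ha
      obtain ⟨i, rfl⟩ := mem_zpowers_iff.1 ha
      rw [← conj_zpow, r.vσL, ← zpow_natCast, ← zpow_mul]
      exact zpow_mem (mem_zpowers _) _
    intro a
    refine ⟨hin a, fun h => ?_⟩
    have := hin _ h
    rwa [show r.vL * (r.vL * a * r.vL⁻¹) * r.vL⁻¹ = r.vL * r.vL * a * (r.vL * r.vL)⁻¹ by group, r.vL2,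
      one_mul, inv_one, mul_one] at this
  have hSV : IsPGroup 2 ↥(S ⊔ V) := hS.to_sup_of_normal_left' hV hVS
  obtain ⟨P, hP⟩ := hSV.exists_le_sylow
  have hσP : r.σL ∈ (P : Subgroup ↥r.C) := hP (mem_sup_left (mem_zpowers _))
  have hvP : r.vL ∈ (P : Subgroup ↥r.C) := hP (mem_sup_right (mem_zpowers _))
  haveI : Nontrivial (P : Subgroup ↥r.C) := ⟨⟨⟨_, hvP⟩, 1, fun e => r.vL_notMem (by
    rw [show r.vL = 1 from congrArg Subtype.val e]; exact one_mem _)⟩⟩
  haveI := P.2.center_nontrivial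
  obtain ⟨e, he⟩ : ∃ e : center (P : Subgroup ↥r.C), orderOf e = 2 := by
    obtain ⟨k, hk0, hk⟩ :=
      (P.2.to_subgroup (center (P : Subgroup ↥r.C))).nontrivial_iff_card.1 inferInstance
    exact exists_prime_orderOf_dvd_card' 2 (by rw [hk]; exact dvd_pow_self 2 hk0.ne')
  have hec : ∀ p ∈ (P : Subgroup ↥r.C), p * (e.1 : ↥r.C) = e.1 * p := fun p hp =>
    congrArg Subtype.val (mem_center_iff.1 e.2 ⟨p, hp⟩)
  have hez : (e.1 : ↥r.C) = r.zL := Subtype.ext (r.eq_z (by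
      rw [Subgroup.orderOf_coe, Subgroup.orderOf_coe, Subgroup.orderOf_coe, he])
    (r.mem_C _) (congrArg Subtype.val (hec _ hσP)).symm)
  have hle : (P : Subgroup ↥r.C) ≤ centralizer ({r.zL} : Set ↥r.C) := fun p hp =>
    mem_centralizer_singleton_iff.2 (hez ▸ hec p hp)
  refine ⟨P, hσP, hvP, ?_⟩
  obtain ⟨k, hk⟩ := P.2.exists_card_eq
  have h1 : 2 ^ k ∣ 432 := hk ▸ r.card_Cz ▸ card_dvd_of_le hle
  have h2 : 8 ∣ 2 ^ k := by
    rw [← hk, ← r.orderσL, ← Nat.card_zpowers]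
    exact card_dvd_of_le (zpowers_le.2 hσP)
  have h3 : 2 ^ k ≠ 8 := by
    intro e8
    refine r.vL_notMem ?_
    rw [eq_of_le_of_card_ge (zpowers_le.2 hσP) (by rw [hk, e8, Nat.card_zpowers, r.orderσL])]
    exact hvP
  have hk4 : k ≤ 4 := by
    by_contra h
    have h5 : 2 ^ 5 ∣ 432 := (pow_dvd_pow 2 (by omega)).trans h1
    norm_num at h5
  rw [hk]
  interval_cases k <;> omega

theorem sd {P : Sylow 2 ↥r.C} (hσ : r.σL ∈ (P : Subgroup ↥r.C)) (hv : r.vL ∈ (P : Subgroup ↥r.C))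
    (hcard : Nat.card (P : Subgroup ↥r.C) = 16) : SDBlock25.Sections.SD P 4 r.σL := by
  refine ⟨le_rfl, ⟨by norm_num, ⟨2, rfl⟩, hσ, r.orderσL, by rw [hcard], ?_, dvd_refl 4, dvd_refl 4⟩⟩
  intro w hw hwn
  show _ = r.σL ^ 3
  have hle := zpowers_le.2 hσ
  have hidx : ((zpowers r.σL).subgroupOf (P : Subgroup ↥r.C)).index = 2 := by
    have h := ((zpowers r.σL).subgroupOf (P : Subgroup ↥r.C)).card_mul_index
    rw [Nat.card_congr (subgroupOfEquivOfLe hle).toEquiv, Nat.card_zpowers, r.orderσL, hcard] at h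
    omega
  have hmem : r.vL * w ∈ zpowers r.σL := by
    have := (mul_mem_iff_of_index_two hidx (a := ⟨r.vL, hv⟩) (b := ⟨w, hw⟩)).2
      ⟨fun h => absurd h r.vL_notMem, fun h => absurd h hwn⟩
    exact this
  obtain ⟨i, hi⟩ := mem_zpowers_iff.1 hmem
  have hw' : w = r.vL * r.σL ^ i := by rw [hi, ← mul_assoc, r.vL2, one_mul]
  rw [hw', show r.vL * r.σL ^ i * r.σL * (r.vL * r.σL ^ i)⁻¹ = r.vL * r.σL * r.vL⁻¹ by group,
    r.vσL]

theorem z_conj_t : IsConj r.zL r.tL :=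
  isConj_iff.2 ⟨⟨c.g, mem_centralizer_singleton_iff.2 c.g_x⟩, Subtype.ext c.g_z⟩

theorem t_conj_v : IsConj r.tL r.vL := by
  obtain ⟨w, hwx, hw⟩ := r.vt
  exact isConj_iff.2 ⟨⟨w, mem_centralizer_singleton_iff.2 hwx⟩, Subtype.ext hw⟩

theorem one_class {P : Sylow 2 ↥r.C} (hS : SDBlock25.Sections.SD P 4 r.σL)
    (hv : r.vL ∈ (P : Subgroup ↥r.C)) (e : ↥r.C) (he : orderOf e = 2) :
    IsConj (r.σL ^ 4) e := by
  classical
  haveI : Fact (Nat.Prime 2) := ⟨Nat.prime_two⟩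
  have hp : IsPGroup 2 (zpowers e) := IsPGroup.of_card (n := 1) (by rw [Nat.card_zpowers, he, pow_one])
  obtain ⟨Q, hQ⟩ := hp.exists_le_sylow
  obtain ⟨h, hh⟩ := MulAction.exists_smul_eq ↥r.C Q P
  set w := h * e * h⁻¹ with hw
  have hwP : w ∈ (P : Subgroup ↥r.C) := by
    rw [← hh, Sylow.coe_subgroup_smul]
    exact Subgroup.smul_mem_pointwise_smul _ _ _ (hQ (mem_zpowers _))
  have hew : IsConj e w := isConj_iff.2 ⟨h, rfl⟩
  refine IsConj.trans ?_ hew.symm
  have hwo : orderOf w = 2 := by rw [hw, orderOf_conj', he]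
  rw [r.σL4]
  by_cases hwx : w ∈ zpowers r.σL
  · rw [← r.σL4, SDBlock25.Sections.SD.ext hS |>.orderOf_z |> fun hz =>
      DihedralDefect.Group.eq_of_zpowers hwx (Subgroup.npow_mem_zpowers r.σL 4) hwo hz]
  · have hle := hS.ext.zpowers_le
    have hidx : ((zpowers r.σL).subgroupOf (P : Subgroup ↥r.C)).index = 2 := by
      have h := ((zpowers r.σL).subgroupOf (P : Subgroup ↥r.C)).card_mul_index
      rw [Nat.card_congr (subgroupOfEquivOfLe hle).toEquiv, Nat.card_zpowers, r.orderσL, hS.ext.card] at h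
      omega
    have hmem : r.vL * w ∈ zpowers r.σL :=
      (mul_mem_iff_of_index_two hidx (a := ⟨r.vL, hv⟩) (b := ⟨w, hwP⟩)).2
        ⟨fun h => absurd h r.vL_notMem, fun h => absurd h hwx⟩
    obtain ⟨k, hk8, hk⟩ := hS.ext.exists_pow hmem
    have hwk : w = r.vL * r.σL ^ k := by rw [hk, ← mul_assoc, r.vL2, one_mul]
    have hvi : r.vL⁻¹ = r.vL := inv_eq_of_mul_eq_one_right r.vL2
    have hcp : ∀ l : ℕ, r.vL * r.σL ^ l * r.vL = r.σL ^ (3 * l) := fun l => by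
      have h3 : (r.vL * r.σL * r.vL⁻¹) ^ l = (r.σL ^ 3) ^ l := by rw [r.vσL]
      rw [conj_pow, hvi, ← pow_mul] at h3
      exact h3
    have h4 : r.σL ^ (4 * k) = 1 := by
      have h := sq_one_of_order hwo
      rw [hwk] at h
      rw [show 4 * k = 3 * k + k by ring, pow_add, ← hcp]
      rw [show r.vL * r.σL ^ k * r.vL * r.σL ^ k = r.vL * r.σL ^ k * (r.vL * r.σL ^ k) by group]
      exact h
    obtain ⟨l, rfl⟩ : 2 ∣ k := by
      have := orderOf_dvd_of_pow_eq_one h4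
      rw [r.orderσL] at this
      omega
    refine (r.z_conj_t.trans r.t_conj_v).trans (isConj_iff.2 ⟨r.σL ^ l, ?_⟩)
    rw [hwk, mul_inv_eq_iff_eq_mul]
    have h := hcp (2 * l + l)
    calc r.σL ^ l * r.vL = r.vL * (r.vL * r.σL ^ l * r.vL) := by
          simp only [← mul_assoc, r.vL2, one_mul]
      _ = r.vL * r.σL ^ (3 * l) := by rw [hcp]
      _ = r.vL * r.σL ^ (2 * l) * r.σL ^ l := by rw [mul_assoc, ← pow_add]; congr 2; ring

/-- No subgroup of index two. -/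
theorem no_index_two {P : Sylow 2 ↥r.C} (hS : SDBlock25.Sections.SD P 4 r.σL)
    (hv : r.vL ∈ (P : Subgroup ↥r.C)) (hone : ∀ e : ↥r.C, orderOf e = 2 → IsConj (r.σL ^ 4) e)
    (K : Subgroup ↥r.C) : K.index ≠ 2 := by
  intro hK
  haveI : K.Normal := normal_of_index_eq_two hK
  haveI : Fact (Nat.Prime 2) := ⟨Nat.prime_two⟩
  have hinv : ∀ e : ↥r.C, orderOf e = 2 → e ∈ K := fun e he => by
    obtain ⟨h, hh⟩ := isConj_iff.1 (hone e he)
    rw [← hh]
    refine Subgroup.Normal.conj_mem inferInstance _ ?_ h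
    rw [show r.σL ^ 4 = (r.σL ^ 2) ^ 2 by rw [← pow_mul]]
    exact Subgroup.sq_mem_of_index_two hK _
  have hodd : ∀ e : ↥r.C, Odd (orderOf e) → e ∈ K := fun e ⟨k, hk⟩ => by
    have h : (e ^ (k + 1)) ^ 2 = e := by
      rw [← pow_mul, show (k + 1) * 2 = orderOf e + 1 by omega, pow_succ, pow_orderOf_eq_one, one_mul]
    rw [← h]
    exact Subgroup.sq_mem_of_index_two hK _
  obtain ⟨i, j, g, ⟨-, -, -, hg3, hgi, hgj⟩, hiY, hjY, hgY, hgen⟩ := exists_sl r
  have hYC : ∀ {a : G}, a ∈ c.Y → a ∈ r.C := fun h => (mem_inf.1 h).1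
  set iL : ↥r.C := ⟨i, hYC hiY⟩
  set jL : ↥r.C := ⟨j, hYC hjY⟩
  set gL : ↥r.C := ⟨g, hYC hgY⟩
  have hgK : gL ∈ K := hodd _ (by rw [Subgroup.orderOf_mk]; exact odd_of_cube hg3)
  have hiK : iL ∈ K := by
    have e : iL = gL * (jL * gL⁻¹ * jL⁻¹) := Subtype.ext (by
      show i = g * (j * g⁻¹ * j⁻¹)
      rw [show g * (j * g⁻¹ * j⁻¹) = g * j * g⁻¹ * j⁻¹ by group, hgj, mul_inv_cancel_right])
    rw [e]
    exact mul_mem hgK (Subgroup.Normal.conj_mem inferInstance _ (inv_mem hgK) jL)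
  have hjK : jL ∈ K := by
    rw [show jL = gL * iL * gL⁻¹ from Subtype.ext hgi.symm]
    exact mul_mem (mul_mem hgK hiK) (inv_mem hgK)
  have hYK : ∀ (a : G) (ha : a ∈ c.Y), (⟨a, hYC ha⟩ : ↥r.C) ∈ K := by
    intro a ha
    obtain ⟨o, ho, w, hw, rfl⟩ := hgen a ha
    have hclo : closure ({i, j, g} : Set G) ≤ K.map r.C.subtype := by
      rw [closure_le]
      rintro s (rfl | rfl | rfl)
      · exact ⟨iL, hiK, rfl⟩
      · exact ⟨jL, hjK, rfl⟩
      · exact ⟨gL, hgK, rfl⟩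
    obtain ⟨w', hw', rfl⟩ := hclo hw
    have hoK : (⟨o, hYC (ocore_le _ ho)⟩ : ↥r.C) ∈ K :=
      hodd _ (by rw [Subgroup.orderOf_mk]; exact odd_order_of_mem (ocore_odd _) ho)
    exact mul_mem hoK hw'
  have htK : r.tL ∈ K := hinv _ (by
    rw [tL, Subgroup.orderOf_mk]; exact (F.lift_T c.hT).1)
  have hvK : r.vL ∈ K := hinv _ (order_two r.vL2 fun e => r.vL_notMem (e ▸ one_mem _))
  have hσK : r.σL ∈ K := by
    have hb : c.t * r.σ ∈ c.Y := by
      refine (Rot.dichotomy (c := c) ?_ ?_).2 ?_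
      · exact ((show Commute c.t z from c.tz).mul_left r.σz).eq
      · exact ((show Commute c.t c.x from c.xt.symm).mul_left r.σx).eq
      · rw [← mul_assoc, c.t_sq, one_mul]; exact r.σ_notMem_Y
    have e : r.σL = r.tL * ⟨c.t * r.σ, hYC hb⟩ := Subtype.ext (by
      show r.σ = c.t * (c.t * r.σ)
      rw [← mul_assoc, c.t_sq, one_mul])
    rw [e]
    exact mul_mem htK (hYK _ hb)
  have hPK : (P : Subgroup ↥r.C) ≤ K := by
    intro w hw
    have hsup : zpowers r.σL ⊔ zpowers r.vL ≤ K := sup_le (zpowers_le.2 hσK) (zpowers_le.2 hvK)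
    by_cases hwx : w ∈ zpowers r.σL
    · exact hsup (mem_sup_left hwx)
    have hidx : ((zpowers r.σL).subgroupOf (P : Subgroup ↥r.C)).index = 2 := by
      have h := ((zpowers r.σL).subgroupOf (P : Subgroup ↥r.C)).card_mul_index
      rw [Nat.card_congr (subgroupOfEquivOfLe hS.ext.zpowers_le).toEquiv, Nat.card_zpowers, r.orderσL,
        hS.ext.card] at h
      omega
    have hmem : r.vL * w ∈ zpowers r.σL :=
      (mul_mem_iff_of_index_two hidx (a := ⟨r.vL, hv⟩) (b := ⟨w, hw⟩)).2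
        ⟨fun h => absurd h r.vL_notMem, fun h => absurd h hwx⟩
    rw [show w = r.vL * (r.vL * w) by rw [← mul_assoc, r.vL2, one_mul]]
    exact mul_mem hvK (zpowers_le.2 hσK hmem)
  refine P.not_dvd_index ?_
  have h2 := index_dvd_of_le hPK
  rwa [hK] at h2

theorem ocore_eq : ocore c.Y ⊓ centralizer ({z} : Set G) = ocore c.Y :=
  inf_eq_left.2 fun _ h => mem_centralizer_singleton_iff.2 (c.Y_le _ (ocore_le _ h))

/-- The part in `Y` of the centraliser of `z` and its cover of `SL(2,3)`. -/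
theorem exists_hyp {P : Sylow 2 ↥r.C} (hS : SDBlock25.Sections.SD P 4 r.σL)
    (hv : r.vL ∈ (P : Subgroup ↥r.C)) :
    ∃ (L : Subgroup ↥(SDBlock25.ZColumn.Cz r.σL 4))
      (φ : ↥L →* Matrix.SpecialLinearGroup (Fin 2) (ZMod 3)),
      SDBlock25.ZColumn.Hyp hS r.vL L φ := by
  classical
  set Cz := SDBlock25.ZColumn.Cz r.σL 4
  let L : Subgroup ↥Cz := c.Y.comap (r.C.subtype.comp Cz.subtype)
  have hzmem : ∀ a : ↥r.C, a ∈ Cz ↔ (a : G) * z = z * (a : G) := fun a => by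
    rw [mem_centralizer_singleton_iff, r.σL4]
    exact ⟨congrArg Subtype.val, fun h => Subtype.ext h⟩
  have hcardCz : Nat.card ↥Cz = 432 := by
    show Nat.card ↥(centralizer ({r.σL ^ 4} : Set ↥r.C)) = 432
    rw [r.σL4, r.card_Cz]
  have htmem : r.tL ∈ Cz := (hzmem _).2 c.tz
  have hL2 : L.index = 2 := by
    rw [index_eq_two_iff']
    refine ⟨⟨r.tL, htmem⟩, fun b => ?_⟩
    have h := Rot.dichotomy (c := c) ((hzmem b.1).1 b.2) (r.mem_C b.1)
    show Xor (c.t * ((b : ↥r.C) : G) ∈ c.Y) (((b : ↥r.C) : G) ∈ c.Y)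
    by_cases hb : ((b : ↥r.C) : G) ∈ c.Y
    · exact Or.inr ⟨hb, h.1 hb⟩
    · exact Or.inl ⟨by_contra fun h' => hb (h.2 h'), hb⟩
  let e : ↥L ≃* ↥c.Y :=
    { toFun := fun a => ⟨((a : ↥Cz) : ↥r.C), a.2⟩
      invFun := fun a => ⟨⟨⟨a.1, (mem_inf.1 a.2).1⟩, (hzmem _).2 (c.Y_le _ a.2)⟩, a.2⟩
      left_inv := fun a => rfl
      right_inv := fun a => rfl
      map_mul' := fun a b => rfl }
  have hY216 : Nat.card ↥c.Y = 216 := by
    have h := L.card_mul_index
    rw [hL2, hcardCz, Nat.card_congr e.toEquiv] at h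
    omega
  haveI hN : (Cfsg.oddCore ↥c.Y).Normal := Subgroup.normal_of_characteristic _
  set O := Cfsg.oddCore ↥c.Y with hO
  have hO9 : Nat.card O = 9 := by
    rw [← c.card_O_z, ocore_eq]
    exact Nat.card_congr (Subgroup.equivMapOfInjective O _ c.Y.subtype_injective).toEquiv
  have hQ24 : Nat.card (↥c.Y ⧸ O) = 24 := by
    have h := card_eq_card_quotient_mul_card_subgroup O
    rw [hY216, hO9] at h
    omega
  obtain ⟨i, j, g, ⟨h1, h2, h3, h4, h5, h6⟩, hiY, hjY, hgY, hgen⟩ := exists_sl r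
  set π := QuotientGroup.mk' O
  set iQ := π ⟨i, hiY⟩
  set jQ := π ⟨j, hjY⟩
  set gQ := π ⟨g, hgY⟩
  have hrel : PGroups.SLRel iQ jQ gQ := by
    have key : PGroups.SLRel (⟨i, hiY⟩ : ↥c.Y) ⟨j, hjY⟩ ⟨g, hgY⟩ :=
      ⟨Subtype.ext h1, Subtype.ext h2, Subtype.ext h3, Subtype.ext h4, Subtype.ext h5, Subtype.ext h6⟩
    obtain ⟨k1, k2, k3, k4, k5, k6⟩ := key
    refine ⟨?_, ?_, ?_, ?_, ?_, ?_⟩ <;>
      simp only [iQ, jQ, gQ, ← map_pow, ← map_mul, ← map_inv, k1, k2, k3, k4, k5, k6, map_one]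
  have hclo : closure ({iQ, jQ, gQ} : Set (↥c.Y ⧸ O)) = ⊤ := by
    rw [eq_top_iff]
    intro q _
    obtain ⟨⟨a, ha⟩, rfl⟩ := QuotientGroup.mk'_surjective O q
    obtain ⟨o, ho, w, hw, rfl⟩ := hgen a ha
    have hle : closure ({i, j, g} : Set G) ≤
        ((closure ({iQ, jQ, gQ} : Set (↥c.Y ⧸ O))).comap π).map c.Y.subtype := by
      rw [closure_le]
      rintro s (rfl | rfl | rfl)
      · exact ⟨⟨_, hiY⟩, subset_closure (by simp [iQ]), rfl⟩
      · exact ⟨⟨_, hjY⟩, subset_closure (by simp [jQ]), rfl⟩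
      · exact ⟨⟨_, hgY⟩, subset_closure (by simp [gQ]), rfl⟩
    obtain ⟨w', hw', rfl⟩ := hle hw
    obtain ⟨o', ho', rfl⟩ := ho
    show π (o' * w') ∈ _
    rw [map_mul, show π o' = 1 from (QuotientGroup.eq_one_iff o').2 ho', one_mul]
    exact hw'
  obtain ⟨iso⟩ := PGroups.nonempty_sl_equiv hrel hclo hQ24.ge
  let φ : ↥L →* Matrix.SpecialLinearGroup (Fin 2) (ZMod 3) :=
    (iso.toMonoidHom.comp π).comp e.toMonoidHom
  have hsurj : Function.Surjective φ :=
    (iso.surjective.comp (QuotientGroup.mk'_surjective O)).comp e.surjective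
  refine ⟨L, φ, hv, r.vL_notMem, r.vL2, by rw [ZMod.card]; decide, hL2, hsurj, ?_⟩
  have h := card_eq_card_quotient_mul_card_subgroup φ.ker
  rw [Nat.card_congr (QuotientGroup.quotientKerEquivOfSurjective φ hsurj).toEquiv,
    PLocal.SLTwo.card_three, Nat.card_congr e.toEquiv, hY216] at h
  rw [show Nat.card φ.ker = 9 by omega]
  decide

theorem core_grid {P : Sylow 2 ↥r.C} (hS : SDBlock25.Sections.SD P 4 r.σL) {k : ℕ} (hk : Even k)
    (h1 : r.σL ^ k ≠ 1) (hz : r.σL ^ k ≠ r.σL ^ 4) (a : ↥r.C) :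
    a ∈ SDBlock25.Count.core (r.σL ^ k) ↔
      ∃ i j : Fin 3, (a : G) = c.x ^ (i : ℕ) * c.y ^ (j : ℕ) := by
  obtain ⟨l, rfl⟩ := hk
  have hi8 : (r.σ * r.σ) ^ 4 = 1 := by
    rw [show (r.σ * r.σ) ^ 4 = r.σ ^ orderOf r.σ by rw [r.orderσ, ← pow_two, ← pow_mul],
      pow_orderOf_eq_one]
  have hl : (r.σ * r.σ) ^ l = r.σ ^ (l + l) := by rw [← pow_two, ← pow_mul, two_mul]
  have hlodd : l % 2 = 1 := by
    by_contra h
    obtain ⟨m, rfl⟩ : 2 ∣ l := by omega
    rw [show 2 * m + 2 * m = 4 * m by ring] at h1 hz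
    exact (hS.ext.pow_mem_zm (a := 4 * m) (dvd_mul_right 4 m)).elim h1 hz
  constructor
  · intro ha
    have hodd := SDBlock25.Count.core_odd ha
    rw [← Subgroup.orderOf_coe] at hodd
    have hc : Commute (a : G) ((r.σ * r.σ) ^ l) := by
      rw [hl]
      exact (congrArg Subtype.val (SDBlock25.Count.core_comm ha).eq).symm
    refine r.grid_of_comm hodd (r.mem_C a) ?_
    have h2 := hc.pow_right l
    rwa [← pow_mul, ← Nat.mod_add_div (l * l) 4, pow_add, pow_mul, hi8, one_pow, mul_one,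
      show l * l % 4 = 1 by
        obtain ⟨m, rfl⟩ : ∃ m, l = 2 * m + 1 := ⟨l / 2, by omega⟩
        rw [show (2 * m + 1) * (2 * m + 1) = 1 + 4 * (m * m + m) by ring, Nat.add_mul_mod_self_left],
      pow_one] at h2
  · rintro ⟨i, j, ha⟩
    have hR := F.D.mul (F.D.pow c.hX (i : ℕ)) (F.D.pow c.hY (j : ℕ))
    have hJ : F.D.R pJ (r.σ * r.σ) := rot_facts.2.2.2.2.1 ▸ F.D.mul r.hσ r.hσ
    have ho : Odd (orderOf (c.x ^ (i : ℕ) * c.y ^ (j : ℕ))) := by
      refine odd_of_cube ?_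
      rw [((show Commute c.x c.y from c.yx.symm).pow_pow _ _).mul_pow, ← pow_mul, ← pow_mul,
        mul_comm (i : ℕ), mul_comm (j : ℕ), pow_mul, pow_mul, c.x3, c.y3, one_pow, one_pow, one_mul]
    have hc : Commute (r.σ * r.σ) (c.x ^ (i : ℕ) * c.y ^ (j : ℕ)) :=
      F.D.odd_comm hR hJ ho
        (((show Commute pJ pX from order_facts.2.2.2.2.1).pow_right _).mul_right
          ((show Commute pJ pY from order_facts.2.2.1).pow_right _)).eq
    refine SDBlock25.Count.mem_core hS h1 hz ?_ (by rw [← Subgroup.orderOf_coe, ha]; exact ho)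
    refine Subtype.ext ?_
    show r.σ ^ (l + l) * (a : G) = (a : G) * r.σ ^ (l + l)
    rw [← hl, ha]
    exact (hc.pow_left l).eq

theorem core_count {P : Sylow 2 ↥r.C} (hS : SDBlock25.Sections.SD P 4 r.σL) {k : ℕ} (hk : Even k)
    (h1 : r.σL ^ k ≠ 1) (hz : r.σL ^ k ≠ r.σL ^ 4) :
    Nat.card (SDBlock25.Count.core (r.σL ^ k)) = 9 ∧
      Nat.card {a : ↥r.C // a ∈ SDBlock25.Count.core (r.σL ^ k) ∧ r.vL * a = a * r.vL} = 3 := by
  have hmem : ∀ i j : Fin 3, c.x ^ (i : ℕ) * c.y ^ (j : ℕ) ∈ r.C := fun i j =>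
    mem_centralizer_singleton_iff.2
      (((Commute.refl c.x).pow_left _).mul_left ((show Commute c.y c.x from c.yx).pow_left _)).eq
  have hinj : ∀ i j i' j' : Fin 3, c.x ^ (i : ℕ) * c.y ^ (j : ℕ) = c.x ^ (i' : ℕ) * c.y ^ (j' : ℕ) →
      i = i' ∧ j = j' := fun i j i' j' e =>
    grid_facts.1 _ _ _ _ (F.D.func (F.D.mul (F.D.pow c.hX _) (F.D.pow c.hY _))
      (e ▸ F.D.mul (F.D.pow c.hX _) (F.D.pow c.hY _)))
  constructor
  · rw [← Nat.card_eq_of_bijective (fun p : Fin 3 × Fin 3 =>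
      (⟨⟨_, hmem p.1 p.2⟩, (r.core_grid hS hk h1 hz _).2 ⟨p.1, p.2, rfl⟩⟩ :
        SDBlock25.Count.core (r.σL ^ k))) ?_]
    · simp
    constructor
    · intro p p' e
      obtain ⟨e1, e2⟩ := hinj _ _ _ _ (congrArg (fun a => ((a : SDBlock25.Count.core (r.σL ^ k)).1 : G)) e)
      exact Prod.ext e1 e2
    · rintro ⟨a, ha⟩
      obtain ⟨i, j, e⟩ := (r.core_grid hS hk h1 hz a).1 ha
      exact ⟨(i, j), Subtype.ext (Subtype.ext e.symm)⟩
  · have hvx : ∀ i : Fin 3, r.v * c.x ^ (i : ℕ) = c.x ^ (i : ℕ) * r.v := fun i =>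
      ((show Commute r.v c.x from r.vx).pow_right _).eq
    rw [← Nat.card_eq_of_bijective (fun i : Fin 3 =>
      (⟨⟨_, hmem i 0⟩, (r.core_grid hS hk h1 hz _).2 ⟨i, 0, rfl⟩, Subtype.ext (by
        show r.v * (c.x ^ (i : ℕ) * c.y ^ ((0 : Fin 3) : ℕ)) = c.x ^ (i : ℕ) * c.y ^ ((0 : Fin 3) : ℕ) * r.v
        simp [hvx])⟩ :
        {a : ↥r.C // a ∈ SDBlock25.Count.core (r.σL ^ k) ∧ r.vL * a = a * r.vL})) ?_]
    · simp
    constructor
    · intro i i' e
      exact (hinj i 0 i' 0 (congrArg (fun a => ((a : {a : ↥r.C // a ∈ SDBlock25.Count.core (r.σL ^ k) ∧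
        r.vL * a = a * r.vL}).1 : G)) e)).1
    · rintro ⟨a, ha, hva⟩
      obtain ⟨i, j, e⟩ := (r.core_grid hS hk h1 hz a).1 ha
      have hva' : r.v * (a : G) = (a : G) * r.v := congrArg Subtype.val hva
      rw [e] at hva'
      obtain rfl : j = 0 := U_facts.1 i j (F.D.lift_comm
        (F.D.mul (F.D.pow c.hX _) (F.D.pow c.hY _)) r.hv hva'.symm)
      exact ⟨i, Subtype.ext (Subtype.ext e.symm)⟩

include r in
theorem contra : False := by
  classical
  obtain ⟨P, hσ, hv, hcard⟩ := r.exists_sylow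
  have hS := r.sd hσ hv hcard
  have hone := r.one_class hS hv
  obtain ⟨L, φ, H⟩ := r.exists_hyp hS hv
  obtain ⟨A, C, D, hA, hC, -, -, -, -, -, h4, e1, e2⟩ :=
    SDBlock25.Main.exists_degrees hS H hone (r.no_index_two hS hv hone) (ρ := 1) (fun k hk h1 hz => by
      obtain ⟨n9, n3⟩ := r.core_count hS hk h1 hz
      rw [n9, n3]; norm_num)
  simp only [ZMod.card, sgn_three, one_mul] at e1 e2
  norm_num at e1 e2
  have hcz : Nat.card ↥(SDBlock25.ZColumn.Cz r.σL 4) = 432 := by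
    show Nat.card ↥(centralizer ({r.σL ^ 4} : Set ↥r.C)) = 432
    rw [r.σL4, r.card_Cz]
  rw [hcz] at e2
  refine c.not_dvd_cent (arith (A := A) (C := C) Nat.card_pos hA hC h4 ?_ ?_)
  · rw [e1]; ring
  · have e2' : ((Nat.card ↥r.C : ℤ) : ℚ) * (((A + 3) ^ 2 : ℤ) : ℚ) =
        ((373248 * (A * (A + 1)) : ℤ) : ℚ) := by
      push_cast at e2 ⊢
      linear_combination e2
    exact_mod_cast e2'

end Rot

end Cfsg.Agent.Lib.S1645.Ten
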