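import Cfsg.Agent.Lib.S1645.TenLocal
import Cfsg.Agent.Lib.PGroups.SLTwoThree

/-!
# S1645, n = 10: the semidihedral group in `C(z) ∩ C(x)` and its cover of `SL(2,3)` (helper2)
-/

set_option autoImplicit false
set_option linter.style.haveILetI false
set_option linter.unusedSectionVars false
set_option maxHeartbeats 1000000

universe u

namespace Cfsg.Agent.Lib.S1645.Ten

open Subgroup Equiv Equiv.Perm

/-- An element of order four squaring to `pJ`. -/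
def pR : Perm (Fin 10) := ofTable [1, 0, 3, 2, 5, 4, 7, 8, 9, 6] [1, 0, 3, 2, 5, 4, 9, 6, 7, 8]
/-- Four transpositions inverting `pR`. -/
def pU : Perm (Fin 10) := ofTable [1, 0, 3, 2, 5, 4, 8, 7, 6, 9] [1, 0, 3, 2, 5, 4, 8, 7, 6, 9]
/-- Conjugates `pT` to `pU`. -/
def pM : Perm (Fin 10) := ofTable [0, 1, 2, 3, 4, 5, 6, 8, 9, 7] [0, 1, 2, 3, 4, 5, 6, 9, 7, 8]

theorem rot_facts : sign pR = 1 ∧ sign pM = 1 ∧ pR * pX = pX * pR ∧ pM * pX = pX * pM ∧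
    pR * pR = pJ ∧ pM * pT * pM⁻¹ = pU ∧ pU * pR * pU⁻¹ = pR⁻¹ ∧ pT * pX = pX * pT := by
  decide +kernel

theorem rot_type : (pR * pU).cycleType = {2, 2} := by decide +kernel

theorem move_facts :
    (∀ v : Fin 10, pX v ≠ v → (pY v ≠ v ∧ pY (pT v) = pT v) ∨ (pY v = v ∧ pY (pT v) ≠ pT v)) ∧
    (∀ v : Fin 10, pX v ≠ v → pY v ≠ v → pY v = pX v ∧ pY (pX v) ≠ pX v) ∧
    (∀ v w : Fin 10, pY v ≠ v → pY w ≠ w → w = v ∨ w = pX v ∨ w = pX (pX v)) := by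
  decide +kernel

/-- A permutation commuting with `pX` commutes with `pY` or does so after multiplication by `pT`. -/
theorem cent_X {q : Perm (Fin 10)} (hq : q * pX = pX * q) :
    q * pY = pY * q ↔ ¬ (pT * q) * pY = pY * (pT * q) := by
  obtain ⟨h1, h2, h3⟩ := move_facts
  have hXT : ∀ v, pT (pX v) = pX (pT v) := fun v => apply_comm rot_facts.2.2.2.2.2.2.2 v
  have hY0 : pY (0 : Fin 10) ≠ 0 := by decide +kernel
  have hYX : ∀ v, pY v ≠ v → pX v ≠ v := by decide +kernel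
  have mk : ∀ p : Perm (Fin 10), p * pX = pX * p → pY (p 0) ≠ p 0 → p * pY = pY * p := by
    intro p hp h0
    refine Equiv.ext fun v => ?_
    show p (pY v) = pY (p v)
    have stab : ∀ w, pY w ≠ w → pY (p w) ≠ p w := by
      intro w hw
      have e0 : pX (p 0) ≠ p 0 := hYX _ h0
      have a1 := (h2 _ e0 h0).2
      have a2 := (h2 _ (hYX _ a1) a1).2
      rcases h3 0 w hY0 hw with rfl | rfl | rfl
      · exact h0
      · rw [apply_comm hp]; exact a1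
      · rw [apply_comm hp, apply_comm hp]; exact a2
    by_cases hv : pY v = v
    · rw [hv]
      by_contra hne
      have hw := Ne.symm hne
      obtain ⟨w, hwv⟩ : ∃ w, pY w ≠ w ∧ p w = p v := by
        rcases h3 (p 0) (p v) h0 hw with e | e | e
        · exact ⟨0, hY0, e.symm⟩
        · refine ⟨pX 0, (h2 0 (hYX 0 hY0) hY0).2, ?_⟩
          rw [apply_comm hp, e]
        · refine ⟨pX (pX 0), ?_, ?_⟩
          · have := (h2 0 (hYX 0 hY0) hY0).2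
            exact (h2 _ (hYX _ this) this).2
          · rw [apply_comm hp, apply_comm hp, e]
      exact hwv.1 (p.injective hwv.2 ▸ hv)
    · rw [(h2 v (hYX v hv) hv).1, apply_comm hp, (h2 _ (hYX _ (stab v hv)) (stab v hv)).1]
  have hqT : (pT * q) * pX = pX * (pT * q) := by
    rw [mul_assoc, hq, ← mul_assoc, rot_facts.2.2.2.2.2.2.2, mul_assoc]
  have hmem : ∀ p : Perm (Fin 10), p * pY = pY * p → pY (p 0) ≠ p 0 := fun p hp e =>
    hY0 (p.injective (by rw [apply_comm hp, e]))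
  have h0X : pX (q 0) ≠ q 0 := by
    rw [← apply_comm hq]; exact fun e => hYX 0 hY0 (q.injective e)
  constructor
  · intro h e
    rcases h1 _ h0X with ⟨-, b⟩ | ⟨a, -⟩
    · exact hmem _ e b
    · exact hmem _ h a
  · intro h
    rcases h1 _ h0X with ⟨a, -⟩ | ⟨-, b⟩
    · exact mk q hq a
    · exact absurd (mk _ hqT b) h

theorem U_facts : (∀ a b : Fin 3, pX ^ (a : ℕ) * pY ^ (b : ℕ) * pU = pU * (pX ^ (a : ℕ) * pY ^ (b : ℕ)) → b = 0) ∧
    ¬ (pU * pY = pY * pU) := by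
  decide +kernel

theorem TR_facts : pT * pY * pT⁻¹ = pC ∧ pT * pC * pT⁻¹ = pY ∧ pR * pY * pR⁻¹ = pC ∧ pR * pC * pR⁻¹ = pY := by
  decide +kernel

theorem r_rot : ∀ r ∈ rlist, r * pJ = pJ * r → r * r = 1 := forall_get (by decide +kernel)

/-- No involution moving `{0, 2, 4}` commutes with `pR`. -/
theorem cent_rot : ∀ r ∈ rlist, ∀ i j : Fin 3,
    (pT * (pY ^ (i : ℕ) * pC ^ (j : ℕ) * r)) * pR = pR * (pT * (pY ^ (i : ℕ) * pC ^ (j : ℕ) * r)) →
      (pT * (pY ^ (i : ℕ) * pC ^ (j : ℕ) * r)) * (pT * (pY ^ (i : ℕ) * pC ^ (j : ℕ) * r)) = 1 → False :=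
  forall_get (by decide +kernel)

theorem sl_facts : sign pJ = 1 ∧ pD * pJ * pD⁻¹ ≠ pJ ∧ (pD * pJ * pD⁻¹).cycleType = {2, 2} ∧
    (pD * (pD * pJ * pD⁻¹) * pD⁻¹).cycleType = {2, 2} ∧
    pJ * (pD * pJ * pD⁻¹) = pD * (pD * pJ * pD⁻¹) * pD⁻¹ ∧
    (pD * pJ * pD⁻¹) * pJ = pD * (pD * pJ * pD⁻¹) * pD⁻¹ ∧
    pJ * (pD * (pD * pJ * pD⁻¹) * pD⁻¹) = pD * pJ * pD⁻¹ ∧
    (pD * (pD * pJ * pD⁻¹) * pD⁻¹) * pJ = pD * pJ * pD⁻¹ ∧
    (pS = pJ ∨ pS = pD * pJ * pD⁻¹ ∨ pS = pD * (pD * pJ * pD⁻¹) * pD⁻¹) := by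
  decide +kernel

variable {G : Type u} [Group G] [Finite G] {z : G} {F : Frame G z} (c : Conf F)

/-- The rotation and reflection. -/
structure Rot where
  σ : G
  v : G
  hσ : F.D.R pR σ
  hv : F.D.R pU v
  σx : σ * c.x = c.x * σ
  vx : v * c.x = c.x * v
  σ4 : σ ^ 4 = z
  orderσ : orderOf σ = 8
  v2 : v * v = 1
  vσ : v * σ * v⁻¹ = σ ^ 3
  vt : ∃ w : G, w * c.x = c.x * w ∧ w * c.t * w⁻¹ = v

theorem exists_rot : Nonempty (Rot c) := by
  obtain ⟨sR, sM, cRX, cMX, hRR, hM, -, -⟩ := rot_facts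
  obtain ⟨σ, hσ⟩ := F.D.surj sR
  obtain ⟨w, hw⟩ := F.D.surj sM
  set v := w * c.t * w⁻¹ with hv'
  have hv : F.D.R pU v := hM ▸ F.D.mul (F.D.mul hw c.hT) (F.D.inv hw)
  have hwx : w * c.x = c.x * w := F.D.odd_comm c.hX hw (odd_of_cube c.x3) cMX
  have hσx : σ * c.x = c.x * σ := F.D.odd_comm c.hX hσ (odd_of_cube c.x3) cRX
  have hvx : v * c.x = c.x * v :=
    (((show Commute w c.x from hwx).mul_left (show Commute c.t c.x from c.xt.symm)).mul_left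
      (show Commute w c.x from hwx).inv_left).eq
  have hJ2 : F.D.R pJ (σ * σ) := hRR ▸ F.D.mul hσ hσ
  have h4 : σ ^ 4 = z := by
    rw [show σ ^ 4 = σ * σ * (σ * σ) by simp [pow_succ, mul_assoc]]
    exact F.D.sq22 hJ2 misc_facts.2.2.2.2.2.2.1
  have ho : orderOf σ = 8 := by
    have h1 : ¬ σ ^ 2 ^ 2 = 1 := by
      show ¬ σ ^ 4 = 1
      rw [h4]; exact F.D.z_ne
    have h2 : σ ^ 2 ^ (2 + 1) = 1 := by
      show σ ^ (4 * 2) = 1
      rw [pow_mul, h4, pow_two, F.D.z_sq]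
    haveI : Fact (Nat.Prime 2) := ⟨Nat.prime_two⟩
    rw [orderOf_eq_prime_pow h1 h2]; norm_num
  have hv2 : v * v = 1 := by
    rw [hv', show w * c.t * w⁻¹ * (w * c.t * w⁻¹) = w * (c.t * c.t) * w⁻¹ by group, c.t_sq, mul_one,
      mul_inv_cancel]
  have hsq : σ * v * (σ * v) = z := F.D.sq22 (F.D.mul hσ hv) rot_type
  refine ⟨⟨σ, v, hσ, hv, hσx, hvx, h4, ho, hv2, ?_, w, hwx, rfl⟩⟩
  rw [inv_eq_of_mul_eq_one_right hv2]
  calc v * σ * v = σ⁻¹ * (σ * v * (σ * v)) := by group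
    _ = σ⁻¹ * σ ^ 4 := by rw [hsq, h4]
    _ = σ ^ 3 := by rw [pow_succ' σ 3, inv_mul_cancel_left]

variable {c} (r : Rot c)

namespace Rot

theorem σz : r.σ * z = z * r.σ := F.D.cen r.hσ

theorem vz : r.v * z = z * r.v := F.D.cen r.hv

theorem v_notMem_Y : r.v ∉ c.Y := fun h =>
  U_facts.2 (F.D.lift_comm r.hv c.hY (c.mem_Y.1 h).2)

/-- Left multiplication by `t` exchanges the two parts of `C(z) ∩ C(x)`. -/
theorem dichotomy {b : G} (hbz : b * z = z * b) (hbx : b * c.x = c.x * b) :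
    b ∈ c.Y ↔ c.t * b ∉ c.Y := by
  obtain ⟨q, hq⟩ := F.D.total hbz
  have hqX := F.D.lift_comm hq c.hX hbx
  have key := cent_X hqX
  have htb : c.t * b * c.x = c.x * (c.t * b) := by
    rw [mul_assoc, hbx, ← mul_assoc, ← c.xt, mul_assoc]
  constructor
  · intro h h'
    exact key.1 (F.D.lift_comm hq c.hY (c.mem_Y.1 h).2)
      (F.D.lift_comm (F.D.mul c.hT hq) c.hY (c.mem_Y.1 h').2)
  · intro h
    refine c.mem_Y.2 ⟨hbx, F.D.odd_comm c.hY hq (odd_of_cube c.y3) (key.2 fun e => h ?_)⟩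
    exact c.mem_Y.2 ⟨htb, F.D.odd_comm c.hY (F.D.mul c.hT hq) (odd_of_cube c.y3) e⟩

end Rot

/-- Generators of the part on the last four points. -/
theorem exists_sl (r : Rot c) : ∃ i j g : G, PGroups.SLRel i j g ∧ i ∈ c.Y ∧ j ∈ c.Y ∧ g ∈ c.Y ∧
    ∀ u ∈ c.Y, ∃ o ∈ ocore c.Y, ∃ w ∈ closure ({i, j, g} : Set G), u = o * w := by
  obtain ⟨-, hne, tj, tk, e1, e2, e3, e4, hS⟩ := sl_facts
  set D := F.D
  set i := r.σ * r.σ with hi'
  have hi : D.R pJ i := rot_facts.2.2.2.2.1 ▸ D.mul r.hσ r.hσ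
  set d := c.d with hd'
  set j := d * i * d⁻¹ with hj'
  set k := d * j * d⁻¹ with hk'
  have hj : D.R (pD * pJ * pD⁻¹) j := D.mul (D.mul c.hD hi) (D.inv c.hD)
  have hk : D.R (pD * (pD * pJ * pD⁻¹) * pD⁻¹) k := D.mul (D.mul c.hD hj) (D.inv c.hD)
  have ti := misc_facts.2.2.2.2.2.2.1
  have hi2 : i * i = z := D.sq22 hi ti
  have hj2 : j * j = z := D.sq22 hj tj
  have hk2 : k * k = z := D.sq22 hk tk
  have hinv : i⁻¹ = i * z := inv_eq_of_mul_eq_one_right (by rw [← mul_assoc, hi2, D.z_sq])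
  have hji : j * i * j⁻¹ = i⁻¹ := by
    rw [hinv]; exact D.anti hi hj ti tj (by rw [e1]; exact tk) (by rw [e1, e2])
  have hki : k * i * k⁻¹ = i⁻¹ := by
    rw [hinv]; exact D.anti hi hk ti tk (by rw [e3]; exact tj) (by rw [e3, e4])
  have hYi : ∀ {p : Perm (Fin 10)} {u : G}, D.R p u → p * pY = pY * p → p * pX = pX * p → u ∈ c.Y :=
    fun hu hy hx => c.mem_Y.2 ⟨D.odd_comm c.hX hu (odd_of_cube c.x3) hx,
      D.odd_comm c.hY hu (odd_of_cube c.y3) hy⟩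
  have hdY : d ∈ c.Y := hYi c.hD comm_facts.2.2.1 comm_facts.2.2.2.1
  have hiY : i ∈ c.Y := hYi hi misc_facts.2.2.2.2.2.2.2.2.2.1 (by decide +kernel)
  have hjY : j ∈ c.Y := mul_mem (mul_mem hdY hiY) (inv_mem hdY)
  have hkY : k ∈ c.Y := mul_mem (mul_mem hdY hjY) (inv_mem hdY)
  have hi4 : i ^ 4 = 1 := by
    rw [show i ^ 4 = i * i * (i * i) by simp [pow_succ, mul_assoc], hi2, D.z_sq]
  -- every element of `Y`
  have hgen : ∀ M : Subgroup G, i ∈ M → j ∈ M → k ∈ M → d ∈ M →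
      ∀ u ∈ c.Y, ∃ o ∈ ocore c.Y, ∃ w ∈ M, u = o * w := by
    intro M hiM hjM hkM hdM u hu
    have hzM : z ∈ M := by have := mul_mem hiM hiM; rwa [hi2] at this
    obtain ⟨hux, huy⟩ := c.mem_Y.1 hu
    obtain ⟨q, hq⟩ := D.total (c.Y_le u hu)
    obtain ⟨a, b, ρ, hρ, hqe⟩ := cent_two (D.even hq) (D.lift_comm hq c.hY huy) (D.lift_comm hq c.hX hux)
    let P : Perm (Fin 10) → Prop := fun p => ∃ w, D.R p w ∧ w ∈ M
    have hmul : ∀ p p', P p → P p' → P (p * p') := by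
      rintro p p' ⟨w, hw, hwM⟩ ⟨w', hw', hwM'⟩
      exact ⟨w * w', D.mul hw hw', mul_mem hwM hwM'⟩
    have h1 : P 1 := ⟨1, D.one, one_mem M⟩
    have hPJ : P pJ := ⟨i, hi, hiM⟩
    have hPD : P pD := ⟨d, c.hD, hdM⟩
    have hPS : P pS := by
      rcases hS with e | e | e <;> rw [e]
      · exact ⟨i, hi, hiM⟩
      · exact ⟨j, hj, hjM⟩
      · exact ⟨k, hk, hkM⟩
    have hPρ : P ρ := by
      simp only [rlist, List.mem_cons, List.not_mem_nil, or_false] at hρ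
      rcases hρ with rfl | rfl | rfl | rfl | rfl | rfl | rfl | rfl | rfl | rfl | rfl | rfl
      · exact h1
      · exact hPS
      · exact hPJ
      · exact hmul _ _ hPS hPJ
      · exact hPD
      · exact hmul _ _ hPS hPD
      · exact hmul _ _ hPJ hPD
      · exact hmul _ _ (hmul _ _ hPS hPJ) hPD
      · exact hmul _ _ hPD hPD
      · exact hmul _ _ hPS (hmul _ _ hPD hPD)
      · exact hmul _ _ hPJ (hmul _ _ hPD hPD)
      · exact hmul _ _ (hmul _ _ hPS hPJ) (hmul _ _ hPD hPD)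
    obtain ⟨w, hw, hwM⟩ := hPρ
    obtain ⟨a', b', hab⟩ := c_grid a b
    have ho := D.mul (D.pow c.hX (a' : ℕ)) (D.pow c.hY (b' : ℕ))
    refine ⟨c.x ^ (a' : ℕ) * c.y ^ (b' : ℕ),
      mul_mem (pow_mem c.x_mem_O _) (pow_mem c.y_mem_O _), ?_⟩
    have hR : D.R q (c.x ^ (a' : ℕ) * c.y ^ (b' : ℕ) * w) := by
      rw [hqe, hab]; exact D.mul ho hw
    rcases D.eq_or hR hq with e | e
    · exact ⟨w, hwM, e⟩
    · exact ⟨w * z, mul_mem hwM hzM, by rw [e, mul_assoc]⟩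
  have hd3 : d * d * d = 1 := by rw [← pow_two, ← pow_succ, c.d3]
  have hdk : d * k * d⁻¹ = i := by
    rw [hk', hj', show d * (d * (d * i * d⁻¹) * d⁻¹) * d⁻¹ = d * d * d * i * (d * d * d)⁻¹ by group, hd3,
      one_mul, inv_one, mul_one]
  rcases D.eq_or (D.mul hi hj) (e1 ▸ hk : D.R (pJ * (pD * pJ * pD⁻¹)) k) with e | e
  · refine ⟨i, j, d, ⟨hi4, by rw [hj2, hi2], hji, c.d3, rfl, e⟩, hiY, hjY, hdY, ?_⟩
    refine hgen _ (subset_closure (by simp)) (subset_closure (by simp)) ?_ (subset_closure (by simp))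
    rw [e]
    exact mul_mem (subset_closure (by simp)) (subset_closure (by simp))
  · have hd' : d⁻¹ ^ 3 = 1 := by rw [inv_pow, c.d3, inv_one]
    have hgk : d⁻¹ * i * (d⁻¹)⁻¹ = k := by rw [inv_inv, ← hdk]; group
    have hgj : d⁻¹ * k * (d⁻¹)⁻¹ = i * k := by
      rw [inv_inv, hk', show d⁻¹ * (d * j * d⁻¹) * d = j by group, ← hk', e, mul_assoc i j z,
        D.cen hj, ← mul_assoc, ← mul_assoc, ← mul_assoc, hi2]
      -- `i i z j = j`
      simp [hj', ← mul_assoc, D.z_sq]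
    refine ⟨i, k, d⁻¹, ⟨hi4, by rw [hk2, hi2], hki, hd', hgk, hgj⟩, hiY, hkY, inv_mem hdY, ?_⟩
    refine hgen _ (subset_closure (by simp)) ?_ (subset_closure (by simp)) ?_
    · have hd'' : d ∈ closure ({i, k, d⁻¹} : Set G) := by
        have := inv_mem (subset_closure (by simp) : d⁻¹ ∈ closure ({i, k, d⁻¹} : Set G))
        rwa [inv_inv] at this
      exact mul_mem (mul_mem hd'' (subset_closure (by simp))) (inv_mem hd'')
    · have := inv_mem (subset_closure (by simp) : d⁻¹ ∈ closure ({i, k, d⁻¹} : Set G))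
      rwa [inv_inv] at this

end Cfsg.Agent.Lib.S1645.Ten
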